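import Groth.Agent.HyperLib.FreeEx

/-!
# Filling properties of Verdier hypercoverings
-/

set_option autoImplicit false
set_option backward.isDefEq.respectTransparency false

universe u

open CategoryTheory CategoryTheory.Limits Opposite

namespace Groth.Agent.HyperLib

variable {D : Type u} [SmallCategory D] {J : GrothendieckTopology D}

theorem cov_of_isLocallySurjective {A T : FormalCoproduct.{u} D} {v : A ⟶ T}
    (h : Presheaf.IsLocallySurjective J (FormalCoproduct.yoneda.map v)) : Cov J v := by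
  intro Y t
  refine J.superset_covering ?_ (h.imageSieve_mem (elt t))
  rintro Z k ⟨s, hs⟩
  obtain ⟨a, rfl⟩ := elt_surjective s
  exact ⟨a, elt_injective (by rw [← elt_comp, hs, map_elt])⟩

variable {K : SimplicialObject (FormalCoproduct.{u} D)}
  [∀ (n : ℕ) (F : (SimplexCategory.Truncated n)ᵒᵖ ⥤ FormalCoproduct.{u} D),
      (SimplexCategory.Truncated.inclusion n).op.HasRightKanExtension F]

theorem vertexSieve_of_site (hK : Hyper.IsHypercoveringSite J K) (U : D) : vertexSieve K U ∈ J U := by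
  haveI hu : Unique ((⊤_ (Dᵒᵖ ⥤ Type u)).obj (op U)) := Types.isTerminalEquivUnique _
    (IsTerminal.isTerminalObj ((evaluation _ _).obj (op U)) _ terminalIsTerminal)
  refine J.superset_covering ?_ (hK.1.imageSieve_mem hu.default)
  rintro Z k ⟨t, -⟩
  obtain ⟨a, -⟩ := elt_surjective t
  exact ⟨a⟩

theorem pair_of_site (hK : Hyper.IsHypercoveringSite J K) (Y : D)
    (t₀ t₁ : (FormalCoproduct.incl D).obj Y ⟶ K.obj (op (SimplexCategory.mk 0))) :
    ∃ S ∈ J Y, ∀ {Z : D} (k : Z ⟶ Y), S k →
      ∃ a : (FormalCoproduct.incl D).obj Z ⟶ K.obj (op (SimplexCategory.mk 1)),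
        a ≫ K.δ (1 : Fin 2) = (FormalCoproduct.incl D).map k ≫ t₀ ∧
        a ≫ K.δ (0 : Fin 2) = (FormalCoproduct.incl D).map k ≫ t₁ := by
  let P0 := FormalCoproduct.yoneda.obj (K.obj (op (SimplexCategory.mk 0)))
  let e := FunctorToTypes.binaryProductIso P0 P0
  let s := e.inv.app (op Y) (elt t₀, elt t₁)
  refine ⟨_, hK.2.1.imageSieve_mem s, ?_⟩
  rintro Z k ⟨t, ht⟩
  obtain ⟨a, rfl⟩ := elt_surjective t
  refine ⟨a, elt_injective ?_, elt_injective ?_⟩
  · rw [← elt_comp, ← map_elt]
    have h := congrArg ((prod.fst : P0 ⨯ P0 ⟶ P0).app (op Z)) ht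
    rw [← ConcreteCategory.comp_apply, ← NatTrans.comp_app, prod.lift_fst] at h
    refine h.trans ((NatTrans.naturality_apply (prod.fst : P0 ⨯ P0 ⟶ P0) k.op s).trans ?_)
    exact congrArg _ (ConcreteCategory.congr_hom
      (NatTrans.congr_app (FunctorToTypes.binaryProductIso_inv_comp_fst P0 P0) (op Y)) _)
  · rw [← elt_comp, ← map_elt]
    have h := congrArg ((prod.snd : P0 ⨯ P0 ⟶ P0).app (op Z)) ht
    rw [← ConcreteCategory.comp_apply, ← NatTrans.comp_app, prod.lift_snd] at h
    refine h.trans ((NatTrans.naturality_apply (prod.snd : P0 ⨯ P0 ⟶ P0) k.op s).trans ?_)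
    exact congrArg _ (ConcreteCategory.congr_hom
      (NatTrans.congr_app (FunctorToTypes.binaryProductIso_inv_comp_snd P0 P0) (op Y)) _)

theorem fills_of_site (hK : Hyper.IsHypercoveringSite J K) : Fills J K := by
  intro n Y F
  cases n with
  | succ n =>
    exact fill_of_cov J (cov_of_isLocallySurjective (hK.2.2 (n + 1) (by omega))) F
  | zero =>
    obtain ⟨S, hS, h⟩ := pair_of_site hK Y (F.g 0 le_rfl (SimplexCategory.δ 1))
      (F.g 0 le_rfl (SimplexCategory.δ 0))
    refine ⟨S, hS, fun {Z} k hk => ?_⟩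
    obtain ⟨a, ha, ha'⟩ := h k hk
    refine ⟨a, fun m hm θ => ?_⟩
    obtain rfl : m = 0 := Nat.le_zero.1 hm
    have hθ : θ = SimplexCategory.δ 1 ∨ θ = SimplexCategory.δ 0 := by
      have hx : ∀ x : Fin 2, x = 0 ∨ x = 1 := by decide
      rcases hx (θ.toOrderHom 0) with h | h
      · exact Or.inl (SimplexCategory.Hom.ext _ _ (OrderHom.ext _ _ (funext fun i => by
          obtain rfl : i = (0 : Fin 1) := Subsingleton.elim (α := Fin 1) _ _
          exact h)))
      · exact Or.inr (SimplexCategory.Hom.ext _ _ (OrderHom.ext _ _ (funext fun i => by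
          obtain rfl : i = (0 : Fin 1) := Subsingleton.elim (α := Fin 1) _ _
          exact h)))
    rcases hθ with rfl | rfl
    · exact ha
    · exact ha'

end Groth.Agent.HyperLib
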