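import Groth.Agent.HyperLib.Acyclic
import Groth.Agent.HyperLib.InjOver
import Groth.Agent.HyperLib.OfSite
import Groth.Agent.SiteBase.Basic

/-!
# Čech complexes of acyclic sheaves on hypercoverings
-/

set_option autoImplicit false
set_option backward.isDefEq.respectTransparency false

universe u

open CategoryTheory CategoryTheory.Limits Opposite Abelian

namespace Groth.Agent.HyperLib

section General

variable {D : Type u} [SmallCategory D] (K : SimplicialObject (FormalCoproduct.{u} D))
  (P : Dᵒᵖ ⥤ AddCommGrpCat.{u})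

/-- The cone of a family of values. -/
noncomputable def valCone {n : ℕ}
    (e : ∀ i, P.obj (op ((K.obj (op (SimplexCategory.mk n))).obj i))) :
    Cone (Discrete.functor fun i => P.obj (op ((K.obj (op (SimplexCategory.mk n))).obj i))) where
  pt := AddCommGrpCat.of (ULift.{u} ℤ)
  π := Discrete.natTrans fun i => AddCommGrpCat.ofHom
    ((zmultiplesHom _ (e i.as)).comp AddEquiv.ulift.toAddMonoidHom)

/-- The cochain with given values. -/
noncomputable def mkCochain {n : ℕ}
    (e : ∀ i, P.obj (op ((K.obj (op (SimplexCategory.mk n))).obj i))) : (cochains K P).X n :=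
  limit.lift _ (valCone K P e) ⟨1⟩

theorem valN_mkCochain {n : ℕ} (e : ∀ i, P.obj (op ((K.obj (op (SimplexCategory.mk n))).obj i)))
    {U : D} (t : (FormalCoproduct.incl D).obj U ⟶ K.obj (op (SimplexCategory.mk n))) :
    valN K P t (mkCochain K P e) = P.map (t.φ PUnit.unit).op (e (t.f PUnit.unit)) := by
  have h1 : Pi.π (fun i => P.obj (op ((K.obj (op (SimplexCategory.mk n))).obj i))) (t.f PUnit.unit)
      (mkCochain K P e) = e (t.f PUnit.unit) :=
    (ConcreteCategory.congr_hom (limit.lift_π (valCone K P e) ⟨t.f PUnit.unit⟩) ⟨1⟩).trans (one_smul ℤ _)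
  exact congrArg (P.map (t.φ PUnit.unit).op) h1

theorem valN_fromIncl_mkCochain {n : ℕ}
    (e : ∀ i, P.obj (op ((K.obj (op (SimplexCategory.mk n))).obj i)))
    (i : (K.obj (op (SimplexCategory.mk n))).I) :
    valN K P (FormalCoproduct.Hom.fromIncl i (𝟙 _)) (mkCochain K P e) = e i := by
  rw [valN_mkCochain]
  change P.map (𝟙 _).op (e i) = e i
  rw [op_id, P.map_id]
  rfl

variable {P}

theorem valN_map {P' : Dᵒᵖ ⥤ AddCommGrpCat.{u}} (α : P ⟶ P') {n : ℕ} {U : D}
    (t : (FormalCoproduct.incl D).obj U ⟶ K.obj (op (SimplexCategory.mk n))) (x : (cochains K P).X n) :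
    valN K P' t (((FormalCoproduct.cochainComplexFunctor K).map α).f n x) = α.app (op U) (valN K P t x) := by
  have e : ((FormalCoproduct.cochainComplexFunctor K).map α).f n ≫ valN K P' t =
      valN K P t ≫ α.app (op U) := by
    have h1 : ((FormalCoproduct.cochainComplexFunctor K).map α).f n =
        ((FormalCoproduct.evalOp.{u} D AddCommGrpCat.{u}).map α).app (op (K.obj (op (SimplexCategory.mk n)))) :=
      rfl
    rw [h1]
    simp [valN, α.naturality]
  rw [← ConcreteCategory.comp_apply, e]
  rfl

variable {K} {J : GrothendieckTopology D}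

theorem exists_glue (h0 : ∀ U : D, vertexSieve K U ∈ J U)
    (h1 : ∀ (Y : D) (t₀ t₁ : (FormalCoproduct.incl D).obj Y ⟶ K.obj (op (SimplexCategory.mk 0))),
      ∃ S ∈ J Y, ∀ {Z : D} (k : Z ⟶ Y), S k →
        ∃ a : (FormalCoproduct.incl D).obj Z ⟶ K.obj (op (SimplexCategory.mk 1)),
          a ≫ K.δ (1 : Fin 2) = (FormalCoproduct.incl D).map k ≫ t₀ ∧
          a ≫ K.δ (0 : Fin 2) = (FormalCoproduct.incl D).map k ≫ t₁)
    (G : Sheaf J AddCommGrpCat.{u}) (x : (cochains K G.obj).X 0)
    (hx : (cochains K G.obj).d 0 1 x = 0) (U : D) :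
    ∃ g : G.obj.obj (op U), ∀ {Z : D} (k : Z ⟶ U)
      (t : (FormalCoproduct.incl D).obj Z ⟶ K.obj (op (SimplexCategory.mk 0))),
      G.obj.map k.op g = valN K G.obj t x := by
  have hT : Presieve.IsSheaf J (G.obj ⋙ forget AddCommGrpCat.{u}) :=
    (isSheaf_iff_isSheaf_of_type _ _).1 ((sheafCompose J (forget AddCommGrpCat.{u})).obj G).2
  have hval : ∀ {V : D} (t t' : (FormalCoproduct.incl D).obj V ⟶ K.obj (op (SimplexCategory.mk 0))),
      valN K G.obj t x = valN K G.obj t' x := by
    intro V t t'
    obtain ⟨S, hS, hfill⟩ := h1 V t t'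
    refine (hT S hS).isSeparatedFor.ext fun Z k hk => ?_
    obtain ⟨a, ha, ha'⟩ := hfill k hk
    have h := agree K G.obj a x hx
    change valN K G.obj (a ≫ K.δ (1 : Fin 2)) x = valN K G.obj (a ≫ K.δ (0 : Fin 2)) x at h
    rw [ha, ha', valN_comp, valN_comp] at h
    exact h
  let fam : Presieve.FamilyOfElements (G.obj ⋙ forget AddCommGrpCat.{u}) (vertexSieve K U).arrows :=
    fun Z k hk => valN K G.obj hk.some x
  have hfam : fam.Compatible := by
    intro Z₁ Z₂ Z g₁ g₂ f₁ f₂ m₁ m₂ _
    change G.obj.map g₁.op (valN K G.obj m₁.some x) = G.obj.map g₂.op (valN K G.obj m₂.some x)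
    rw [← ConcreteCategory.comp_apply, ← ConcreteCategory.comp_apply, ← valN_comp, ← valN_comp]
    exact hval _ _
  obtain ⟨y, hy, -⟩ := hT _ (h0 U) fam hfam
  exact ⟨y, fun {Z} k t => (hy k ⟨t⟩).trans (hval _ _)⟩

end General

section Over

variable {C : Type u} [SmallCategory C] {J : GrothendieckTopology C} {X : C}
  {K : SimplicialObject (FormalCoproduct.{u} (Over X))}
  [∀ (n : ℕ) (F : (SimplexCategory.Truncated n)ᵒᵖ ⥤ FormalCoproduct.{u} (Over X)),
    (SimplexCategory.Truncated.inclusion n).op.HasRightKanExtension F]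

theorem vertexSieve_over (hK : Hyper.IsHypercovering J X K) (U : Over X) :
    vertexSieve K U ∈ J.over X U := by
  rw [GrothendieckTopology.mem_over_iff]
  refine J.superset_covering ?_ (J.pullback_stable U.hom hK.1)
  intro Z k hk
  obtain ⟨i, a, ha⟩ := (Sieve.mem_ofArrows_iff _ _ _).1 hk
  exact (Sieve.overEquiv_iff _ _).2 ⟨FormalCoproduct.Hom.fromIncl i (Over.homMk a ha.symm)⟩

theorem fills_over (hK : Hyper.IsHypercovering J X K) : Fills (J.over X) K := fun n _ F =>
  fill_of_cov (J.over X) (cov_of_isSRCovering _ (hK.2 n)) F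

theorem sections_exact {S : ShortComplex (Sheaf J AddCommGrpCat.{u})} (hS : S.ShortExact) (U : C) :
    Function.Injective (S.f.hom.app (op U)) ∧
      ∀ b, S.g.hom.app (op U) b = 0 → ∃ a, S.f.hom.app (op U) a = b := by
  let E := sheafToPresheaf J AddCommGrpCat.{u} ⋙ (evaluation _ _).obj (op U)
  haveI := hS.mono_f
  have hk := isLimitForkMapOfIsLimit' E S.zero hS.exact.fIsKernel
  have hex : (S.map E).Exact := ShortComplex.exact_of_f_is_kernel _ hk
  haveI : Mono (E.map S.f) := inferInstance
  exact ⟨(AddCommGrpCat.mono_iff_injective (E.map S.f)).1 inferInstance,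
    fun b hb => (ShortComplex.ab_exact_iff _).1 hex b hb⟩

theorem exists_coboundary_acyclic (hK : Hyper.IsHypercovering J X K) (p : ℕ)
    (F : Sheaf J AddCommGrpCat.{u}) (hF : ∀ (U : C) (q : ℕ), Subsingleton (CohSite.HU F (q + 1) U))
    (x : (cochains K (F.over X).obj).X (p + 1))
    (hx : (cochains K (F.over X).obj).d (p + 1) (p + 2) x = 0) :
    ∃ y : (cochains K (F.over X).obj).X p, (cochains K (F.over X).obj).d p (p + 1) y = x := by
  induction p generalizing F with
  | zero =>
    obtain ⟨S, hS, hS₁, hI⟩ := Groth.Agent.SiteBase.exists_injective_presentation F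
    subst hS₁
    haveI := hI
    haveI : Injective (S.X₂.over X) := injective_over J X S.X₂
    let cf : cochains K (S.X₁.over X).obj ⟶ cochains K (S.X₂.over X).obj :=
      (FormalCoproduct.cochainComplexFunctor K).map (Functor.whiskerLeft (Over.forget X).op S.f.hom)
    let cg : cochains K (S.X₂.over X).obj ⟶ cochains K (S.X₃.over X).obj :=
      (FormalCoproduct.cochainComplexFunctor K).map (Functor.whiskerLeft (Over.forget X).op S.g.hom)
    obtain ⟨y, hy⟩ := exists_coboundary (fills_over hK) (vertexSieve_over hK) (S.X₂.over X)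
      (cf.f 1 x) (by
        rw [← ConcreteCategory.comp_apply]
        erw [cf.comm 1 2]
        rw [ConcreteCategory.comp_apply]
        erw [hx]
        exact map_zero _)
    let w : (cochains K (S.X₃.over X).obj).X 0 := cg.f 0 y
    have hw : (cochains K (S.X₃.over X).obj).d 0 1 w = 0 := by
      change (cochains K (S.X₃.over X).obj).d 0 1 (cg.f 0 y) = 0
      rw [← ConcreteCategory.comp_apply]
      erw [cg.comm 0 1]
      rw [ConcreteCategory.comp_apply]
      erw [hy]
      refine cochain_ext K _ fun i => ?_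
      erw [valN_map, valN_map]
      rw [map_zero]
      change (S.f.hom ≫ S.g.hom).app _ _ = 0
      rw [← ObjectProperty.FullSubcategory.comp_hom, S.zero]
      rfl
    obtain ⟨g, hg⟩ := exists_glue (vertexSieve_over hK)
      (fun Y t₀ t₁ => fill_pair (cov_of_isSRCovering _ (hK.2 0)) t₀ t₁) (S.X₃.over X) w hw (Over.mk (𝟙 X))
    obtain ⟨l, hl⟩ := Groth.Agent.SiteBase.sections_surjective hS X (hF X 0) g
    let l' : (S.X₂.over X).obj.obj (op (Over.mk (𝟙 X))) := l
    let sec : ∀ U : Over X, (S.X₂.over X).obj.obj (op U) := fun U =>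
      (S.X₂.over X).obj.map (Over.homMk U.hom (Category.comp_id _) : U ⟶ Over.mk (𝟙 X)).op l'
    have hker : ∀ i : (K.obj (op (SimplexCategory.mk 0))).I, ∃ a,
        (Functor.whiskerLeft (Over.forget X).op S.f.hom).app (op ((K.obj (op (SimplexCategory.mk 0))).obj i)) a =
          valN K (S.X₂.over X).obj (FormalCoproduct.Hom.fromIncl i (𝟙 _)) y -
            sec ((K.obj (op (SimplexCategory.mk 0))).obj i) := by
      intro i
      refine (sections_exact hS _).2 _ ?_
      refine (map_sub (S.g.hom.app _).hom _ _).trans (sub_eq_zero.2 ?_)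
      refine (valN_map K (Functor.whiskerLeft (Over.forget X).op S.g.hom) _ y).symm.trans ?_
      refine Eq.trans ?_ (NatTrans.naturality_apply S.g.hom _ l).symm
      refine (hg (Over.homMk ((K.obj (op (SimplexCategory.mk 0))).obj i).hom (Category.comp_id _))
        (FormalCoproduct.Hom.fromIncl i (𝟙 _))).symm.trans ?_
      exact congrArg _ hl.symm
    choose a ha using hker
    refine ⟨mkCochain K _ a, cochain_ext K _ fun j => ?_⟩
    apply (sections_exact hS _).1
    have key : ∀ {U : Over X} (t : (FormalCoproduct.incl (Over X)).obj U ⟶ K.obj (op (SimplexCategory.mk 0))),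
        (Functor.whiskerLeft (Over.forget X).op S.f.hom).app (op U)
            (valN K (S.X₁.over X).obj t (mkCochain K _ a)) =
          valN K (S.X₂.over X).obj t y - sec U := by
      intro U t
      rw [valN_mkCochain]
      refine (NatTrans.naturality_apply (Functor.whiskerLeft (Over.forget X).op S.f.hom)
        (t.φ PUnit.unit).op _).trans ?_
      refine (congrArg _ (ha _)).trans ((map_sub ((S.X₂.over X).obj.map (t.φ PUnit.unit).op).hom _ _).trans ?_)
      refine congrArg₂ (· - ·) ?_ ?_
      · refine (ConcreteCategory.congr_hom (valN_comp K (S.X₂.over X).obj (t.φ PUnit.unit)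
          (FormalCoproduct.Hom.fromIncl (t.f PUnit.unit) (𝟙 _))) y).symm.trans ?_
        exact congrArg (fun t => valN K (S.X₂.over X).obj t y)
          (incl_hom_ext rfl ((Category.comp_id _).trans (Category.comp_id _)))
      · change ((S.X₂.over X).obj.map _ ≫ (S.X₂.over X).obj.map _) l' = _
        rw [← Functor.map_comp, ← op_comp]
        exact congrArg (fun k : U ⟶ Over.mk (𝟙 X) => (S.X₂.over X).obj.map k.op l')
          (Over.OverMorphism.ext (Over.w (t.φ PUnit.unit)))
    rw [d_valN]
    simp only [map_sum, map_zsmul]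
    refine (Finset.sum_congr rfl fun i _ => congrArg _ (key _)).trans ?_
    rw [Fin.sum_univ_two]
    refine Eq.trans ?_ (valN_map K (Functor.whiskerLeft (Over.forget X).op S.f.hom) _ x)
    refine Eq.trans ?_ (congrArg _ hy)
    refine Eq.trans ?_ (d_valN K (S.X₂.over X).obj _ y).symm
    rw [Fin.sum_univ_two]
    simp
    abel
  | succ p ih =>
    obtain ⟨S, hS, hS₁, hI⟩ := Groth.Agent.SiteBase.exists_injective_presentation F
    subst hS₁
    haveI := hI
    haveI : Injective (S.X₂.over X) := injective_over J X S.X₂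
    let cf : cochains K (S.X₁.over X).obj ⟶ cochains K (S.X₂.over X).obj :=
      (FormalCoproduct.cochainComplexFunctor K).map (Functor.whiskerLeft (Over.forget X).op S.f.hom)
    let cg : cochains K (S.X₂.over X).obj ⟶ cochains K (S.X₃.over X).obj :=
      (FormalCoproduct.cochainComplexFunctor K).map (Functor.whiskerLeft (Over.forget X).op S.g.hom)
    obtain ⟨y, hy⟩ := exists_coboundary (fills_over hK) (vertexSieve_over hK) (S.X₂.over X)
      (cf.f (p + 2) x) (by
        rw [← ConcreteCategory.comp_apply]
        erw [cf.comm (p + 2) (p + 3)]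
        rw [ConcreteCategory.comp_apply]
        erw [hx]
        exact map_zero _)
    obtain ⟨w, hw⟩ := ih S.X₃
      (fun U q => Groth.Agent.SiteBase.subsingleton_quot hS U (q + 1)
        (Groth.Agent.SiteBase.subsingleton_of_injective U S.X₂ q) (hF U (q + 1)))
      (cg.f (p + 1) y) (by
        rw [← ConcreteCategory.comp_apply]
        erw [cg.comm (p + 1) (p + 2)]
        rw [ConcreteCategory.comp_apply]
        erw [hy]
        refine cochain_ext K _ fun i => ?_
        erw [valN_map, valN_map]
        rw [map_zero]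
        change (S.f.hom ≫ S.g.hom).app _ _ = 0
        rw [← ObjectProperty.FullSubcategory.comp_hom, S.zero]
        rfl)
    choose l hl using fun i : (K.obj (op (SimplexCategory.mk p))).I =>
      Groth.Agent.SiteBase.sections_surjective hS ((K.obj (op (SimplexCategory.mk p))).obj i).left
        (hF _ 0) (valN K (S.X₃.over X).obj (FormalCoproduct.Hom.fromIncl i (𝟙 _)) w)
    let w' := mkCochain K (S.X₂.over X).obj l
    have hw' : cg.f p w' = w := cochain_ext K _ fun i => by
      erw [valN_map]
      change S.g.hom.app _ (valN K _ _ (mkCochain K (S.X₂.over X).obj l)) = _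
      rw [valN_fromIncl_mkCochain]
      exact hl i
    let y' := y - (cochains K (S.X₂.over X).obj).d p (p + 1) w'
    have hg0 : cg.f (p + 1) y' = 0 := by
      rw [show cg.f (p + 1) y' = cg.f (p + 1) y - cg.f (p + 1) ((cochains K (S.X₂.over X).obj).d p (p + 1) w')
        from map_sub (cg.f (p + 1)).hom _ _, sub_eq_zero, ← hw, ← hw', ← ConcreteCategory.comp_apply]
      erw [cg.comm p (p + 1)]
      rfl
    choose a ha using fun i : (K.obj (op (SimplexCategory.mk (p + 1)))).I =>
      (sections_exact hS ((K.obj (op (SimplexCategory.mk (p + 1)))).obj i).left).2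
        (valN K (S.X₂.over X).obj (FormalCoproduct.Hom.fromIncl i (𝟙 _)) y') (by
          refine (valN_map K (Functor.whiskerLeft (Over.forget X).op S.g.hom) _ y').symm.trans ?_
          erw [hg0]
          exact map_zero _)
    have hfa : cf.f (p + 1) (mkCochain K (S.X₁.over X).obj a) = y' := cochain_ext K _ fun i => by
      erw [valN_map]
      change S.f.hom.app _ (valN K _ _ (mkCochain K (S.X₁.over X).obj a)) = _
      rw [valN_fromIncl_mkCochain]
      exact ha i
    refine ⟨mkCochain K (S.X₁.over X).obj a, cochain_ext K _ fun j => ?_⟩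
    apply (sections_exact hS _).1
    refine ((valN_map K (Functor.whiskerLeft (Over.forget X).op S.f.hom) _ _).symm.trans ?_).trans
      (valN_map K (Functor.whiskerLeft (Over.forget X).op S.f.hom) _ x)
    refine congrArg _ ?_
    change cf.f (p + 2) ((cochains K (S.X₁.over X).obj).d (p + 1) (p + 2) _) = cf.f (p + 2) x
    rw [← ConcreteCategory.comp_apply]
    erw [← cf.comm (p + 1) (p + 2)]
    rw [ConcreteCategory.comp_apply, hfa, map_sub]
    erw [hy]
    rw [← ConcreteCategory.comp_apply ((cochains K (S.X₂.over X).obj).d p (p + 1)),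
      HomologicalComplex.d_comp_d]
    exact sub_zero _

end Over

end Groth.Agent.HyperLib
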