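import Groth.Agent.HyperLib.CxDerived
import Groth.Agent.HyperLib.Shift
import Groth.Agent.SpSeqLib.SiteDerived

/-!
# The spectral sequence of a hypercovering
-/

set_option autoImplicit false
set_option backward.isDefEq.respectTransparency false

universe u

open CategoryTheory CategoryTheory.Limits Opposite

namespace Groth.Agent.HyperLib

variable {D : Type u} [SmallCategory D] (K : SimplicialObject (FormalCoproduct.{u} D))

/-- Čech cochains as a functor of the presheaf. -/
noncomputable abbrev cochF : (Dᵒᵖ ⥤ AddCommGrpCat.{u}) ⥤ CochainComplex AddCommGrpCat.{u} ℕ :=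
  FormalCoproduct.cochainComplexFunctor K

instance additive_cochF : (cochF K).Additive where
  map_add {P P'} {f g} := by
    ext n x
    refine cochain_ext K P' fun i => ?_
    change valN K P' _ (((cochF K).map (f + g)).f n x) =
      valN K P' _ (((cochF K).map f).f n x + ((cochF K).map g).f n x)
    rw [map_add, valN_map, valN_map, valN_map]
    rfl

instance preservesHomology_cochF : (cochF K).PreservesHomology := by
  apply Functor.preservesHomology_of_map_exact
  intro S hS
  rw [HomologicalComplex.exact_iff_degreewise_exact]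
  intro n
  rw [ShortComplex.ab_exact_iff]
  intro x hx
  change ((cochF K).map S.g).f n x = 0 at hx
  choose a ha using fun i => (ShortComplex.ab_exact_iff _).1
    (hS.map ((evaluation Dᵒᵖ AddCommGrpCat.{u}).obj (op ((K.obj (op (SimplexCategory.mk n))).obj i))))
    (valN K S.X₂ (FormalCoproduct.Hom.fromIncl i (𝟙 _)) x) (by
      refine (valN_map K S.g _ x).symm.trans ?_
      rw [hx, map_zero])
  refine ⟨mkCochain K S.X₁ a, cochain_ext K S.X₂ fun i => ?_⟩
  change valN K S.X₂ _ (((cochF K).map S.f).f n (mkCochain K S.X₁ a)) = _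
  rw [valN_map, valN_fromIncl_mkCochain]
  exact ha i

variable {K} {J : GrothendieckTopology D}

/-- The integers. -/
noncomputable abbrev Zl : AddCommGrpCat.{u} := AddCommGrpCat.of (ULift.{u} ℤ)

theorem hom_ext_one {A : AddCommGrpCat.{u}} {f g : Zl.{u} ⟶ A} (h : f ⟨1⟩ = g ⟨1⟩) : f = g := by
  refine AddCommGrpCat.hom_ext (AddMonoidHom.ext fun z => ?_)
  obtain ⟨z⟩ := z
  have e : (⟨z⟩ : ULift.{u} ℤ) = z • (⟨1⟩ : ULift.{u} ℤ) := by
    ext
    simp
  rw [e, map_zsmul, map_zsmul]
  exact congrArg (z • ·) h

variable (J) in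
/-- The constant sheaf of integers. -/
noncomputable abbrev cstZ : Sheaf J AddCommGrpCat.{u} := (constantSheaf J AddCommGrpCat.{u}).obj Zl

variable (J) in
/-- The canonical section of the constant sheaf. -/
noncomputable def oneSec (U : D) : (cstZ J).obj.obj (op U) :=
  (toSheafify J ((Functor.const Dᵒᵖ).obj Zl)).app (op U) (⟨1⟩ : ULift.{u} ℤ)

theorem map_oneSec {U V : D} (k : V ⟶ U) : (cstZ J).obj.map k.op (oneSec J U) = oneSec J V :=
  (NatTrans.naturality_apply (toSheafify J ((Functor.const Dᵒᵖ).obj Zl)) k.op _).symm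

theorem app_oneSec_res {F : Sheaf J AddCommGrpCat.{u}} (f : cstZ J ⟶ F) {U V : D} (k : V ⟶ U) :
    F.obj.map k.op (f.hom.app (op U) (oneSec J U)) = f.hom.app (op V) (oneSec J V) := by
  rw [← map_oneSec k]
  exact (NatTrans.naturality_apply f.hom k.op _).symm

variable (K) in
/-- The cochain of a map out of the constant sheaf. -/
noncomputable def cstCochain {F : Sheaf J AddCommGrpCat.{u}} (f : cstZ J ⟶ F) : (cochains K F.obj).X 0 :=
  mkCochain K F.obj fun _ => f.hom.app (op _) (oneSec J _)

theorem valN_cstCochain {F : Sheaf J AddCommGrpCat.{u}} (f : cstZ J ⟶ F) {U : D}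
    (t : (FormalCoproduct.incl D).obj U ⟶ K.obj (op (SimplexCategory.mk 0))) :
    valN K F.obj t (cstCochain K f) = f.hom.app (op U) (oneSec J U) := by
  rw [cstCochain, valN_mkCochain]
  exact app_oneSec_res f _

variable (K) in
/-- The cochain, additively. -/
noncomputable def cstHom (F : Sheaf J AddCommGrpCat.{u}) :
    AddCommGrpCat.of (cstZ J ⟶ F) ⟶ (cochains K F.obj).X 0 :=
  AddCommGrpCat.ofHom (AddMonoidHom.mk' (cstCochain K) fun f g => cochain_ext K _ fun i => by
    rw [map_add, valN_cstCochain, valN_cstCochain, valN_cstCochain]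
    rfl)

theorem cstHom_d (F : Sheaf J AddCommGrpCat.{u}) : cstHom K F ≫ (cochains K F.obj).d 0 1 = 0 := by
  refine AddCommGrpCat.hom_ext (AddMonoidHom.ext fun f => cochain_ext K F.obj fun i => ?_)
  change valN K F.obj _ ((cochains K F.obj).d 0 1 (cstCochain K f)) = valN K F.obj _ 0
  rw [d_valN, map_zero, Fin.sum_univ_two, valN_cstCochain, valN_cstCochain]
  simp

variable (K) in
/-- The comparison with cocycles of degree zero. -/
noncomputable def cstToCycles (F : Sheaf J AddCommGrpCat.{u}) :
    AddCommGrpCat.of (cstZ J ⟶ F) ⟶ CxDerived.Z0.obj ((cochF K).obj F.obj) :=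
  (cochains K F.obj).liftCycles (cstHom K F) 1 (by simp) (cstHom_d F)

theorem iCycles_cstToCycles (F : Sheaf J AddCommGrpCat.{u}) (f : cstZ J ⟶ F) :
    (cochains K F.obj).iCycles 0 (cstToCycles K F f) = cstCochain K f :=
  (ConcreteCategory.comp_apply _ _ _).symm.trans
    (ConcreteCategory.congr_hom ((cochains K F.obj).liftCycles_i (cstHom K F) 1 (by simp) (cstHom_d F)) f)

variable [∀ (n : ℕ) (F : (SimplexCategory.Truncated n)ᵒᵖ ⥤ FormalCoproduct.{u} D),
      (SimplexCategory.Truncated.inclusion n).op.HasRightKanExtension F]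

theorem bijective_cstToCycles (hK : Hyper.IsHypercoveringSite J K) (F : Sheaf J AddCommGrpCat.{u}) :
    Function.Bijective (cstToCycles K F) := by
  have hT : Presieve.IsSheaf J (F.obj ⋙ forget AddCommGrpCat.{u}) :=
    (isSheaf_iff_isSheaf_of_type _ _).1 ((sheafCompose J (forget AddCommGrpCat.{u})).obj F).2
  constructor
  · intro f g h
    apply ((sheafificationAdjunction J AddCommGrpCat.{u}).homEquiv ((Functor.const Dᵒᵖ).obj Zl) F).injective
    refine NatTrans.ext (funext fun U => hom_ext_one ?_)
    obtain ⟨U, rfl⟩ : ∃ V, op V = U := ⟨U.unop, rfl⟩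
    rw [Adjunction.homEquiv_unit, Adjunction.homEquiv_unit]
    change f.hom.app (op U) (oneSec J U) = g.hom.app (op U) (oneSec J U)
    refine (hT _ (vertexSieve_of_site hK U)).isSeparatedFor.ext fun Z k hk => ?_
    obtain ⟨t⟩ := hk
    change F.obj.map k.op (f.hom.app (op U) (oneSec J U)) = F.obj.map k.op (g.hom.app (op U) (oneSec J U))
    rw [app_oneSec_res, app_oneSec_res, ← valN_cstCochain f t, ← valN_cstCochain g t,
      ← iCycles_cstToCycles, ← iCycles_cstToCycles, h]
  · intro z
    let c : (cochains K F.obj).X 0 := (cochains K F.obj).iCycles 0 z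
    have hc : (cochains K F.obj).d 0 1 c = 0 :=
      (ConcreteCategory.comp_apply _ _ _).symm.trans (ConcreteCategory.congr_hom ((cochains K F.obj).iCycles_d 0 1) z)
    choose g hg using exists_glue (vertexSieve_of_site hK) (pair_of_site hK) F c hc
    have hnat : ∀ {U V : D} (k : V ⟶ U), F.obj.map k.op (g U) = g V := by
      intro U V k
      refine (hT _ (vertexSieve_of_site hK V)).isSeparatedFor.ext fun Z k' hk' => ?_
      obtain ⟨t⟩ := hk'
      change F.obj.map k'.op (F.obj.map k.op (g U)) = F.obj.map k'.op (g V)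
      rw [← ConcreteCategory.comp_apply, ← F.obj.map_comp, ← op_comp, hg U (k' ≫ k) t, hg V k' t]
    let φ : (Functor.const Dᵒᵖ).obj Zl ⟶ F.obj :=
      { app := fun U => AddCommGrpCat.ofHom ((zmultiplesHom _ (g U.unop)).comp AddEquiv.ulift.toAddMonoidHom)
        naturality := fun U V k => hom_ext_one (by
          change (1 : ℤ) • g V.unop = F.obj.map k ((1 : ℤ) • g U.unop)
          rw [one_smul, one_smul]
          exact (hnat k.unop).symm) }
    let f : cstZ J ⟶ F := ((sheafificationAdjunction J AddCommGrpCat.{u}).homEquiv _ F).symm φ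
    refine ⟨f, (AddCommGrpCat.mono_iff_injective ((cochains K F.obj).iCycles 0)).1 inferInstance ?_⟩
    rw [iCycles_cstToCycles]
    refine cochain_ext K _ fun i => ?_
    rw [valN_cstCochain]
    have h1 : f.hom.app (op _) (oneSec J _) = g ((K.obj (op (SimplexCategory.mk 0))).obj i) := by
      have e := Equiv.apply_symm_apply ((sheafificationAdjunction J AddCommGrpCat.{u}).homEquiv _ F) φ
      rw [Adjunction.homEquiv_unit] at e
      refine (ConcreteCategory.congr_hom (NatTrans.congr_app e (op ((K.obj (op (SimplexCategory.mk 0))).obj i))) (⟨1⟩ : ULift.{u} ℤ)).trans ?_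
      exact one_smul ℤ _
    rw [h1]
    refine Eq.trans ?_ (hg _ (𝟙 _) (FormalCoproduct.Hom.fromIncl i (𝟙 _)))
    rw [op_id, F.obj.map_id]
    rfl

variable (K) in
/-- Čech cohomology of degree zero represents global sections. -/
noncomputable def cyclesIsoCoyoneda (hK : Hyper.IsHypercoveringSite J K) :
    (sheafToPresheaf J AddCommGrpCat.{u} ⋙ cochF K) ⋙ CxDerived.Z0 ≅
      preadditiveCoyoneda.obj (op (cstZ J)) :=
  (NatIso.ofComponents (fun F =>
      haveI : IsIso (cstToCycles K F) := (ConcreteCategory.isIso_iff_bijective _).2 (bijective_cstToCycles hK F)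
      asIso (cstToCycles K F))
    (fun {F F'} g => by
      haveI : Mono ((cochains K F'.obj).iCycles 0) := inferInstance
      rw [← cancel_mono ((cochains K F'.obj).iCycles 0)]
      refine AddCommGrpCat.hom_ext (AddMonoidHom.ext fun f => ?_)
      change (cochains K F'.obj).iCycles 0 (cstToCycles K F' (f ≫ g)) =
        (cochains K F'.obj).iCycles 0 (HomologicalComplex.cyclesMap ((cochF K).map g.hom) 0 (cstToCycles K F f))
      rw [iCycles_cstToCycles, ← ConcreteCategory.comp_apply (HomologicalComplex.cyclesMap _ 0),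
        HomologicalComplex.cyclesMap_i, ConcreteCategory.comp_apply, iCycles_cstToCycles]
      refine cochain_ext K _ fun i => ?_
      rw [valN_map, valN_cstCochain, valN_cstCochain]
      rfl)).symm

end Groth.Agent.HyperLib
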