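import Groth.Agent.HyperLib.FreeEx

/-!
# Čech complexes of injective sheaves on hypercoverings
-/

set_option autoImplicit false
set_option backward.isDefEq.respectTransparency false

universe u

open CategoryTheory CategoryTheory.Limits Opposite

namespace Groth.Agent.HyperLib

variable {D : Type u} [SmallCategory D] (K : SimplicialObject (FormalCoproduct.{u} D))
  (P : Dᵒᵖ ⥤ AddCommGrpCat.{u})

/-- The Čech complex. -/
noncomputable abbrev cochains : CochainComplex AddCommGrpCat.{u} ℕ :=
  (FormalCoproduct.cochainComplexFunctor K).obj P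

/-- Evaluation of a cochain on a simplex. -/
noncomputable def valN {n : ℕ} {U : D}
    (t : (FormalCoproduct.incl D).obj U ⟶ K.obj (op (SimplexCategory.mk n))) :
    (cochains K P).X n ⟶ P.obj (op U) :=
  Pi.π (fun i => P.obj (op ((K.obj (op (SimplexCategory.mk n))).obj i))) (t.f PUnit.unit) ≫
    P.map (t.φ PUnit.unit).op

theorem valN_comp {n : ℕ} {U V : D} (k : V ⟶ U)
    (t : (FormalCoproduct.incl D).obj U ⟶ K.obj (op (SimplexCategory.mk n))) :
    valN K P ((FormalCoproduct.incl D).map k ≫ t) = valN K P t ≫ P.map k.op := by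
  simp [valN, ← P.map_comp, ← op_comp]
  rfl

theorem d_cochains (n : ℕ) : (cochains K P).d n (n + 1) =
    ∑ i : Fin (n + 2), (-1 : ℤ) ^ (i : ℕ) •
      ((FormalCoproduct.cosimplicialObjectFunctor K).obj P).δ i :=
  CochainComplex.of_d (fun n => ((FormalCoproduct.cosimplicialObjectFunctor K).obj P).obj (SimplexCategory.mk n))
    (AlgebraicTopology.AlternatingCofaceMapComplex.objD ((FormalCoproduct.cosimplicialObjectFunctor K).obj P)) n

theorem δ_valN {n : ℕ} {U : D} (a : (FormalCoproduct.incl D).obj U ⟶ K.obj (op (SimplexCategory.mk (n + 1))))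
    (i : Fin (n + 2)) :
    ((FormalCoproduct.cosimplicialObjectFunctor K).obj P).δ i ≫ valN K P a = valN K P (a ≫ K.δ i) := by
  change ((FormalCoproduct.evalOp.{u} D AddCommGrpCat.{u}).obj P).map (K.δ i).op ≫ valN K P a = _
  simp [valN, Pi.lift_π, ← P.map_comp, ← op_comp]

theorem d_valN {n : ℕ} {U : D} (a : (FormalCoproduct.incl D).obj U ⟶ K.obj (op (SimplexCategory.mk (n + 1))))
    (y : (cochains K P).X n) :
    valN K P a ((cochains K P).d n (n + 1) y) =
      ∑ i : Fin (n + 2), (-1 : ℤ) ^ (i : ℕ) • valN K P (a ≫ K.δ i) y := by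
  have e : (cochains K P).d n (n + 1) ≫ valN K P a =
      ∑ i : Fin (n + 2), (-1 : ℤ) ^ (i : ℕ) • valN K P (a ≫ K.δ i) := by
    rw [d_cochains, Preadditive.sum_comp]
    exact Finset.sum_congr rfl fun i _ => by rw [Preadditive.zsmul_comp, δ_valN]
  rw [← ConcreteCategory.comp_apply, e]
  let ev : ((cochains K P).X n ⟶ P.obj (op U)) →+ P.obj (op U) :=
    AddMonoidHom.mk' (fun g => g y) fun _ _ => rfl
  exact (map_sum ev _ _).trans (Finset.sum_congr rfl fun i _ => map_zsmul ev _ _)

theorem cochain_ext {n : ℕ} {x y : (cochains K P).X n}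
    (h : ∀ i, valN K P (FormalCoproduct.Hom.fromIncl i (𝟙 ((K.obj (op (SimplexCategory.mk n))).obj i))) x =
      valN K P (FormalCoproduct.Hom.fromIncl i (𝟙 _)) y) : x = y := by
  refine Concrete.limit_ext _ _ _ fun ⟨i⟩ => ?_
  have e : valN K P (FormalCoproduct.Hom.fromIncl i (𝟙 ((K.obj (op (SimplexCategory.mk n))).obj i))) =
      Pi.π (fun i => P.obj (op ((K.obj (op (SimplexCategory.mk n))).obj i))) i := by
    change _ ≫ P.map (𝟙 _).op = _
    rw [op_id, P.map_id, Category.comp_id]
    rfl
  have h' := h i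
  rw [e] at h'
  exact h'

/-- The map out of the free complex given by a cochain. -/
noncomputable def ofCochain {n : ℕ} (x : (cochains K P).X n) : (freePCx K).X n ⟶ P where
  app V := AddCommGrpCat.ofHom
    (FreeAbelianGroup.lift fun s => valN K P ((eltEquiv V.unop _).symm s) x)
  naturality V W f := by
    refine AddCommGrpCat.hom_ext (FreeAbelianGroup.lift_ext _ _ fun s => ?_)
    obtain ⟨t, rfl⟩ := elt_surjective s
    change FreeAbelianGroup.lift _ (((freePCx K).X n).map f.unop.op (chain K t)) =
      P.map f (FreeAbelianGroup.lift _ (FreeAbelianGroup.of (elt t)))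
    rw [res_chain, FreeAbelianGroup.lift_apply_of, eltEquiv_symm_elt]
    refine (FreeAbelianGroup.lift_apply_of _ _).trans ?_
    rw [eltEquiv_symm_elt, valN_comp]
    rfl

theorem ofCochain_chain {n : ℕ} (x : (cochains K P).X n) {U : D}
    (t : (FormalCoproduct.incl D).obj U ⟶ K.obj (op (SimplexCategory.mk n))) :
    (ofCochain K P x).app (op U) (chain K t) = valN K P t x := by
  refine (FreeAbelianGroup.lift_apply_of _ (elt t)).trans ?_
  exact congrArg (fun t => valN K P t x) (eltEquiv_symm_elt t)

theorem d_ofCochain {n : ℕ} (y : (cochains K P).X n) :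
    (freePCx K).d (n + 1) n ≫ ofCochain K P y = ofCochain K P ((cochains K P).d n (n + 1) y) := by
  refine NatTrans.ext (funext fun V => ?_)
  obtain ⟨U, rfl⟩ : ∃ U, op U = V := ⟨V.unop, rfl⟩
  refine AddCommGrpCat.hom_ext (FreeAbelianGroup.lift_ext _ _ fun s => ?_)
  obtain ⟨t, rfl⟩ := elt_surjective s
  change (ofCochain K P y).app (op U) (((freePCx K).d (n + 1) n).app (op U) (chain K t)) =
    (ofCochain K P ((cochains K P).d n (n + 1) y)).app (op U) (chain K t)
  rw [d_chain, map_sum, ofCochain_chain, d_valN]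
  exact Finset.sum_congr rfl fun i _ => by rw [map_zsmul, ofCochain_chain]

/-- Cochain groups vanish in cohomology when every cocycle is a coboundary. -/
theorem isZero_homology_of_cocycles (C : CochainComplex AddCommGrpCat.{u} ℕ) (n : ℕ)
    (h : ∀ x : C.X (n + 1), C.d (n + 1) (n + 2) x = 0 → ∃ y : C.X n, C.d n (n + 1) y = x) :
    IsZero (C.homology (n + 1)) := by
  haveI : Subsingleton (C.homology (n + 1) : AddCommGrpCat.{u}) := by
    refine subsingleton_of_forall_eq 0 fun a => ?_
    obtain ⟨z, rfl⟩ := (AddCommGrpCat.epi_iff_surjective (C.homologyπ (n + 1))).1 inferInstance a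
    obtain ⟨y, hy⟩ := h (C.iCycles (n + 1) z) (by
      rw [← ConcreteCategory.comp_apply, C.iCycles_d]
      rfl)
    have e : C.toCycles n (n + 1) y = z := by
      apply (AddCommGrpCat.mono_iff_injective (C.iCycles (n + 1))).1 inferInstance
      rw [← ConcreteCategory.comp_apply, C.toCycles_i, hy]
    rw [← e, ← ConcreteCategory.comp_apply, C.toCycles_comp_homologyπ]
    rfl
  exact AddCommGrpCat.isZero_of_subsingleton _

variable {K} {J : GrothendieckTopology D}

/-- Every cocycle with values in an injective sheaf is a coboundary. -/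
theorem exists_coboundary (hK : Fills J K) (h0 : ∀ U : D, vertexSieve K U ∈ J U)
    (I : Sheaf J AddCommGrpCat.{u}) [Injective I] {n : ℕ} (x : (cochains K I.obj).X (n + 1))
    (hx : (cochains K I.obj).d (n + 1) (n + 2) x = 0) :
    ∃ y : (cochains K I.obj).X n, (cochains K I.obj).d n (n + 1) y = x := by
  let F := presheafToSheaf J AddCommGrpCat.{u}
  let adj := sheafificationAdjunction J AddCommGrpCat.{u}
  let Q := freePCx K
  let G := (F.mapHomologicalComplex _).obj Q
  have e : Hyper.freeChainCx J K = G :=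
    (CategoryTheory.Functor.congr_obj (AlgebraicTopology.map_alternatingFaceMapComplex F)
      (freeSimp K)).symm
  have hex : G.ExactAt (n + 1) := by
    rw [HomologicalComplex.exactAt_iff_isZero_homology, ← e]
    exact freeChainCx_isZero J hK h0 n
  have hex' : (G.sc' (n + 2) (n + 1) n).Exact :=
    (G.exactAt_iff' (n + 2) (n + 1) n (by simp) (by simp)).1 hex
  have h2 : Q.d (n + 2) (n + 1) ≫ ofCochain K I.obj x = 0 := by
    rw [d_ofCochain, hx]
    refine NatTrans.ext (funext fun V => ?_)
    refine AddCommGrpCat.hom_ext (FreeAbelianGroup.lift_ext _ _ fun s => ?_)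
    change FreeAbelianGroup.lift _ (FreeAbelianGroup.of s) = 0
    rw [FreeAbelianGroup.lift_apply_of, map_zero]
  let g : G.X (n + 1) ⟶ I := (adj.homEquiv _ _).symm (ofCochain K I.obj x)
  have hg : (G.sc' (n + 2) (n + 1) n).f ≫ g = 0 := by
    change F.map (Q.d (n + 2) (n + 1)) ≫ (adj.homEquiv _ _).symm _ = 0
    rw [← Adjunction.homEquiv_naturality_left_symm, h2]
    refine (adj.homEquiv _ _).symm_apply_eq.2 ?_
    erw [Adjunction.homEquiv_unit, Functor.map_zero, comp_zero]
  let ψ : G.X n ⟶ I := hex'.descToInjective g hg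
  have hψ : F.map (Q.d (n + 1) n) ≫ ψ = g := hex'.comp_descToInjective g hg
  let φ : Q.X n ⟶ I.obj := adj.homEquiv _ _ ψ
  have hφ : Q.d (n + 1) n ≫ φ = ofCochain K I.obj x := by
    refine (adj.homEquiv_naturality_left _ _).symm.trans ?_
    erw [hψ]
    exact Equiv.apply_symm_apply _ _
  let c : Cone (Discrete.functor fun i => I.obj.obj (op ((K.obj (op (SimplexCategory.mk n))).obj i))) :=
    { pt := AddCommGrpCat.of (ULift.{u} ℤ)
      π := Discrete.natTrans fun i => AddCommGrpCat.ofHom
        ((zmultiplesHom _ (φ.app (op _) (chain K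
          (FormalCoproduct.Hom.fromIncl i.as (𝟙 ((K.obj (op (SimplexCategory.mk n))).obj i.as)))))).comp
            AddEquiv.ulift.toAddMonoidHom) }
  let y : (cochains K I.obj).X n := limit.lift _ c ⟨1⟩
  have hy : ∀ {U : D} (t : (FormalCoproduct.incl D).obj U ⟶ K.obj (op (SimplexCategory.mk n))),
      valN K I.obj t y = φ.app (op U) (chain K t) := by
    intro U t
    have h1 : Pi.π (fun i => I.obj.obj (op ((K.obj (op (SimplexCategory.mk n))).obj i))) (t.f PUnit.unit) y =
        φ.app (op _) (chain K (FormalCoproduct.Hom.fromIncl (t.f PUnit.unit) (𝟙 _))) :=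
      (ConcreteCategory.congr_hom (limit.lift_π c ⟨t.f PUnit.unit⟩) ⟨1⟩).trans (one_smul ℤ _)
    refine (congrArg (I.obj.map (t.φ PUnit.unit).op) h1).trans ?_
    refine (NatTrans.naturality_apply φ (t.φ PUnit.unit).op _).symm.trans ?_
    refine congrArg _ ((res_chain K (t.φ PUnit.unit) _).trans (congrArg (chain K) ?_))
    refine incl_hom_ext rfl ?_
    exact (Category.comp_id _).trans (Category.comp_id _)
  refine ⟨y, cochain_ext K I.obj fun j => ?_⟩
  let t := FormalCoproduct.Hom.fromIncl j (𝟙 ((K.obj (op (SimplexCategory.mk (n + 1)))).obj j))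
  rw [d_valN]
  refine Eq.trans ?_ (ofCochain_chain K I.obj x t)
  rw [← hφ, NatTrans.comp_app, ConcreteCategory.comp_apply, d_chain, map_sum]
  exact Finset.sum_congr rfl fun i _ => by rw [map_zsmul, hy]

end Groth.Agent.HyperLib
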