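import Groth.Prelude.Def_Hyper
import Mathlib

/-!
# Covering criteria for maps of formal coproducts and for coskeleton units

A map of formal coproducts is tested on the maps from single objects; maps into a coskeleton from a
single object are compatible families of low dimensional faces.
-/

set_option autoImplicit false
set_option backward.isDefEq.respectTransparency false

universe u

open CategoryTheory CategoryTheory.Limits Opposite

namespace Groth.Agent.HyperLib

variable {D : Type u} [SmallCategory D]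

/-- The maps from `Y` which lift along `v`, locally on `Y`. -/
def liftSieve {A T : FormalCoproduct.{u} D} (v : A ⟶ T) {Y : D}
    (t : (FormalCoproduct.incl D).obj Y ⟶ T) : Sieve Y where
  arrows Z h := ∃ a : (FormalCoproduct.incl D).obj Z ⟶ A, a ≫ v = (FormalCoproduct.incl D).map h ≫ t
  downward_closed := by
    rintro Z W h ⟨a, ha⟩ e
    exact ⟨(FormalCoproduct.incl D).map e ≫ a, by rw [Category.assoc, ha, Functor.map_comp, Category.assoc]⟩

/-- Every map from a single object lifts locally. -/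
def Cov (J : GrothendieckTopology D) {A T : FormalCoproduct.{u} D} (v : A ⟶ T) : Prop :=
  ∀ (Y : D) (t : (FormalCoproduct.incl D).obj Y ⟶ T), liftSieve v t ∈ J Y

theorem incl_hom_ext {Y : D} {T : FormalCoproduct.{u} D} {f g : (FormalCoproduct.incl D).obj Y ⟶ T}
    (h₁ : f.f PUnit.unit = g.f PUnit.unit)
    (h₂ : f.φ PUnit.unit ≫ eqToHom (congrArg T.obj h₁) = g.φ PUnit.unit) : f = g :=
  FormalCoproduct.hom_ext (funext fun _ => h₁) fun _ => h₂

variable (J : GrothendieckTopology D)

theorem Cov.isSRCovering {A T : FormalCoproduct.{u} D} {v : A ⟶ T} (h : Cov J v) :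
    Hyper.IsSRCovering J v := by
  intro j
  refine J.superset_covering ?_ (h _ (FormalCoproduct.Hom.fromIncl j (𝟙 _)))
  rintro Z k ⟨a, ha⟩
  obtain ⟨h₁, h₂⟩ := (FormalCoproduct.hom_ext_iff _ _).1 ha
  refine (Sieve.mem_ofArrows_iff _ _ _).2 ⟨⟨a.f PUnit.unit, congrFun h₁ PUnit.unit⟩, a.φ PUnit.unit, ?_⟩
  have h₃ := h₂ PUnit.unit
  refine (Category.comp_id k).symm.trans (h₃.symm.trans ?_)
  exact Category.assoc _ _ _

/-- The element of the presheaf `yoneda T` given by a map from a single object. -/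
noncomputable def elt {Y : D} {T : FormalCoproduct.{u} D} (t : (FormalCoproduct.incl D).obj Y ⟶ T) :
    (FormalCoproduct.yoneda.obj T).obj (op Y) :=
  (Sigma.ι (fun i => yoneda.obj (T.obj i)) (t.f PUnit.unit)).app (op Y) (t.φ PUnit.unit)

theorem elt_surjective {Y : D} {T : FormalCoproduct.{u} D} (s : (FormalCoproduct.yoneda.obj T).obj (op Y)) :
    ∃ t : (FormalCoproduct.incl D).obj Y ⟶ T, elt t = s := by
  obtain ⟨⟨j⟩, x, hx⟩ := Types.jointly_surjective _ (isColimitOfPreserves ((evaluation _ _).obj (op Y))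
    (colimit.isColimit (Discrete.functor fun i => yoneda.obj (T.obj i)))) s
  exact ⟨FormalCoproduct.Hom.fromIncl j x, hx⟩

theorem elt_comp {Y : D} {A T : FormalCoproduct.{u} D} (a : (FormalCoproduct.incl D).obj Y ⟶ A) (v : A ⟶ T) :
    (FormalCoproduct.yoneda.map v).app (op Y) (elt a) = elt (a ≫ v) := by
  have h : Sigma.ι (fun i => yoneda.obj (A.obj i)) (a.f PUnit.unit) ≫ FormalCoproduct.yoneda.map v =
      yoneda.map (v.φ (a.f PUnit.unit)) ≫ Sigma.ι (fun i => yoneda.obj (T.obj i)) (v.f (a.f PUnit.unit)) :=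
    Sigma.ι_desc _ _
  exact congr_fun (congr_arg (fun k => (k.app (op Y) : _ → _)) h) (a.φ PUnit.unit)

theorem map_elt {Y Z : D} {T : FormalCoproduct.{u} D} (h : Z ⟶ Y) (t : (FormalCoproduct.incl D).obj Y ⟶ T) :
    (FormalCoproduct.yoneda.obj T).map h.op (elt t) = elt ((FormalCoproduct.incl D).map h ≫ t) :=
  (NatTrans.naturality_apply (Sigma.ι (fun i => yoneda.obj (T.obj i)) (t.f PUnit.unit)) h.op
    (t.φ PUnit.unit)).symm

theorem Cov.isLocallySurjective {A T : FormalCoproduct.{u} D} {v : A ⟶ T} (h : Cov J v) :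
    Presheaf.IsLocallySurjective J (FormalCoproduct.yoneda.map v) := by
  refine ⟨fun {Y} s => ?_⟩
  obtain ⟨t, rfl⟩ := elt_surjective s
  refine J.superset_covering ?_ (h Y t)
  rintro Z k ⟨a, ha⟩
  exact ⟨elt a, by rw [elt_comp, ha, map_elt]⟩

theorem cov_of_isSRCovering {A T : FormalCoproduct.{u} D} {v : A ⟶ T} (h : Hyper.IsSRCovering J v) :
    Cov J v := by
  intro Y t
  refine J.superset_covering ?_ (J.pullback_stable (t.φ PUnit.unit) (h (t.f PUnit.unit)))
  intro Z k hk
  obtain ⟨⟨i, hi⟩, a, ha⟩ := (Sieve.mem_ofArrows_iff _ _ _).1 hk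
  refine ⟨FormalCoproduct.Hom.fromIncl i a, incl_hom_ext hi ?_⟩
  exact (Category.assoc _ _ _).trans ha.symm

/-- The simplicial formal coproduct `Y ⊗ Δ[q]`. -/
def box (Y : D) (q : ℕ) : SimplicialObject (FormalCoproduct.{u} D) where
  obj m := ⟨ULift.{u} (m.unop ⟶ SimplexCategory.mk q), fun _ => Y⟩
  map θ := ⟨fun x => ⟨θ.unop ≫ x.down⟩, fun _ => 𝟙 Y⟩
  map_id m := by
    refine FormalCoproduct.hom_ext (funext fun x => ULift.ext _ _ (Category.id_comp _)) fun x => ?_
    simp
  map_comp θ θ' := by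
    refine FormalCoproduct.hom_ext (funext fun x => ULift.ext _ _ (Category.assoc _ _ _)) fun x => ?_
    simp

/-- A compatible family of faces of dimension at most `n` of a `q`-simplex over `Y`. -/
structure Family (K : SimplicialObject (FormalCoproduct.{u} D)) (n q : ℕ) (Y : D) where
  /-- The faces. -/
  g : ∀ (m : ℕ), m ≤ n → (SimplexCategory.mk m ⟶ SimplexCategory.mk q) →
    ((FormalCoproduct.incl D).obj Y ⟶ K.obj (op (SimplexCategory.mk m)))
  compat : ∀ (m m' : ℕ) (hm : m ≤ n) (hm' : m' ≤ n) (φ : SimplexCategory.mk m' ⟶ SimplexCategory.mk m)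
    (θ : SimplexCategory.mk m ⟶ SimplexCategory.mk q), g m hm θ ≫ K.map φ.op = g m' hm' (φ ≫ θ)

variable {K : SimplicialObject (FormalCoproduct.{u} D)}

/-- The family attached to a map of truncations. -/
def famOfHom {n q : ℕ} {Y : D}
    (G : (SimplicialObject.truncation n).obj (box Y q) ⟶ (SimplicialObject.truncation n).obj K) :
    Family K n q Y where
  g m hm θ := FormalCoproduct.Hom.fromIncl
    ((G.app (op ⟨SimplexCategory.mk m, hm⟩)).f ⟨θ⟩) ((G.app (op ⟨SimplexCategory.mk m, hm⟩)).φ ⟨θ⟩)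
  compat m m' hm hm' φ θ := by
    have h := G.naturality (X := op ⟨SimplexCategory.mk m, hm⟩) (Y := op ⟨SimplexCategory.mk m', hm'⟩)
      (ObjectProperty.homMk φ).op
    obtain ⟨h₁, h₂⟩ := (FormalCoproduct.hom_ext_iff _ _).1 h.symm
    refine incl_hom_ext (congrFun h₁ ⟨θ⟩) ?_
    exact (h₂ ⟨θ⟩).trans (Category.id_comp _)

/-- The map of truncations attached to a family. -/
def Family.hom {n q : ℕ} {Y : D} (F : Family K n q Y) :
    (SimplicialObject.truncation n).obj (box Y q) ⟶ (SimplicialObject.truncation n).obj K where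
  app m := ⟨fun x => (F.g _ m.unop.2 x.down).f PUnit.unit, fun x => (F.g _ m.unop.2 x.down).φ PUnit.unit⟩
  naturality m m' φ := by
    refine (FormalCoproduct.hom_ext (funext fun x => ?_) fun x => ?_).symm
    · exact congrArg (fun k : (FormalCoproduct.incl D).obj Y ⟶ _ => k.f PUnit.unit)
        (F.compat _ _ m.unop.2 m'.unop.2 φ.unop.hom x.down)
    · obtain ⟨h₁, h₂⟩ := (FormalCoproduct.hom_ext_iff _ _).1
        (F.compat _ _ m.unop.2 m'.unop.2 φ.unop.hom x.down)
      exact (h₂ PUnit.unit).trans (Category.id_comp _).symm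

/-- The map out of `Y ⊗ Δ[q]` given by a `q`-simplex over `Y`. -/
def ext {S : SimplicialObject (FormalCoproduct.{u} D)} {Y : D} {q : ℕ}
    (t : (FormalCoproduct.incl D).obj Y ⟶ S.obj (op (SimplexCategory.mk q))) : box Y q ⟶ S where
  app m := ⟨fun x => (t ≫ S.map x.down.op).f PUnit.unit, fun x => (t ≫ S.map x.down.op).φ PUnit.unit⟩
  naturality m m' φ := by
    have e : ∀ x : ULift.{u} (m.unop ⟶ SimplexCategory.mk q),
        t ≫ S.map (φ.unop ≫ x.down).op = (t ≫ S.map x.down.op) ≫ S.map φ := by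
      intro x
      rw [op_comp, Functor.map_comp, Category.assoc]
      rfl
    refine FormalCoproduct.hom_ext (funext fun x => ?_) fun x => ?_
    · exact congrArg (fun k : (FormalCoproduct.incl D).obj Y ⟶ _ => k.f PUnit.unit) (e x)
    · obtain ⟨h₁, h₂⟩ := (FormalCoproduct.hom_ext_iff _ _).1 (e x)
      exact (congrArg (· ≫ _) (Category.id_comp _)).trans (h₂ PUnit.unit)

theorem eq_of_ext_eq {S : SimplicialObject (FormalCoproduct.{u} D)} {Y : D} {q : ℕ}
    {t t' : (FormalCoproduct.incl D).obj Y ⟶ S.obj (op (SimplexCategory.mk q))}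
    (h : ext t = ext t') : t = t' := by
  obtain ⟨h₁, h₂⟩ := (FormalCoproduct.hom_ext_iff _ _).1 (congr_arg (fun k : box Y q ⟶ S =>
    k.app (op (SimplexCategory.mk q))) h)
  have e : ∀ s : (FormalCoproduct.incl D).obj Y ⟶ S.obj (op (SimplexCategory.mk q)),
      s ≫ S.map (𝟙 (SimplexCategory.mk q)).op = s := by simp
  have h₁' := congrFun h₁ ⟨𝟙 _⟩
  rw [← e t, ← e t']
  exact incl_hom_ext h₁' (h₂ ⟨𝟙 _⟩)

theorem ext_comp {S S' : SimplicialObject (FormalCoproduct.{u} D)} {Y : D} {q : ℕ}
    (t : (FormalCoproduct.incl D).obj Y ⟶ S.obj (op (SimplexCategory.mk q))) (v : S ⟶ S') :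
    ext (t ≫ v.app _) = ext t ≫ v := by
  apply NatTrans.ext
  funext m
  have e : ∀ x : ULift.{u} (m.unop ⟶ SimplexCategory.mk q),
      (t ≫ v.app _) ≫ S'.map x.down.op = (t ≫ S.map x.down.op) ≫ v.app m := by
    intro x
    rw [Category.assoc, Category.assoc, v.naturality]
  refine FormalCoproduct.hom_ext (funext fun x => ?_) fun x => ?_
  · exact congrArg (fun k : (FormalCoproduct.incl D).obj Y ⟶ _ => k.f PUnit.unit) (e x)
  · obtain ⟨h₁, h₂⟩ := (FormalCoproduct.hom_ext_iff _ _).1 (e x)
    exact h₂ PUnit.unit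

variable [∀ (n : ℕ) (F : (SimplexCategory.Truncated n)ᵒᵖ ⥤ FormalCoproduct.{u} D),
      (SimplexCategory.Truncated.inclusion n).op.HasRightKanExtension F]

/-- A coskeleton unit is covering as soon as compatible families of faces fill locally. -/
theorem cov_unit (n q : ℕ)
    (h : ∀ (Y : D) (F : Family K n q Y), ∃ S ∈ J Y, ∀ {Z : D} (k : Z ⟶ Y), S k →
      ∃ a : (FormalCoproduct.incl D).obj Z ⟶ K.obj (op (SimplexCategory.mk q)),
        ∀ (m : ℕ) (hm : m ≤ n) (θ : SimplexCategory.mk m ⟶ SimplexCategory.mk q),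
          a ≫ K.map θ.op = (FormalCoproduct.incl D).map k ≫ F.g m hm θ) :
    Cov J (((SimplicialObject.coskAdj n).unit.app K).app (op (SimplexCategory.mk q))) := by
  intro Y t
  let G := ((SimplicialObject.coskAdj n).homEquiv _ _).symm (ext t)
  obtain ⟨S, hS, hfill⟩ := h Y (famOfHom G)
  refine J.superset_covering ?_ hS
  intro Z k hk
  obtain ⟨a, ha⟩ := hfill k hk
  refine ⟨a, eq_of_ext_eq ?_⟩
  let bm : box Z q ⟶ box Y q :=
    { app := fun m => ⟨fun x => x, fun _ => k⟩
      naturality := fun m m' φ => by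
        refine FormalCoproduct.hom_ext rfl fun x => ?_
        simp [box] }
  have hb : ∀ {S : SimplicialObject (FormalCoproduct.{u} D)}
      (s : (FormalCoproduct.incl D).obj Y ⟶ S.obj (op (SimplexCategory.mk q))),
      ext ((FormalCoproduct.incl D).map k ≫ s) = bm ≫ ext s := by
    intro S s
    apply NatTrans.ext
    funext m
    refine FormalCoproduct.hom_ext rfl fun x => ?_
    simp [ext, bm]
    rfl
  rw [ext_comp, hb]
  apply ((SimplicialObject.coskAdj n).homEquiv _ _).symm.injective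
  rw [Adjunction.homEquiv_naturality_left_symm]
  erw [Adjunction.homEquiv_counit ((SimplicialObject.coskAdj n))
    (g := (SimplicialObject.coskAdj n).unit.app K)]
  erw [(SimplicialObject.coskAdj n).left_triangle_components, Category.comp_id, Adjunction.homEquiv_naturality_left_symm]
  apply NatTrans.ext
  funext m
  refine FormalCoproduct.hom_ext (funext fun x => ?_) fun x => ?_
  · exact congrArg (fun k : (FormalCoproduct.incl D).obj Z ⟶ _ => k.f PUnit.unit)
      (ha _ m.unop.2 x.down)
  · obtain ⟨h₁, h₂⟩ := (FormalCoproduct.hom_ext_iff _ _).1 (ha _ m.unop.2 x.down)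
    exact h₂ PUnit.unit

/-- A covering coskeleton unit fills compatible families of faces locally. -/
theorem fill_of_cov {n q : ℕ}
    (h : Cov J (((SimplicialObject.coskAdj n).unit.app K).app (op (SimplexCategory.mk q))))
    {Y : D} (F : Family K n q Y) : ∃ S ∈ J Y, ∀ {Z : D} (k : Z ⟶ Y), S k →
      ∃ a : (FormalCoproduct.incl D).obj Z ⟶ K.obj (op (SimplexCategory.mk q)),
        ∀ (m : ℕ) (hm : m ≤ n) (θ : SimplexCategory.mk m ⟶ SimplexCategory.mk q),
          a ≫ K.map θ.op = (FormalCoproduct.incl D).map k ≫ F.g m hm θ := by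
  let E := ((SimplicialObject.coskAdj n).homEquiv _ _) F.hom
  let t : (FormalCoproduct.incl D).obj Y ⟶
      ((SimplicialObject.truncation n ⋙ SimplicialObject.Truncated.cosk n).obj K).obj
        (op (SimplexCategory.mk q)) :=
    FormalCoproduct.Hom.fromIncl ((E.app _).f ⟨𝟙 _⟩) ((E.app _).φ ⟨𝟙 _⟩)
  refine ⟨_, h Y t, ?_⟩
  rintro Z k ⟨a, ha⟩
  refine ⟨a, fun m hm θ => ?_⟩
  have hG : (SimplicialObject.truncation n).map (ext a) =
      ((SimplicialObject.coskAdj n).homEquiv _ _).symm
        (ext ((FormalCoproduct.incl D).map k ≫ t)) := by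
    rw [← ha, ext_comp, Adjunction.homEquiv_counit, Functor.map_comp, Category.assoc]
    erw [(SimplicialObject.coskAdj n).left_triangle_components, Category.comp_id]
  have hE : ext t = E := by
    apply NatTrans.ext
    funext x
    have e : ∀ y : ULift.{u} (x.unop ⟶ SimplexCategory.mk q),
        (box Y q).map y.down.op ≫ E.app x =
          E.app (op (SimplexCategory.mk q)) ≫ _ := fun y => E.naturality y.down.op
    refine FormalCoproduct.hom_ext (funext fun y => ?_) fun y => ?_
    · have := congrFun (congrArg FormalCoproduct.Hom.f (e y)) ⟨𝟙 _⟩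
      refine this.symm.trans ?_
      change (E.app x).f ⟨y.down ≫ 𝟙 _⟩ = _
      rw [Category.comp_id]
      rfl
    · obtain ⟨h₁, h₂⟩ := (FormalCoproduct.hom_ext_iff _ _).1 (e y).symm
      have h₃ := h₂ ⟨𝟙 _⟩
      have hy : (⟨y.down ≫ 𝟙 _⟩ : ULift.{u} (x.unop ⟶ SimplexCategory.mk q)) = y := by
        rw [Category.comp_id]
        rfl
      have h₄ : ∀ {z z'} (hz : z = z'),
          (E.app x).φ z ≫ eqToHom (by rw [hz]) = (E.app x).φ z' := by rintro z _ rfl; simp
      rw [← h₄ hy]
      refine Eq.trans ?_ (congrArg (· ≫ _) (h₃.trans (Category.id_comp _)))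
      simp [ext, t]
      rfl
  let bm : box Z q ⟶ box Y q :=
    { app := fun m => ⟨fun x => x, fun _ => k⟩
      naturality := fun m m' φ => by
        refine FormalCoproduct.hom_ext rfl fun x => ?_
        simp [box] }
  have hb : ext ((FormalCoproduct.incl D).map k ≫ t) = bm ≫ ext t := by
    apply NatTrans.ext
    funext m
    refine FormalCoproduct.hom_ext rfl fun x => ?_
    simp [ext, bm]
    rfl
  rw [hb, Adjunction.homEquiv_naturality_left_symm, hE, Equiv.symm_apply_apply] at hG
  obtain ⟨h₁, h₂⟩ := (FormalCoproduct.hom_ext_iff _ _).1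
    (NatTrans.congr_app hG (op ⟨SimplexCategory.mk m, hm⟩))
  exact incl_hom_ext (congrFun h₁ ⟨θ⟩) (h₂ ⟨θ⟩)

end Groth.Agent.HyperLib
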