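import Groth.Agent.HyperLib.Descent

/-!
# Local contraction of finitely many simplices of a hypercovering
-/

set_option autoImplicit false
set_option backward.isDefEq.respectTransparency false

universe u

open CategoryTheory CategoryTheory.Limits Opposite

namespace Groth.Agent.HyperLib

variable {D : Type u} [SmallCategory D] {K : SimplicialObject (FormalCoproduct.{u} D)}

theorem missing_exists {m n : ℕ} (hm : m ≤ n) (θ : SimplexCategory.mk m ⟶ SimplexCategory.mk (n + 1)) :
    ∃ j : Fin (n + 2), ∀ x, θ.toOrderHom x ≠ j := by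
  by_contra h
  push Not at h
  have := Fintype.card_le_of_surjective _ (fun j => h j)
  simp only [Fintype.card_fin, SimplexCategory.len_mk] at this
  omega

/-- A map missing `j` as a map to the face opposite `j`. -/
noncomputable def missFactor {m n : ℕ} (θ : SimplexCategory.mk m ⟶ SimplexCategory.mk (n + 1))
    (j : Fin (n + 2)) (h : ∀ x, θ.toOrderHom x ≠ j) : SimplexCategory.mk m ⟶ SimplexCategory.mk n :=
  (SimplexCategory.eq_comp_δ_of_not_surjective' θ j h).choose

theorem missFactor_spec {m n : ℕ} (θ : SimplexCategory.mk m ⟶ SimplexCategory.mk (n + 1))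
    (j : Fin (n + 2)) (h : ∀ x, θ.toOrderHom x ≠ j) : missFactor θ j h ≫ SimplexCategory.δ j = θ :=
  (SimplexCategory.eq_comp_δ_of_not_surjective' θ j h).choose_spec.symm

theorem δ_cancel {m n : ℕ} (j : Fin (n + 2)) {a b : SimplexCategory.mk m ⟶ SimplexCategory.mk n}
    (h : a ≫ SimplexCategory.δ j = b ≫ SimplexCategory.δ j) : a = b :=
  (cancel_mono (SimplexCategory.δ j)).1 h

theorem face_indep {n : ℕ} {Y : D}
    (a : Fin (n + 2) → ((FormalCoproduct.incl D).obj Y ⟶ K.obj (op (SimplexCategory.mk n))))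
    (ha : ∀ (n' : ℕ) (e : n = n' + 1) (i j : Fin (n' + 2)), i ≤ j →
      a (Fin.cast (by omega) j.succ) ≫ K.map (SimplexCategory.δ i ≫ eqToHom (congrArg SimplexCategory.mk e.symm)).op =
        a (Fin.cast (by omega) i.castSucc) ≫ K.map (SimplexCategory.δ j ≫ eqToHom (congrArg SimplexCategory.mk e.symm)).op)
    {m : ℕ} (hm : m ≤ n) (θ : SimplexCategory.mk m ⟶ SimplexCategory.mk (n + 1))
    (j₁ j₂ : Fin (n + 2)) (h₁ : ∀ x, θ.toOrderHom x ≠ j₁) (h₂ : ∀ x, θ.toOrderHom x ≠ j₂) :
    a j₁ ≫ K.map (missFactor θ j₁ h₁).op = a j₂ ≫ K.map (missFactor θ j₂ h₂).op := by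
  wlog hlt : j₁ < j₂ generalizing j₁ j₂
  · rcases (not_lt.1 hlt).eq_or_lt with rfl | h
    · rfl
    · exact (this j₂ j₁ h₂ h₁ h).symm
  cases n with
  | zero =>
    exfalso
    have hlt' : (j₁ : ℕ) < j₂ := hlt
    have e₁ : j₁ = 0 := Fin.ext (by simp; omega)
    have e₂ : j₂ = 1 := Fin.ext (by simp; omega)
    subst e₁ e₂
    have := h₁ 0
    have := h₂ 0
    simp only [SimplexCategory.len_mk] at *
    omega
  | succ n =>
    obtain ⟨j, rfl⟩ : ∃ j : Fin (n + 2), j.succ = j₂ := ⟨j₂.pred (Fin.ne_zero_of_lt hlt), Fin.succ_pred _ _⟩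
    obtain ⟨i, rfl⟩ : ∃ i : Fin (n + 2), i.castSucc = j₁ :=
      ⟨j₁.castPred (Fin.ne_last_of_lt hlt), Fin.castSucc_castPred _ _⟩
    have hij : i ≤ j := Fin.castSucc_lt_succ_iff.1 hlt
    let φ₂ := missFactor θ j.succ h₂
    have hφ₂ : φ₂ ≫ SimplexCategory.δ j.succ = θ := missFactor_spec _ _ _
    have hφ₂' : ∀ x, φ₂.toOrderHom x ≠ i := by
      intro x hx
      apply h₁ x
      rw [← hφ₂]
      change Fin.succAbove j.succ (φ₂.toOrderHom x) = _
      rw [hx]
      exact Fin.succAbove_of_castSucc_lt _ _ (Fin.castSucc_lt_succ_iff.2 hij)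
    let ψ := missFactor φ₂ i hφ₂'
    have hψ : ψ ≫ SimplexCategory.δ i = φ₂ := missFactor_spec _ _ _
    have hφ₁ : missFactor θ i.castSucc h₁ = ψ ≫ SimplexCategory.δ j := by
      refine δ_cancel i.castSucc ?_
      rw [missFactor_spec, Category.assoc, ← SimplexCategory.δ_comp_δ hij, ← Category.assoc, hψ, hφ₂]
    have h := ha n rfl i j hij
    simp only [eqToHom_refl, Category.comp_id, Fin.cast_refl, id_eq] at h
    change a j.succ ≫ K.map (SimplexCategory.δ i).op = a i.castSucc ≫ K.map (SimplexCategory.δ j).op at h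
    change _ = a j.succ ≫ K.map φ₂.op
    rw [hφ₁, ← hψ, op_comp, op_comp, K.map_comp, K.map_comp, ← Category.assoc, ← Category.assoc, h]

/-- The family given by compatible codimension one faces. -/
noncomputable def ofFaces {n : ℕ} {Y : D}
    (a : Fin (n + 2) → ((FormalCoproduct.incl D).obj Y ⟶ K.obj (op (SimplexCategory.mk n))))
    (ha : ∀ (n' : ℕ) (e : n = n' + 1) (i j : Fin (n' + 2)), i ≤ j →
      a (Fin.cast (by omega) j.succ) ≫ K.map (SimplexCategory.δ i ≫ eqToHom (congrArg SimplexCategory.mk e.symm)).op =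
        a (Fin.cast (by omega) i.castSucc) ≫ K.map (SimplexCategory.δ j ≫ eqToHom (congrArg SimplexCategory.mk e.symm)).op) :
    Family K n (n + 1) Y where
  g m hm θ := a (missing_exists hm θ).choose ≫
    K.map (missFactor θ _ (missing_exists hm θ).choose_spec).op
  compat m m' hm hm' φ θ := by
    let j := (missing_exists hm θ).choose
    have hj := (missing_exists hm θ).choose_spec
    have hj' : ∀ x, (φ ≫ θ).toOrderHom x ≠ j := fun x => hj (φ.toOrderHom x)
    rw [face_indep a ha hm' (φ ≫ θ) _ j (missing_exists hm' (φ ≫ θ)).choose_spec hj', Category.assoc,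
      ← K.map_comp, ← op_comp]
    congr 3
    refine δ_cancel j ?_
    rw [Category.assoc, missFactor_spec, missFactor_spec]

theorem ofFaces_δ {n : ℕ} {Y : D}
    (a : Fin (n + 2) → ((FormalCoproduct.incl D).obj Y ⟶ K.obj (op (SimplexCategory.mk n))))
    (ha : ∀ (n' : ℕ) (e : n = n' + 1) (i j : Fin (n' + 2)), i ≤ j →
      a (Fin.cast (by omega) j.succ) ≫ K.map (SimplexCategory.δ i ≫ eqToHom (congrArg SimplexCategory.mk e.symm)).op =
        a (Fin.cast (by omega) i.castSucc) ≫ K.map (SimplexCategory.δ j ≫ eqToHom (congrArg SimplexCategory.mk e.symm)).op)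
    (j : Fin (n + 2)) :
    (ofFaces a ha).g n le_rfl (SimplexCategory.δ j) = a j := by
  have hj : ∀ x, (SimplexCategory.δ j).toOrderHom x ≠ j := fun x => Fin.succAbove_ne j x
  change a _ ≫ K.map _ = a j
  rw [face_indep a ha le_rfl (SimplexCategory.δ j) _ j
    (missing_exists le_rfl (SimplexCategory.δ j)).choose_spec hj]
  have e : missFactor (SimplexCategory.δ j) j hj = 𝟙 _ :=
    δ_cancel j (by rw [missFactor_spec, Category.id_comp])
  rw [e, op_id, K.map_id, Category.comp_id]

variable (J : GrothendieckTopology D)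

/-- Families of faces fill locally in every dimension. -/
def Fills (K : SimplicialObject (FormalCoproduct.{u} D)) : Prop :=
  ∀ (n : ℕ) (Y : D) (F : Family K n (n + 1) Y), ∃ S ∈ J Y, ∀ {Z : D} (k : Z ⟶ Y), S k →
    ∃ a : (FormalCoproduct.incl D).obj Z ⟶ K.obj (op (SimplexCategory.mk (n + 1))),
      ∀ (m : ℕ) (hm : m ≤ n) (θ : SimplexCategory.mk m ⟶ SimplexCategory.mk (n + 1)),
        a ≫ K.map θ.op = (FormalCoproduct.incl D).map k ≫ F.g m hm θ

variable {J}

/-- Filling finitely many boundaries at once. -/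
theorem Fills.fill_finset (hK : Fills J K) {n : ℕ} {Y : D} {ι : Type u} (s : Finset ι)
    (F : ι → Family K n (n + 1) Y) :
    ∃ S ∈ J Y, ∀ {Z : D} (k : Z ⟶ Y), S k → ∀ i ∈ s,
      ∃ a : (FormalCoproduct.incl D).obj Z ⟶ K.obj (op (SimplexCategory.mk (n + 1))),
        ∀ (m : ℕ) (hm : m ≤ n) (θ : SimplexCategory.mk m ⟶ SimplexCategory.mk (n + 1)),
          a ≫ K.map θ.op = (FormalCoproduct.incl D).map k ≫ (F i).g m hm θ := by
  classical
  induction s using Finset.induction_on with
  | empty => exact ⟨⊤, J.top_mem _, fun _ _ i hi => absurd hi (Finset.notMem_empty i)⟩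
  | @insert j s _ ih =>
    obtain ⟨S, hS, h⟩ := ih
    obtain ⟨S', hS', h'⟩ := hK n Y (F j)
    refine ⟨_, J.intersection_covering hS hS', fun {Z} k hk i hi => ?_⟩
    rcases Finset.mem_insert.1 hi with rfl | hi
    · exact h' k hk.2
    · exact h k hk.1 i hi

/-- The cone condition: the faces of the cone on a simplex are the simplex and the cones on its faces. -/
def IsCone {U Z : D} (k : Z ⟶ U) {n : ℕ}
    (t : (FormalCoproduct.incl D).obj U ⟶ K.obj (op (SimplexCategory.mk n)))
    (c : (FormalCoproduct.incl D).obj Z ⟶ K.obj (op (SimplexCategory.mk (n + 1))))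
    (f : Fin (n + 1) → ((FormalCoproduct.incl D).obj Z ⟶ K.obj (op (SimplexCategory.mk n)))) : Prop :=
  c ≫ K.δ 0 = (FormalCoproduct.incl D).map k ≫ t ∧ ∀ i : Fin (n + 1), c ≫ K.δ i.succ = f i

theorem contract_zero (hK : Fills J K) (h0 : ∀ U : D, vertexSieve K U ∈ J U) (U : D)
    (T : Finset ((FormalCoproduct.incl D).obj U ⟶ K.obj (op (SimplexCategory.mk 0)))) :
    ∃ S ∈ J U, ∀ {Z : D} (k : Z ⟶ U), S k →
      ∃ (h : ((FormalCoproduct.incl D).obj U ⟶ K.obj (op (SimplexCategory.mk 0))) →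
          ((FormalCoproduct.incl D).obj Z ⟶ K.obj (op (SimplexCategory.mk 1))))
        (v : (FormalCoproduct.incl D).obj Z ⟶ K.obj (op (SimplexCategory.mk 0))),
        ∀ t ∈ T, IsCone k t (h t) (fun _ => v) := by
  classical
  let F : ∀ {V : D} (k : V ⟶ U), vertexSieve K U k →
      (((FormalCoproduct.incl D).obj U ⟶ K.obj (op (SimplexCategory.mk 0))) → Family K 0 1 V) :=
    fun {V} k hk t => ofFaces ![(FormalCoproduct.incl D).map k ≫ t, hk.some] (fun n' e => by omega)
  refine ⟨_, J.bind_covering (h0 U) (R := fun {V} k hk => (hK.fill_finset T (F k hk)).choose)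
    (fun {V} k hk => (hK.fill_finset T (F k hk)).choose_spec.1), ?_⟩
  rintro Z _ ⟨V, k', k, hk, hk', rfl⟩
  choose c hc using (hK.fill_finset T (F k hk)).choose_spec.2 k' hk'
  refine ⟨fun t => if ht : t ∈ T then c t ht else
      (FormalCoproduct.incl D).map k' ≫ hk.some ≫ K.σ 0,
    (FormalCoproduct.incl D).map k' ≫ hk.some, fun t ht => ?_⟩
  have h := fun j : Fin 2 => hc t ht 0 le_rfl (SimplexCategory.δ j)
  simp only [F, ofFaces_δ] at h
  refine ⟨?_, fun i => ?_⟩
  · simp only [dif_pos ht]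
    refine (h 0).trans ?_
    simp
  · simp only [dif_pos ht]
    obtain rfl : i = 0 := Subsingleton.elim (α := Fin 1) _ _
    exact h 1

/-- Finitely many simplices are coned off locally, compatibly with their faces. -/
theorem contract (hK : Fills J K) (h0 : ∀ U : D, vertexSieve K U ∈ J U) (n : ℕ) (U : D)
    (T : Finset ((FormalCoproduct.incl D).obj U ⟶ K.obj (op (SimplexCategory.mk (n + 1))))) :
    ∃ S ∈ J U, ∀ {Z : D} (k : Z ⟶ U), S k →
      ∃ (h : ((FormalCoproduct.incl D).obj U ⟶ K.obj (op (SimplexCategory.mk (n + 1)))) →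
          ((FormalCoproduct.incl D).obj Z ⟶ K.obj (op (SimplexCategory.mk (n + 2)))))
        (h' : ((FormalCoproduct.incl D).obj U ⟶ K.obj (op (SimplexCategory.mk n))) →
          ((FormalCoproduct.incl D).obj Z ⟶ K.obj (op (SimplexCategory.mk (n + 1))))),
        ∀ t ∈ T, IsCone k t (h t) (fun i => h' (t ≫ K.δ i)) := by
  classical
  induction n with
  | zero =>
    obtain ⟨S, hS, hcone⟩ := contract_zero hK h0 U
      (Finset.univ.biUnion fun i : Fin 2 => T.image (· ≫ K.δ i))
    have hH : ∀ {V : D} (k : V ⟶ U) (hk : S k) (t : T),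
        ∀ (n' : ℕ) (e : 1 = n' + 1) (i j : Fin (n' + 2)), i ≤ j →
        (Fin.cases ((FormalCoproduct.incl D).map k ≫ t.1) (fun i => (hcone k hk).choose (t.1 ≫ K.δ i)) :
          Fin 3 → _) (Fin.cast (by omega) j.succ) ≫ K.map (SimplexCategory.δ i ≫ eqToHom (congrArg SimplexCategory.mk e.symm)).op =
        (Fin.cases ((FormalCoproduct.incl D).map k ≫ t.1) (fun i => (hcone k hk).choose (t.1 ≫ K.δ i)) :
          Fin 3 → _) (Fin.cast (by omega) i.castSucc) ≫ K.map (SimplexCategory.δ j ≫ eqToHom (congrArg SimplexCategory.mk e.symm)).op := by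
      intro V k hk t n' e i j hij
      obtain rfl : n' = 0 := by omega
      obtain ⟨v, hv⟩ := (hcone k hk).choose_spec
      have hmem : ∀ i : Fin 2, t.1 ≫ K.δ i ∈ Finset.univ.biUnion (fun i : Fin 2 => T.image (· ≫ K.δ i)) :=
        fun i => Finset.mem_biUnion.2 ⟨i, Finset.mem_univ i, Finset.mem_image_of_mem _ t.2⟩
      simp only [eqToHom_refl, Category.comp_id, Fin.cast_refl, id_eq, Fin.cases_succ]
      change _ ≫ K.δ i = _ ≫ K.δ j
      induction i using Fin.cases with
      | zero =>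
        simp only [Fin.castSucc_zero, Fin.cases_zero, Category.assoc]
        exact (hv _ (hmem j)).1
      | succ i =>
        simp only [← Fin.succ_castSucc, Fin.cases_succ]
        obtain ⟨j, rfl⟩ : ∃ j' : Fin 1, j'.succ = j :=
          ⟨j.pred (Fin.ne_zero_of_lt (lt_of_lt_of_le (Fin.succ_pos i) hij)), Fin.succ_pred _ _⟩
        rw [(hv _ (hmem _)).2, (hv _ (hmem _)).2]
    let F : ∀ {V : D} (k : V ⟶ U), S k → T → Family K 1 2 V := fun {V} k hk t =>
      ofFaces (Fin.cases ((FormalCoproduct.incl D).map k ≫ t.1) (fun i => (hcone k hk).choose (t.1 ≫ K.δ i)))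
        (hH k hk t)
    refine ⟨_, J.bind_covering hS (R := fun {V} k hk => (hK.fill_finset Finset.univ (F k hk)).choose)
      (fun {V} k hk => (hK.fill_finset Finset.univ (F k hk)).choose_spec.1), ?_⟩
    rintro Z _ ⟨V, k', k, hk, hk', rfl⟩
    choose c hc using (hK.fill_finset Finset.univ (F k hk)).choose_spec.2 k' hk'
    refine ⟨fun t => if ht : t ∈ T then c ⟨t, ht⟩ (Finset.mem_univ _) else
        (FormalCoproduct.incl D).map (k' ≫ k) ≫ t ≫ K.σ 0,
      fun s => (FormalCoproduct.incl D).map k' ≫ (hcone k hk).choose s, fun t ht => ?_⟩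
    have h := fun j => hc ⟨t, ht⟩ (Finset.mem_univ _) 1 le_rfl (SimplexCategory.δ j)
    simp only [F, ofFaces_δ] at h
    refine ⟨?_, fun i => ?_⟩
    · simp only [dif_pos ht]
      refine (h 0).trans ?_
      simp
    · simp only [dif_pos ht]
      refine (h i.succ).trans ?_
      simp
  | succ n ih =>
    obtain ⟨S, hS, hcone⟩ := ih (Finset.univ.biUnion fun i : Fin (n + 3) => T.image (· ≫ K.δ i))
    have hH : ∀ {V : D} (k : V ⟶ U) (hk : S k) (t : T),
        ∀ (n' : ℕ) (e : n + 2 = n' + 1) (i j : Fin (n' + 2)), i ≤ j →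
        (Fin.cases ((FormalCoproduct.incl D).map k ≫ t.1) (fun i => (hcone k hk).choose (t.1 ≫ K.δ i)) :
          Fin (n + 4) → _) (Fin.cast (by omega) j.succ) ≫ K.map (SimplexCategory.δ i ≫ eqToHom (congrArg SimplexCategory.mk e.symm)).op =
        (Fin.cases ((FormalCoproduct.incl D).map k ≫ t.1) (fun i => (hcone k hk).choose (t.1 ≫ K.δ i)) :
          Fin (n + 4) → _) (Fin.cast (by omega) i.castSucc) ≫ K.map (SimplexCategory.δ j ≫ eqToHom (congrArg SimplexCategory.mk e.symm)).op := by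
      intro V k hk t n' e i j hij
      obtain rfl : n' = n + 1 := by omega
      obtain ⟨h', hh'⟩ := (hcone k hk).choose_spec
      have hmem : ∀ i : Fin (n + 3), t.1 ≫ K.δ i ∈
          Finset.univ.biUnion (fun i : Fin (n + 3) => T.image (· ≫ K.δ i)) :=
        fun i => Finset.mem_biUnion.2 ⟨i, Finset.mem_univ i, Finset.mem_image_of_mem _ t.2⟩
      simp only [eqToHom_refl, Category.comp_id, Fin.cast_refl, id_eq, Fin.cases_succ]
      change _ ≫ K.δ i = _ ≫ K.δ j
      induction i using Fin.cases with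
      | zero =>
        simp only [Fin.castSucc_zero, Fin.cases_zero, Category.assoc]
        exact (hh' _ (hmem j)).1
      | succ i =>
        simp only [← Fin.succ_castSucc, Fin.cases_succ]
        obtain ⟨j, rfl⟩ : ∃ j' : Fin (n + 2), j'.succ = j :=
          ⟨j.pred (Fin.ne_zero_of_lt (lt_of_lt_of_le (Fin.succ_pos i) hij)), Fin.succ_pred _ _⟩
        rw [(hh' _ (hmem _)).2, (hh' _ (hmem _)).2]
        change h' ((t.1 ≫ K.δ j.succ) ≫ K.δ i) = h' ((t.1 ≫ K.δ i.castSucc) ≫ K.δ j)
        rw [Category.assoc, Category.assoc, SimplicialObject.δ_comp_δ K (Fin.succ_le_succ_iff.1 hij)]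
    let F : ∀ {V : D} (k : V ⟶ U), S k → T → Family K (n + 2) (n + 3) V := fun {V} k hk t =>
      ofFaces (Fin.cases ((FormalCoproduct.incl D).map k ≫ t.1) (fun i => (hcone k hk).choose (t.1 ≫ K.δ i)))
        (hH k hk t)
    refine ⟨_, J.bind_covering hS (R := fun {V} k hk => (hK.fill_finset Finset.univ (F k hk)).choose)
      (fun {V} k hk => (hK.fill_finset Finset.univ (F k hk)).choose_spec.1), ?_⟩
    rintro Z _ ⟨V, k', k, hk, hk', rfl⟩
    choose c hc using (hK.fill_finset Finset.univ (F k hk)).choose_spec.2 k' hk'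
    refine ⟨fun t => if ht : t ∈ T then c ⟨t, ht⟩ (Finset.mem_univ _) else
        (FormalCoproduct.incl D).map (k' ≫ k) ≫ t ≫ K.σ 0,
      fun s => (FormalCoproduct.incl D).map k' ≫ (hcone k hk).choose s, fun t ht => ?_⟩
    have h := fun j => hc ⟨t, ht⟩ (Finset.mem_univ _) (n + 2) le_rfl (SimplexCategory.δ j)
    simp only [F, ofFaces_δ] at h
    refine ⟨?_, fun i => ?_⟩
    · simp only [dif_pos ht]
      refine (h 0).trans ?_
      simp
    · simp only [dif_pos ht]
      refine (h i.succ).trans ?_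
      simp

end Groth.Agent.HyperLib
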