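import Groth.Agent.HyperLib.CoskLift
import Mathlib.CategoryTheory.Sites.LocallyBijective
import Mathlib.CategoryTheory.Sites.Abelian
import Mathlib.Algebra.Category.Grp.FilteredColimits
import Mathlib.CategoryTheory.Abelian.FunctorCategory
import Mathlib.Algebra.Homology.ShortComplex.Ab
import Mathlib.Algebra.Homology.ShortComplex.PreservesHomology

/-!
# Homology of coskeletal simplicial presheaves along maps which are locally surjective in the top degree
-/

set_option autoImplicit false
set_option backward.isDefEq.respectTransparency false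
set_option linter.style.haveILetI false

universe u w

open CategoryTheory CategoryTheory.Limits Opposite Simplicial

noncomputable section

namespace Groth.Agent.HyperLib.CoskLift

section Preserves

variable {E : Type w} [Category.{u} E] [HasFiniteLimits E] (n : ℕ) (X : SimplicialObject E) (G : E ⥤ Type u)
  [PreservesFiniteLimits G]

open Groth.Agent.S8565.S8565Aux in
/-- Coskeletal objects stay coskeletal under functors preserving finite limits. -/
theorem isCoskeletal_comp [∀ (F : (SimplexCategory.Truncated n)ᵒᵖ ⥤ E), (SimplexCategory.Truncated.inclusion n).op.HasRightKanExtension F]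
    (h : IsIso ((SimplicialObject.coskAdj n).unit.app X)) :
    IsIso ((SimplicialObject.coskAdj n).unit.app (X ⋙ G : SimplicialObject (Type u))) := by
  rw [← SimplicialObject.isCoskeletal_iff_isIso] at h ⊢
  haveI := h.isRightKanExtension
  have hp := Functor.isPointwiseRightKanExtensionOfIsRightKanExtension
    (L := (SimplexCategory.Truncated.inclusion n).op) X (𝟙 ((SimplexCategory.Truncated.inclusion n).op ⋙ X))
  have hq : (Functor.RightExtension.mk (L := (SimplexCategory.Truncated.inclusion n).op) (X ⋙ G)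
      (𝟙 ((SimplexCategory.Truncated.inclusion n).op ⋙ X ⋙ G))).IsPointwiseRightKanExtension := fun Δ =>
    IsLimit.ofIsoLimit (isLimitOfPreserves G (hp Δ))
      (Cone.ext (Iso.refl _) fun j => by
        simp
        erw [G.map_id, Category.comp_id])
  exact ⟨hq.isRightKanExtension⟩

end Preserves

/-- The free chain complex of a simplicial set. -/
abbrev setCx (S : SimplicialObject (Type u)) : ChainComplex AddCommGrpCat.{u} ℕ :=
  (AlgebraicTopology.alternatingFaceMapComplex _).obj (S ⋙ AddCommGrpCat.free.{u})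

/-- The induced map. -/
abbrev setMap {S T : SimplicialObject (Type u)} (g : S ⟶ T) : setCx S ⟶ setCx T :=
  (AlgebraicTopology.alternatingFaceMapComplex _).map (Functor.whiskerRight g AddCommGrpCat.free.{u})

theorem setMap_comp {S T W : SimplicialObject (Type u)} (g : S ⟶ T) (h : T ⟶ W) :
    setMap (g ≫ h) = setMap g ≫ setMap h := by
  rw [setMap, Functor.whiskerRight_comp, Functor.map_comp]

theorem free_map_injective {α β : Type u} (g : α ⟶ β) (hg : Function.Injective g) :
    Function.Injective (AddCommGrpCat.free.{u}.map g) := by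
  intro a b hab
  have h : FreeAbelianGroup.map g a = FreeAbelianGroup.map g b := hab
  by_cases hα : Nonempty α
  · obtain ⟨r, hr⟩ := hg.hasLeftInverse
    have key : ∀ c : FreeAbelianGroup α, FreeAbelianGroup.map r (FreeAbelianGroup.map g c) = c := fun c => by
      rw [← FreeAbelianGroup.map_comp_apply, hr.comp_eq_id, FreeAbelianGroup.map_id_apply]
    calc a = FreeAbelianGroup.map r (FreeAbelianGroup.map g a) := (key a).symm
      _ = b := by rw [h]; exact key b
  · haveI : IsEmpty α := not_nonempty_iff.1 hα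
    exact Subsingleton.elim (α := FreeAbelianGroup α) a b

section Sets

variable {L K : SimplicialObject (Type u)} (f : L ⟶ K) (n : ℕ)
  (hiso : ∀ p : ℕ, p < n → Function.Bijective (f.app (op (SimplexCategory.mk p))))
  (hL : IsIso ((SimplicialObject.coskAdj n).unit.app L)) (hK : IsIso ((SimplicialObject.coskAdj n).unit.app K))

theorem setMap_incl_injective (i : ℕ) : Function.Injective ((setMap (incl f n)).f i) :=
  free_map_injective _ (incl_injective f n _)

include hiso hL hK in
theorem exists_cycle_preimage {i j : ℕ} (y : (setCx K).X i) (hy : y ∈ Set.range ((setMap (incl f n)).f i))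
    (hdy : (setCx K).d i j y = 0) : ∃ x : (setCx L).X i, (setCx L).d i j x = 0 ∧ (setMap f).f i x = y := by
  obtain ⟨y', rfl⟩ := hy
  have hy' : (setCx (good f n)).d i j y' = 0 := setMap_incl_injective f n j (by
    rw [map_zero, ← ConcreteCategory.comp_apply, ← (setMap (incl f n)).comm, ConcreteCategory.comp_apply]
    exact hdy)
  refine ⟨(setMap (secMap f hiso hL)).f i y', ?_, ?_⟩
  · rw [← ConcreteCategory.comp_apply, (setMap (secMap f hiso hL)).comm, ConcreteCategory.comp_apply, hy',
      map_zero]
  · rw [← ConcreteCategory.comp_apply, ← HomologicalComplex.comp_f, ← setMap_comp, secMap_comp f hiso hL hK]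

include hiso hL hK in
theorem exists_boundary_preimage {i : ℕ} (x : (setCx L).X i) (hx : ∀ j, (setCx L).d i j x = 0)
    (e : (setCx K).X (i + 1)) (he : e ∈ Set.range ((setMap (incl f n)).f (i + 1)))
    (hfx : (setCx K).d (i + 1) i e = (setMap f).f i x) : ∃ w, (setCx L).d (i + 1) i w = x := by
  obtain ⟨e', rfl⟩ := he
  have he' : (setCx (good f n)).d (i + 1) i e' = (setMap (cores f n)).f i x := setMap_incl_injective f n i (by
    rw [← ConcreteCategory.comp_apply, ← (setMap (incl f n)).comm, ConcreteCategory.comp_apply, hfx,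
      ← ConcreteCategory.comp_apply, ← HomologicalComplex.comp_f, ← setMap_comp, cores_incl])
  obtain ⟨H⟩ := cores_secMap f hiso hL hK
  let h : _root_.Homotopy (setMap (cores f n ≫ secMap f hiso hL)) (setMap (𝟙 L)) :=
    (H.whiskerRight AddCommGrpCat.free.{u}).toChainHomotopy
  have hc : ((setMap (cores f n ≫ secMap f hiso hL)).f i) x =
      (dNext i h.hom) x + (prevD i h.hom) x + (setMap (𝟙 L)).f i x := congr($(h.comm i) x)
  have hid : (setMap (𝟙 L)).f i x = x := by simp [setMap]
  have hnext : (dNext i h.hom) x = 0 := by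
    rw [dNext_eq_dFrom_fromNext, ConcreteCategory.comp_apply]
    rw [show (setCx L).dFrom i x = 0 from hx _, map_zero]
  have hprev : (prevD i h.hom) x = (setCx L).d (i + 1) i (h.hom i (i + 1) x) := by
    rw [prevD_eq h.hom (j := i) (j' := i + 1) rfl]
    rfl
  have hl : (setMap (cores f n ≫ secMap f hiso hL)).f i x =
      (setCx L).d (i + 1) i ((setMap (secMap f hiso hL)).f (i + 1) e') := by
    rw [setMap_comp, HomologicalComplex.comp_f, ConcreteCategory.comp_apply, ← he', ← ConcreteCategory.comp_apply,
      ← (setMap (secMap f hiso hL)).comm, ConcreteCategory.comp_apply]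
  refine ⟨(setMap (secMap f hiso hL)).f (i + 1) e' - h.hom i (i + 1) x, ?_⟩
  rw [map_sub, ← hl, ← hprev, hc]
  rw [hnext, hid]
  abel

end Sets

variable {C : Type u} [SmallCategory C] (J : GrothendieckTopology C)

/-- The simplicial set of sections over an object. -/
abbrev secs (L : SimplicialObject (Cᵒᵖ ⥤ Type u)) (V : Cᵒᵖ) : SimplicialObject (Type u) :=
  L ⋙ (evaluation Cᵒᵖ (Type u)).obj V

/-- The free chain complex of a simplicial presheaf. -/
abbrev preCx (L : SimplicialObject (Cᵒᵖ ⥤ Type u)) : ChainComplex (Cᵒᵖ ⥤ AddCommGrpCat.{u}) ℕ :=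
  (AlgebraicTopology.alternatingFaceMapComplex _).obj
    (L ⋙ (Functor.whiskeringRight Cᵒᵖ (Type u) AddCommGrpCat.{u}).obj AddCommGrpCat.free.{u})

theorem preCx_d_app (L : SimplicialObject (Cᵒᵖ ⥤ Type u)) (V : Cᵒᵖ) (i j : ℕ) :
    ((preCx L).d i j).app V = (setCx (secs L V)).d i j := by
  by_cases h : j + 1 = i
  · subst h
    dsimp only [preCx, setCx]
    rw [AlgebraicTopology.alternatingFaceMapComplex_obj_d, AlgebraicTopology.alternatingFaceMapComplex_obj_d]
    simp only [AlgebraicTopology.AlternatingFaceMapComplex.objD, NatTrans.app_sum, NatTrans.app_zsmul]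
    rfl
  · rw [HomologicalComplex.shape _ _ _ (by simpa using h), HomologicalComplex.shape _ _ _ (by simpa using h)]
    rfl

variable {L K : SimplicialObject (Cᵒᵖ ⥤ Type u)} (f : L ⟶ K) (n : ℕ)

/-- The map of free chain complexes. -/
abbrev preMap : preCx L ⟶ preCx K :=
  (AlgebraicTopology.alternatingFaceMapComplex _).map
    (Functor.whiskerRight f ((Functor.whiskeringRight Cᵒᵖ (Type u) AddCommGrpCat.{u}).obj AddCommGrpCat.free.{u}))

/-- The map on sections. -/
abbrev secsMap (V : Cᵒᵖ) : secs L V ⟶ secs K V := Functor.whiskerRight f ((evaluation Cᵒᵖ (Type u)).obj V)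

variable (h1 : ∀ (p : ℕ), p < n → ∀ V, Function.Bijective ((f.app (op (SimplexCategory.mk p))).app V))
  (h2 : Presheaf.IsLocallySurjective J (f.app (op (SimplexCategory.mk n))))

omit n in
theorem exists_finite_inter {ι : Type*} [Finite ι] {U : C} (S : ι → Sieve U) (hS : ∀ i, S i ∈ J U) :
    ∃ T ∈ J U, ∀ i, T ≤ S i := by
  classical
  cases nonempty_fintype ι
  have : ∀ s : Finset ι, ∃ T ∈ J U, ∀ i ∈ s, T ≤ S i := fun s => by
    induction s using Finset.induction_on with
    | empty => exact ⟨⊤, J.top_mem U, fun i hi => absurd hi (Finset.notMem_empty i)⟩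
    | insert a s ha ih =>
      obtain ⟨T, hT, hle⟩ := ih
      refine ⟨S a ⊓ T, J.intersection_covering (hS a) hT, fun i hi => ?_⟩
      rcases Finset.mem_insert.1 hi with rfl | hi
      · exact inf_le_left
      · exact inf_le_right.trans (hle i hi)
  obtain ⟨T, hT, hle⟩ := this Finset.univ
  exact ⟨T, hT, fun i => hle i (Finset.mem_univ i)⟩

include h1 h2 in
open Groth.Agent.S8565.S8565Aux in
theorem locally_good {U : C} (m : SimplexCategoryᵒᵖ) (z : (K.obj m).obj (op U)) :
    ∃ S ∈ J U, ∀ ⦃V : C⦄ (v : V ⟶ U), S v → (K.obj m).map v.op z ∈ goodSet (secsMap f (op V)) n m := by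
  haveI : ∀ a : SimplexCategory.Truncated n, Finite (a.obj ⟶ m.unop) := fun a => inferInstance
  obtain ⟨T, hT, hle⟩ := exists_finite_inter J
    (fun p : Σ a : SimplexCategory.Truncated n, (a.obj ⟶ m.unop) =>
      Presheaf.imageSieve (f.app (op p.1.obj)) ((K.map p.2.op).app (op U) z)) fun p => by
    obtain ⟨⟨⟨q⟩, hq⟩, α⟩ := p
    rcases lt_or_eq_of_le (show q ≤ n from hq) with h | h
    · refine J.superset_covering ?_ (J.top_mem U)
      intro V v _
      exact (h1 q h (op V)).2 _
    · subst h
      exact h2.imageSieve_mem _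
  refine ⟨T, hT, fun V v hv a α => ?_⟩
  obtain ⟨x, hx⟩ := hle ⟨a, α⟩ _ hv
  exact ⟨x, hx.trans (NatTrans.naturality_apply (K.map α.op) v.op z).symm⟩

include h1 h2 in
theorem locally_range (i : ℕ) {U : C} (y : ((preCx K).X i).obj (op U)) :
    ∃ S ∈ J U, ∀ ⦃V : C⦄ (v : V ⟶ U), S v →
      ((preCx K).X i).map v.op y ∈ Set.range ((setMap (incl (secsMap f (op V)) n)).f i) := by
  let y' : FreeAbelianGroup ((K.obj (op (SimplexCategory.mk i))).obj (op U)) := y
  suffices h : ∃ S ∈ J U, ∀ ⦃V : C⦄ (v : V ⟶ U), S v →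
      FreeAbelianGroup.map ((K.obj (op (SimplexCategory.mk i))).map v.op) y' ∈
        Set.range ((setMap (incl (secsMap f (op V)) n)).f i) from h
  induction y' using FreeAbelianGroup.induction_on with
  | zero => exact ⟨⊤, J.top_mem U, fun V v _ => ⟨0, (map_zero _).trans (map_zero (FreeAbelianGroup.map _)).symm⟩⟩
  | of z =>
    obtain ⟨S, hS, h⟩ := locally_good J f n h1 h2 (op (SimplexCategory.mk i)) z
    refine ⟨S, hS, fun V v hv => ⟨FreeAbelianGroup.of ⟨_, h v hv⟩, ?_⟩⟩
    exact (FreeAbelianGroup.map_of_apply _).trans (FreeAbelianGroup.map_of_apply _).symm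
  | neg z ih =>
    obtain ⟨S, hS, h⟩ := ih
    refine ⟨S, hS, fun V v hv => ?_⟩
    obtain ⟨t, ht⟩ := h v hv
    exact ⟨-t, (map_neg _ _).trans ((congrArg Neg.neg ht).trans (map_neg (FreeAbelianGroup.map _) _).symm)⟩
  | add a b iha ihb =>
    obtain ⟨S, hS, h⟩ := iha
    obtain ⟨S', hS', h'⟩ := ihb
    refine ⟨S ⊓ S', J.intersection_covering hS hS', fun V v hv => ?_⟩
    obtain ⟨t, ht⟩ := h v hv.1
    obtain ⟨t', ht'⟩ := h' v hv.2
    exact ⟨t + t', (map_add _ _ _).trans ((congrArg₂ (· + ·) ht ht').trans (map_add (FreeAbelianGroup.map _) _ _).symm)⟩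

omit n f in
theorem exact_cycles (Q : ChainComplex (Cᵒᵖ ⥤ AddCommGrpCat.{u}) ℕ) (i : ℕ) (V : Cᵒᵖ) (x : (Q.cycles i).obj V)
    (hx : (Q.homologyπ i).app V x = 0) : ∃ e, (Q.toCycles (i + 1) i).app V e = x :=
  (ShortComplex.ab_exact_iff _).1
    ((ShortComplex.exact_of_g_is_cokernel (ShortComplex.mk (Q.toCycles (i + 1) i) (Q.homologyπ i)
      (Q.toCycles_comp_homologyπ _ _)) (Q.homologyIsCokernel (i + 1) i (ChainComplex.prev ℕ i))).map
        ((evaluation Cᵒᵖ AddCommGrpCat.{u}).obj V)) x hx

omit n f in
theorem exists_iCycles (Q : ChainComplex (Cᵒᵖ ⥤ AddCommGrpCat.{u}) ℕ) (i : ℕ) (V : Cᵒᵖ) (a : (Q.X i).obj V)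
    (ha : (Q.d i ((ComplexShape.down ℕ).next i)).app V a = 0) : ∃ z, (Q.iCycles i).app V z = a :=
  (ShortComplex.ab_exact_iff _).1
    ((ShortComplex.exact_of_f_is_kernel (ShortComplex.mk (Q.iCycles i) (Q.d i _) (Q.iCycles_d i _))
      (Q.cyclesIsKernel i _ rfl)).map ((evaluation Cᵒᵖ AddCommGrpCat.{u}).obj V)) a ha

omit n f in
theorem iCycles_injective (Q : ChainComplex (Cᵒᵖ ⥤ AddCommGrpCat.{u}) ℕ) (i : ℕ) (V : Cᵒᵖ) :
    Function.Injective ((Q.iCycles i).app V) := by
  rw [← AddCommGrpCat.mono_iff_injective]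
  infer_instance

omit n f in
theorem d_iCycles (Q : ChainComplex (Cᵒᵖ ⥤ AddCommGrpCat.{u}) ℕ) (i j : ℕ) (V : Cᵒᵖ) (z : (Q.cycles i).obj V) :
    (Q.d i j).app V ((Q.iCycles i).app V z) = 0 := by
  rw [← ConcreteCategory.comp_apply, ← NatTrans.comp_app, Q.iCycles_d]
  rfl

variable [∀ (F : (SimplexCategory.Truncated n)ᵒᵖ ⥤ Type u), (SimplexCategory.Truncated.inclusion n).op.HasRightKanExtension F]
variable (hL : ∀ V, IsIso ((SimplicialObject.coskAdj n).unit.app (secs L V)))
  (hK : ∀ V, IsIso ((SimplicialObject.coskAdj n).unit.app (secs K V)))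

include h1 h2 hL hK in
theorem isLocallyInjective_homologyMap (i : ℕ) :
    Presheaf.IsLocallyInjective J (HomologicalComplex.homologyMap (preMap f) i) := by
  refine ⟨fun {U} x y hxy => ?_⟩
  obtain ⟨U⟩ := U
  have hsurj : Function.Surjective (((preCx L).homologyπ i).app (op U)) := by
    rw [← AddCommGrpCat.epi_iff_surjective]
    infer_instance
  obtain ⟨z, hz⟩ := hsurj (x - y)
  have h0 : ((preCx K).homologyπ i).app (op U) ((HomologicalComplex.cyclesMap (preMap f) i).app (op U) z) = 0 := by
    rw [← ConcreteCategory.comp_apply, ← NatTrans.comp_app, ← HomologicalComplex.homologyπ_naturality,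
      NatTrans.comp_app, ConcreteCategory.comp_apply, hz, map_sub, sub_eq_zero]
    exact hxy
  obtain ⟨e, he⟩ := exact_cycles _ i _ _ h0
  obtain ⟨S, hS, hgood⟩ := locally_range J f n h1 h2 (i + 1) e
  refine J.superset_covering ?_ hS
  intro V v hv
  let a := ((preCx L).iCycles i).app (op V) (((preCx L).cycles i).map v.op z)
  obtain ⟨w, hw⟩ := exists_boundary_preimage (secsMap f (op V)) n (fun p hp => h1 p hp _) (hL _) (hK _)
    (i := i) a (fun j => by
      rw [← preCx_d_app]
      exact d_iCycles _ _ _ _ _)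
    (((preCx K).X (i + 1)).map v.op e) (hgood v hv) (by
      rw [← preCx_d_app]
      show ((preCx K).d (i + 1) i).app (op V) (((preCx K).X (i + 1)).map v.op e) = ((preMap f).f i).app (op V) a
      rw [show a = ((preCx L).X i).map v.op (((preCx L).iCycles i).app (op U) z) from
        NatTrans.naturality_apply ((preCx L).iCycles i) v.op z, NatTrans.naturality_apply ((preMap f).f i),
        NatTrans.naturality_apply ((preCx K).d (i + 1) i)]
      congr 1
      rw [← (preCx K).toCycles_i, NatTrans.comp_app, ConcreteCategory.comp_apply, he,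
        ← ConcreteCategory.comp_apply, ← NatTrans.comp_app, HomologicalComplex.cyclesMap_i]
      rfl)
  show ((preCx L).homology i).map v.op x = ((preCx L).homology i).map v.op y
  rw [← sub_eq_zero, ← map_sub, ← hz, ← NatTrans.naturality_apply ((preCx L).homologyπ i) v.op z]
  have he2 : ((preCx L).cycles i).map v.op z = ((preCx L).toCycles (i + 1) i).app (op V) w := by
    apply iCycles_injective
    rw [← ConcreteCategory.comp_apply (((preCx L).toCycles (i + 1) i).app (op V)), ← NatTrans.comp_app,
      (preCx L).toCycles_i, preCx_d_app]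
    exact hw.symm
  rw [he2, ← ConcreteCategory.comp_apply, ← NatTrans.comp_app, (preCx L).toCycles_comp_homologyπ]
  rfl

include h1 h2 hL hK in
theorem isLocallySurjective_homologyMap (i : ℕ) :
    Presheaf.IsLocallySurjective J (HomologicalComplex.homologyMap (preMap f) i) := by
  refine ⟨fun {U} c => ?_⟩
  have hsurj : Function.Surjective (((preCx K).homologyπ i).app (op U)) := by
    rw [← AddCommGrpCat.epi_iff_surjective]
    infer_instance
  obtain ⟨z, hz⟩ := hsurj c
  obtain ⟨S, hS, hgood⟩ := locally_range J f n h1 h2 i (((preCx K).iCycles i).app (op U) z)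
  refine J.superset_covering ?_ hS
  intro V v hv
  obtain ⟨x, hx, hfx⟩ := exists_cycle_preimage (secsMap f (op V)) n (fun p hp => h1 p hp _) (hL _) (hK _)
    (j := (ComplexShape.down ℕ).next i) _ (hgood v hv) (by
      rw [← preCx_d_app, ← NatTrans.naturality_apply ((preCx K).iCycles i) v.op z]
      exact d_iCycles _ _ _ _ _)
  obtain ⟨a, ha⟩ := exists_iCycles (preCx L) i (op V) x (by rw [preCx_d_app]; exact hx)
  refine ⟨((preCx L).homologyπ i).app (op V) a, ?_⟩
  rw [← ConcreteCategory.comp_apply, ← NatTrans.comp_app, HomologicalComplex.homologyπ_naturality,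
    NatTrans.comp_app, ConcreteCategory.comp_apply, ← hz, ← NatTrans.naturality_apply ((preCx K).homologyπ i) v.op z]
  congr 1
  apply iCycles_injective
  rw [← ConcreteCategory.comp_apply, ← NatTrans.comp_app, HomologicalComplex.cyclesMap_i, NatTrans.comp_app,
    ConcreteCategory.comp_apply, ha, NatTrans.naturality_apply ((preCx K).iCycles i) v.op z]
  exact hfx

include h1 h2 hL hK in
/-- The sheafified free complexes have the same homology. -/
theorem isIso_homologyMap (i : ℕ) :
    IsIso (HomologicalComplex.homologyMap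
      ((AlgebraicTopology.alternatingFaceMapComplex (Sheaf J AddCommGrpCat.{u})).map
        (Functor.whiskerRight f ((Functor.whiskeringRight Cᵒᵖ (Type u) AddCommGrpCat.{u}).obj AddCommGrpCat.free.{u} ⋙
          presheafToSheaf J AddCommGrpCat.{u}))) i) := by
  let F := presheafToSheaf J AddCommGrpCat.{u}
  haveI := isLocallyInjective_homologyMap J f n h1 h2 hL hK i
  haveI := isLocallySurjective_homologyMap J f n h1 h2 hL hK i
  haveI : IsIso (F.map (HomologicalComplex.homologyMap (preMap f) i)) :=
    (J.W_iff _).1 (J.W_of_isLocallyBijective _)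
  have hnat := ShortComplex.mapHomologyIso_hom_naturality
    ((HomologicalComplex.shortComplexFunctor _ _ i).map (preMap f)) F
  have h3 : IsIso (HomologicalComplex.homologyMap ((F.mapHomologicalComplex _).map (preMap f)) i) := by
    show IsIso (ShortComplex.homologyMap (F.mapShortComplex.map
      ((HomologicalComplex.shortComplexFunctor _ _ i).map (preMap f))))
    rw [← cancel_mono (((preCx K).sc i).mapHomologyIso F).inv, Category.assoc, Category.assoc,
      Iso.hom_inv_id, Category.comp_id] at hnat
    rw [hnat]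
    haveI : IsIso (F.map (ShortComplex.homologyMap ((HomologicalComplex.shortComplexFunctor _ _ i).map (preMap f)))) :=
      inferInstanceAs (IsIso (F.map (HomologicalComplex.homologyMap (preMap f) i)))
    infer_instance
  have he := CategoryTheory.Functor.congr_hom (AlgebraicTopology.map_alternatingFaceMapComplex F)
    (Functor.whiskerRight f ((Functor.whiskeringRight Cᵒᵖ (Type u) AddCommGrpCat.{u}).obj AddCommGrpCat.free.{u}))
  dsimp only [Functor.comp_map] at he
  rw [he] at h3
  have hE : ∀ {P Q P' Q' : ChainComplex (Sheaf J AddCommGrpCat.{u}) ℕ} (a : P' = P) (b : Q = Q') (φ : P ⟶ Q),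
      IsIso (HomologicalComplex.homologyMap (eqToHom a ≫ φ ≫ eqToHom b) i) →
        IsIso (HomologicalComplex.homologyMap φ i) := fun a b φ h => by
    subst a b
    simpa using h
  exact hE _ _ _ h3

end Groth.Agent.HyperLib.CoskLift
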