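import Groth.Agent.S8565
import Mathlib.AlgebraicTopology.SimplicialObject.ChainHomotopy
import Mathlib.AlgebraicTopology.AlternatingFaceMapComplex
import Mathlib.Algebra.Category.Grp.Adjunctions
import Mathlib.Algebra.Category.Grp.Abelian

/-!
# Simplicial maps of coskeletal simplicial sets which are bijective below the top degree
-/

set_option autoImplicit false
set_option backward.isDefEq.respectTransparency false
set_option linter.style.haveILetI false

universe u

open CategoryTheory CategoryTheory.Limits Opposite Simplicial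

noncomputable section

namespace Groth.Agent.HyperLib.CoskLift

open Groth.Agent.S8565.S8565Aux

variable {L K : SimplicialObject (Type u)} (f : L ⟶ K) (n : ℕ)

/-- The simplices all whose faces of dimension `≤ n` lift. -/
def goodSet (m : SimplexCategoryᵒᵖ) : Set (K.obj m) :=
  {x | ∀ (a : SimplexCategory.Truncated n) (α : a.obj ⟶ m.unop), K.map α.op x ∈ Set.range (f.app (op a.obj))}

/-- The simplicial subset of liftable simplices. -/
def good : SimplicialObject (Type u) where
  obj m := ↥(goodSet f n m)
  map {m m'} θ := ↾fun x => ⟨K.map θ x.1, fun a α => by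
    rw [← ConcreteCategory.comp_apply, ← K.map_comp]
    exact x.2 a (α ≫ θ.unop)⟩
  map_id m := by
    ext x
    exact congr($(K.map_id m) x.1)
  map_comp {a b c} g h := by
    ext x
    exact congr($(K.map_comp g h) x.1)

/-- The inclusion. -/
def incl : good f n ⟶ K where
  app m := ↾fun x => x.1
  naturality _ _ _ := rfl

theorem app_mem (m : SimplexCategoryᵒᵖ) (x : L.obj m) : f.app m x ∈ goodSet f n m :=
  fun a α => ⟨L.map α.op x, NatTrans.naturality_apply f α.op x⟩

/-- The corestriction. -/
def cores : L ⟶ good f n where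
  app m := ↾fun x => ⟨f.app m x, app_mem f n m x⟩
  naturality m m' θ := by
    ext x
    refine Subtype.ext ?_
    exact congr($(f.naturality θ) x)

theorem cores_incl : cores f n ≫ incl f n = f := rfl

theorem incl_injective (m : SimplexCategoryᵒᵖ) : Function.Injective ((incl f n).app m) :=
  fun _ _ h => Subtype.ext h

/-- Degenerate simplices. -/
def IsDegen {q : ℕ} (x : L _⦋q⦌) : Prop :=
  ∃ b : ℕ, b < q ∧ ∃ (e : SimplexCategory.mk q ⟶ SimplexCategory.mk b) (w : L _⦋b⦌), L.map e.op w = x

theorem IsDegen.exists_σ {q : ℕ} {x : L _⦋q + 1⦌} (h : IsDegen x) :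
    ∃ (i : Fin (q + 1)) (v : L _⦋q⦌), L.σ i v = x := by
  obtain ⟨b, hb, e, w, rfl⟩ := h
  have hni : ¬ Function.Injective e.toOrderHom := fun hi => by
    have := Fintype.card_le_of_injective _ hi
    simp only [SimplexCategory.len_mk, Fintype.card_fin] at this
    omega
  obtain ⟨i, e', rfl⟩ := SimplexCategory.eq_σ_comp_of_not_injective e hni
  exact ⟨i, L.map e'.op w, by simp [SimplicialObject.σ]⟩

theorem σ_inj_faces {q : ℕ} {j k : Fin (q + 1)} {x y : L _⦋q⦌}
    (h : ∀ l, L.δ l (L.σ j x) = L.δ l (L.σ k y)) : L.σ j x = L.σ k y := by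
  wlog hjk : j ≤ k generalizing j k x y
  · exact (this (fun l => (h l).symm) (le_of_not_ge hjk)).symm
  have hδσ : ∀ (i : Fin (q + 1)) (v : L _⦋q⦌), L.δ i.castSucc (L.σ i v) = v := fun i v =>
    congr($(L.δ_comp_σ_self (i := i)) v)
  rcases hjk.eq_or_lt with rfl | hlt
  · have := h j.castSucc
    rw [hδσ, hδσ] at this
    rw [this]
  cases q with
  | zero => exact absurd hlt (by simp [Subsingleton.elim (α := Fin 1) j k])
  | succ p =>
    obtain ⟨k', rfl⟩ : ∃ k' : Fin (p + 1), k'.succ = k :=
      ⟨k.pred (by intro e; rw [e] at hlt; exact absurd hlt (by simp)), Fin.succ_pred _ _⟩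
    obtain ⟨j', rfl⟩ : ∃ j' : Fin (p + 1), j'.castSucc = j :=
      ⟨⟨j.val, by have := Fin.lt_def.1 hlt; simp at this; omega⟩, Fin.ext rfl⟩
    have hle : j' ≤ k' := by
      rw [Fin.lt_def, Fin.val_castSucc, Fin.val_succ] at hlt
      exact Fin.le_def.2 (by omega)
    let v := L.δ j'.castSucc y
    have hx : x = L.σ k' v := by
      have e := h j'.castSucc.castSucc
      rw [hδσ] at e
      rw [e]
      exact congr($(L.δ_comp_σ_of_le (i := j'.castSucc) (j := k') (Fin.castSucc_le_castSucc_iff.2 hle)) y)
    have he : L.σ j'.castSucc x = L.σ k'.succ (L.σ j' v) := by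
      rw [hx]
      exact congr($(L.σ_comp_σ hle) v)
    have hy : y = L.σ j' v := by
      have e := h k'.succ.castSucc
      rw [hδσ, he, hδσ] at e
      exact e.symm
    rw [he, hy]

variable {n}

variable (hiso : ∀ p : ℕ, p < n → Function.Bijective (f.app (op (SimplexCategory.mk p))))

include hiso in
theorem degen_eq {x y : L _⦋n⦌} (hx : IsDegen x) (hy : IsDegen y)
    (h : f.app (op (SimplexCategory.mk n)) x = f.app (op (SimplexCategory.mk n)) y) : x = y := by
  cases n with
  | zero =>
    obtain ⟨b, hb, -⟩ := hx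
    omega
  | succ q =>
    obtain ⟨j, v, rfl⟩ := hx.exists_σ
    obtain ⟨k, w, rfl⟩ := hy.exists_σ
    refine σ_inj_faces fun l => (hiso q (Nat.lt_succ_self q)).1 ?_
    show f.app _ (L.map _ _) = f.app _ (L.map _ _)
    rw [NatTrans.naturality_apply f, NatTrans.naturality_apply f, h]

theorem mem_range_of_good {x : K _⦋n⦌} (hx : x ∈ goodSet f n (op (SimplexCategory.mk n))) :
    x ∈ Set.range (f.app (op (SimplexCategory.mk n))) := by
  simpa using hx ⟨SimplexCategory.mk n, le_refl n⟩ (𝟙 _)

open Classical in
/-- A lift in the top degree, degenerate when possible. -/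
def lift (z : (good f n).obj (op (SimplexCategory.mk n))) : L _⦋n⦌ :=
  if h : ∃ x : L _⦋n⦌, IsDegen x ∧ f.app _ x = z.1 then h.choose else (mem_range_of_good f z.2).choose

theorem lift_spec (z : (good f n).obj (op (SimplexCategory.mk n))) : f.app _ (lift f z) = z.1 := by
  rw [lift]
  split_ifs with h
  · exact h.choose_spec.2
  · exact (mem_range_of_good f z.2).choose_spec

include hiso in
theorem lift_degen (z : (good f n).obj (op (SimplexCategory.mk n))) {x : L _⦋n⦌} (hx : IsDegen x)
    (h : f.app _ x = z.1) : lift f z = x := by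
  have he : ∃ x : L _⦋n⦌, IsDegen x ∧ f.app _ x = z.1 := ⟨x, hx, h⟩
  rw [lift, dif_pos he]
  exact degen_eq f hiso he.choose_spec.1 hx (he.choose_spec.2.trans h.symm)

/-- The section on the simplices of dimension `≤ n`. -/
def sec (p : ℕ) (hp : p ≤ n) : (good f n).obj (op (SimplexCategory.mk p)) → L _⦋p⦌ :=
  if h : p = n then fun z => by subst h; exact lift f z
  else fun z => ((hiso p (lt_of_le_of_ne hp h)).2 z.1).choose

theorem app_sec (p : ℕ) (hp : p ≤ n) (z : (good f n).obj (op (SimplexCategory.mk p))) :
    f.app _ (sec f hiso p hp z) = z.1 := by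
  unfold sec
  split_ifs with h
  · subst h
    exact lift_spec f z
  · exact ((hiso p (lt_of_le_of_ne hp h)).2 z.1).choose_spec

theorem sec_map {p q : ℕ} (hp : p ≤ n) (hq : q ≤ n) (θ : SimplexCategory.mk p ⟶ SimplexCategory.mk q)
    (z : (good f n).obj (op (SimplexCategory.mk q))) :
    sec f hiso p hp ((good f n).map θ.op z) = L.map θ.op (sec f hiso q hq z) := by
  have hf : f.app _ (sec f hiso p hp ((good f n).map θ.op z)) = f.app _ (L.map θ.op (sec f hiso q hq z)) := by
    rw [app_sec, NatTrans.naturality_apply f, app_sec]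
    rfl
  rcases hp.eq_or_lt with rfl | hlt
  · have hsec : ∀ z', sec f hiso p hp z' = lift f z' := fun z' => by
      unfold sec
      rw [dif_pos rfl]
    by_cases hθ : q = p ∧ Function.Surjective θ.toOrderHom
    · obtain ⟨rfl, hs⟩ := hθ
      haveI : Mono θ := SimplexCategory.mono_iff_injective.2
        ((Finite.injective_iff_surjective).2 hs)
      rw [SimplexCategory.eq_id_of_mono θ]
      simp
    rw [hsec]
    refine lift_degen f hiso _ ?_ (by rw [NatTrans.naturality_apply f, app_sec]; rfl)
    rcases hq.eq_or_lt with rfl | hqlt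
    · have hs : ¬ Function.Surjective θ.toOrderHom := fun hs => hθ ⟨rfl, hs⟩
      cases q with
      | zero => exact absurd (fun y => ⟨0, Subsingleton.elim (α := Fin 1) _ _⟩) hs
      | succ r =>
        obtain ⟨i, θ', rfl⟩ := SimplexCategory.eq_comp_δ_of_not_surjective θ hs
        exact ⟨r, Nat.lt_succ_self r, θ', L.map (SimplexCategory.δ i).op (sec f hiso (r + 1) hq z),
          by simp⟩
    · exact ⟨q, hqlt, θ, _, rfl⟩
  · exact (hiso p hlt).1 hf

/-- The section, truncated. -/
def secTrunc : (SimplicialObject.truncation n).obj (good f n) ⟶ (SimplicialObject.truncation n).obj L where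
  app a := ↾sec f hiso a.unop.obj.len a.unop.property
  naturality a b θ := by
    ext z
    exact sec_map f hiso b.unop.property a.unop.property θ.unop.hom z

variable (hL : IsIso ((SimplicialObject.coskAdj n).unit.app L)) (hK : IsIso ((SimplicialObject.coskAdj n).unit.app K))

/-- The simplicial section. -/
def secMap : good f n ⟶ L :=
  ((SimplicialObject.coskAdj n).homEquiv _ _) (secTrunc f hiso) ≫ inv ((SimplicialObject.coskAdj n).unit.app L)

theorem truncation_secMap :
    (SimplicialObject.truncation n).map (secMap f hiso hL) = secTrunc f hiso := by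
  refine ((SimplicialObject.coskAdj n).homEquiv _ _).injective ?_
  rw [Adjunction.homEquiv_unit]
  refine ((SimplicialObject.coskAdj n).unit.naturality (secMap f hiso hL)).symm.trans ?_
  simp [secMap]

include hK in
theorem secMap_comp : secMap f hiso hL ≫ f = incl f n := by
  have key : ∀ {A : SimplicialObject (Type u)} (g g' : A ⟶ K),
      (SimplicialObject.truncation n).map g = (SimplicialObject.truncation n).map g' → g = g' := fun g g' h => by
    rw [← cancel_mono ((SimplicialObject.coskAdj n).unit.app K)]
    refine ((SimplicialObject.coskAdj n).unit.naturality g).trans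
      (Eq.trans ?_ ((SimplicialObject.coskAdj n).unit.naturality g').symm)
    exact congrArg (fun t => _ ≫ (SimplicialObject.Truncated.cosk n).map t) h
  refine key _ _ ?_
  rw [Functor.map_comp, truncation_secMap]
  ext a z
  exact app_sec f hiso _ _ z

include hK hiso hL in
/-- Liftable simplices are in the image. -/
theorem mem_range_of_goodSet (m : SimplexCategoryᵒᵖ) {x : K.obj m} (hx : x ∈ goodSet f n m) :
    x ∈ Set.range (f.app m) :=
  ⟨(secMap f hiso hL).app m ⟨x, hx⟩, congr($(NatTrans.congr_app (secMap_comp f hiso hL hK) m) ⟨x, hx⟩)⟩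

include hK in
theorem cores_secMap : Nonempty (SimplicialObject.Homotopy (cores f n ≫ secMap f hiso hL) (𝟙 L)) := by
  have he : (cores f n ≫ secMap f hiso hL) ≫ f = f := by rw [Category.assoc, secMap_comp f hiso hL hK, cores_incl]
  obtain ⟨H⟩ := Groth.Agent.S8565.result n (cores f n ≫ secMap f hiso hL) (𝟙 L) fun p hp => by
    ext x
    exact (hiso p hp).1 (congr($(NatTrans.congr_app he (op ⦋p⦌)) x))
  let η := (SimplicialObject.coskAdj n).unit.app L
  haveI := hL
  have e : ∀ g : L ⟶ L, η ≫ (SimplicialObject.cosk n).map g ≫ inv η = g := fun g => by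
    rw [← Category.assoc, IsIso.comp_inv_eq]
    exact ((SimplicialObject.coskAdj n).unit.naturality g).symm
  have H' := (H.postcomp (inv η)).precomp η
  rw [e, e] at H'
  exact ⟨H'⟩

end Groth.Agent.HyperLib.CoskLift
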