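import Mathlib

/-!
# Degree zero cohomology of cochain complexes and its derived functors

The right derived functors of `H⁰` on cochain complexes of abelian groups indexed by `ℕ` are the
cohomology groups.
-/

set_option autoImplicit false
set_option backward.isDefEq.respectTransparency false

universe u

open CategoryTheory CategoryTheory.Limits

namespace Groth.Agent.HyperLib.CxDerived

/-- Cocycles of degree zero. -/
noncomputable abbrev Z0 : CochainComplex AddCommGrpCat.{u} ℕ ⥤ AddCommGrpCat.{u} :=
  HomologicalComplex.cyclesFunctor AddCommGrpCat.{u} (ComplexShape.up ℕ) 0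

instance additive_Z0 : Z0.{u}.Additive where
  map_add {X Y} {f g} := by
    rw [← cancel_mono (Y.iCycles 0)]
    simp [Preadditive.comp_add]

instance preservesFiniteLimits_Z0 : PreservesFiniteLimits Z0.{u} :=
  ((Functor.preservesFiniteLimits_tfae Z0.{u}).out 0 3).1 fun S hS => by
    haveI := hS.mono_f
    exact ⟨HomologicalComplex.cycles_left_exact S hS.exact 0, inferInstanceAs (Mono (HomologicalComplex.cyclesMap S.f 0))⟩

/-- The differential of the contractible complex. -/
def coneD (I : CochainComplex AddCommGrpCat.{u} ℕ) (n : ℕ) :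
    AddCommGrpCat.of (I.X n × I.X (n + 1)) ⟶ AddCommGrpCat.of (I.X (n + 1) × I.X (n + 1 + 1)) :=
  AddCommGrpCat.ofHom ((AddMonoidHom.snd _ _).prod 0)

/-- A contractible complex containing a given one. -/
noncomputable def cone (I : CochainComplex AddCommGrpCat.{u} ℕ) : CochainComplex AddCommGrpCat.{u} ℕ :=
  CochainComplex.of (fun n => AddCommGrpCat.of (I.X n × I.X (n + 1))) (coneD I) (fun n => by ext x <;> rfl)

/-- The inclusion in the contractible complex. -/
noncomputable def toCone (I : CochainComplex AddCommGrpCat.{u} ℕ) : I ⟶ cone I where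
  f n := AddCommGrpCat.ofHom ((AddMonoidHom.id _).prod (I.d n (n + 1)).hom)
  comm' := by
    intro i j hij
    obtain rfl : i + 1 = j := hij
    rw [show (cone I).d i (i + 1) = coneD I i from CochainComplex.of_d (fun n => AddCommGrpCat.of (I.X n × I.X (n + 1))) (coneD I) i]
    ext x
    refine Prod.ext rfl ?_
    exact ((ConcreteCategory.comp_apply _ _ _).symm.trans (ConcreteCategory.congr_hom (I.d_comp_d i (i + 1) (i + 1 + 1)) x)).symm

instance mono_toCone (I : CochainComplex AddCommGrpCat.{u} ℕ) : Mono (toCone I) := by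
  haveI : ∀ n, Mono ((toCone I).f n) := fun n =>
    (AddCommGrpCat.mono_iff_injective _).2 fun a b h => congrArg Prod.fst h
  exact HomologicalComplex.mono_of_mono_f _ inferInstance

theorem exists_coboundary_of_injective (I : CochainComplex AddCommGrpCat.{u} ℕ) [Injective I] (n : ℕ)
    (x : I.X (n + 1)) (hx : I.d (n + 1) (n + 1 + 1) x = 0) : ∃ y : I.X n, I.d n (n + 1) y = x := by
  let r : cone I ⟶ I := Injective.factorThru (𝟙 I) (toCone I)
  have hr : toCone I ≫ r = 𝟙 I := Injective.comp_factorThru _ _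
  refine ⟨r.f n ((0, x) : I.X n × I.X (n + 1)), ?_⟩
  rw [← ConcreteCategory.comp_apply, r.comm, ConcreteCategory.comp_apply,
    show (cone I).d n (n + 1) = coneD I n from CochainComplex.of_d (fun n => AddCommGrpCat.of (I.X n × I.X (n + 1))) (coneD I) n]
  have e : coneD I n ((0, x) : I.X n × I.X (n + 1)) = (toCone I).f (n + 1) x :=
    Prod.ext rfl hx.symm
  refine (congrArg (r.f (n + 1)) e).trans ?_
  rw [← ConcreteCategory.comp_apply, ← HomologicalComplex.comp_f, hr]
  rfl

theorem isZero_homology_of_injective (I : CochainComplex AddCommGrpCat.{u} ℕ) [Injective I] (n : ℕ) :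
    IsZero (I.homology (n + 1)) := by
  rw [← HomologicalComplex.exactAt_iff_isZero_homology,
    HomologicalComplex.exactAt_iff' _ n (n + 1) (n + 1 + 1) (by simp) (by simp), ShortComplex.ab_exact_iff]
  exact fun x hx => exists_coboundary_of_injective I n x hx

instance hasInjectiveResolutions : HasInjectiveResolutions (CochainComplex AddCommGrpCat.{u} ℕ) :=
  inferInstance

/-- The right derived functors of `H⁰` are the cohomology groups. -/
theorem nonempty_rightDerived_iso (X : CochainComplex AddCommGrpCat.{u} ℕ) (p : ℕ) :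
    Nonempty ((Z0.rightDerived p).obj X ≅ X.homology p) := by
  cases p with
  | zero => exact ⟨Z0.rightDerivedZeroIsoSelf.app X ≪≫ asIso (X.homologyπ 0)⟩
  | succ p =>
  let R := InjectiveResolution.of X
  let Z : ℕ → CochainComplex AddCommGrpCat.{u} ℕ := fun n => kernel (R.cocomplex.d n (n + 1))
  let l : ∀ n, R.cocomplex.X n ⟶ Z (n + 1) := fun n =>
    kernel.lift (R.cocomplex.d (n + 1) (n + 1 + 1)) (R.cocomplex.d n (n + 1))
      (R.cocomplex.d_comp_d _ _ _)
  let T : ℕ → ShortComplex (CochainComplex AddCommGrpCat.{u} ℕ) := fun n =>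
    ShortComplex.mk (kernel.ι (R.cocomplex.d n (n + 1))) (l n)
    (by rw [← cancel_mono (kernel.ι _), Category.assoc, kernel.lift_ι, kernel.condition, zero_comp])
  have hT : ∀ n, (T n).ShortExact := fun n =>
    { exact := by
        rw [ShortComplex.exact_iff_exact_up_to_refinements]
        intro W x hx
        dsimp [T] at x hx
        have hx' : x ≫ R.cocomplex.d n (n + 1) = 0 := by
          rw [← kernel.lift_ι (R.cocomplex.d (n + 1) (n + 1 + 1)) (R.cocomplex.d n (n + 1))
            (R.cocomplex.d_comp_d _ _ _), ← Category.assoc]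
          exact (congrArg (· ≫ kernel.ι _) hx).trans zero_comp
        exact ⟨W, 𝟙 W, inferInstance, kernel.lift _ x hx', by simp [T]⟩
      mono_f := inferInstanceAs (Mono (kernel.ι _))
      epi_g := (R.exact_succ n).epi_kernelLift }
  have h0 : ∀ n j, IsZero ((T n).X₂.homology (j + 1)) := fun n j =>
    haveI : Injective (T n).X₂ := inferInstanceAs (Injective (R.cocomplex.X n))
    isZero_homology_of_injective _ j
  have shift : ∀ j k, Nonempty ((Z k).homology (j + 1) ≅ (Z (k + j)).homology 1) := by
    intro j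
    induction j with
    | zero => exact fun k => ⟨Iso.refl _⟩
    | succ j ih =>
      intro k
      obtain ⟨e⟩ := ih (k + 1)
      exact ⟨((hT k).δIso (j + 1) (j + 1 + 1) rfl (h0 k j) (h0 k (j + 1))).symm ≪≫ e ≪≫
        eqToIso (by rw [show k + (j + 1) = k + 1 + j by omega])⟩
  haveI : Mono (ShortComplex.mk (R.ι.f 0) (R.cocomplex.d 0 1) R.ι_f_zero_comp_complex_d).f :=
    inferInstanceAs (Mono (R.ι.f 0))
  let eX : X ≅ Z 0 := IsLimit.conePointUniqueUpToIso R.exact₀.fIsKernel (limit.isLimit _)
  obtain ⟨es⟩ := shift p 0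
  let e₁ : X.homology (p + 1) ≅ (Z p).homology 1 :=
    (HomologicalComplex.homologyFunctor _ _ (p + 1)).mapIso eX ≪≫ es ≪≫
      eqToIso (by rw [Nat.zero_add])
  -- the cokernel of the connecting map
  let φ := HomologicalComplex.homologyMap (T p).g 0
  let δ := (hT p).δ 0 1 rfl
  haveI : Epi δ := (hT p).epi_δ 0 1 rfl (h0 p 0)
  let e₂ : cokernel φ ≅ (Z p).homology 1 :=
    IsColimit.coconePointUniqueUpToIso (cokernelIsCokernel φ) ((hT p).homology_exact₃ 0 1 rfl).gIsCokernel
  let e₃ : cokernel (Z0.map (l p)) ≅ cokernel φ :=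
    cokernel.mapIso _ _ (asIso ((R.cocomplex.X p).homologyπ 0)) (asIso ((Z (p + 1)).homologyπ 0))
      (HomologicalComplex.homologyπ_naturality (l p) 0).symm
  let CC := (Z0.mapHomologicalComplex (ComplexShape.up ℕ)).obj R.cocomplex
  have hk := isLimitForkMapOfIsLimit' Z0 (kernel.condition (R.cocomplex.d (p + 1) (p + 1 + 1))) (kernelIsKernel _)
  let ec : CC.cycles (p + 1) ≅ Z0.obj (Z (p + 1)) :=
    IsLimit.conePointUniqueUpToIso (CC.cyclesIsKernel (p + 1) (p + 1 + 1) (by simp)) hk
  have hec : ec.hom ≫ Z0.map (kernel.ι _) = CC.iCycles (p + 1) :=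
    IsLimit.conePointUniqueUpToIso_hom_comp (CC.cyclesIsKernel (p + 1) (p + 1 + 1) (by simp)) hk
      WalkingParallelPair.zero
  haveI : Mono (Z0.map (kernel.ι (R.cocomplex.d (p + 1) (p + 1 + 1)))) := inferInstance
  let e₄ : CC.homology (p + 1) ≅ cokernel (Z0.map (l p)) :=
    IsColimit.coconePointUniqueUpToIso (CC.homologyIsCokernel p (p + 1) (by simp)) (cokernelIsCokernel _) ≪≫
      cokernel.mapIso (CC.toCycles p (p + 1)) (Z0.map (l p)) (Iso.refl _) ec (by
        rw [← cancel_mono (Z0.map (kernel.ι (R.cocomplex.d (p + 1) (p + 1 + 1)))), Category.assoc, Category.assoc,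
          hec, CC.toCycles_i, Iso.refl_hom, ← Z0.map_comp, kernel.lift_ι]
        exact (Category.id_comp _).symm)
  exact ⟨R.isoRightDerivedObj Z0 (p + 1) ≪≫ e₄ ≪≫ e₃ ≪≫ e₂ ≪≫ e₁.symm⟩

end Groth.Agent.HyperLib.CxDerived
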