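import Groth.Agent.HyperLib.Site

/-!
# Degree zero of the Čech complex of a hypercovering
-/

set_option autoImplicit false
set_option backward.isDefEq.respectTransparency false

universe u

open CategoryTheory CategoryTheory.Limits Opposite

namespace Groth.Agent.HyperLib

variable {D : Type u} [SmallCategory D] (J : GrothendieckTopology D)
  (K : SimplicialObject (FormalCoproduct.{u} D)) (P : Dᵒᵖ ⥤ AddCommGrpCat.{u})

/-- Evaluation of a degree zero cochain on a map to the vertices. -/
noncomputable def val0 {U : D} (t : (FormalCoproduct.incl D).obj U ⟶ K.obj (op (SimplexCategory.mk 0))) :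
    ((FormalCoproduct.cochainComplexFunctor K).obj P).X 0 ⟶ P.obj (op U) :=
  Pi.π (fun i => P.obj (op ((K.obj (op (SimplexCategory.mk 0))).obj i))) (t.f PUnit.unit) ≫
    P.map (t.φ PUnit.unit).op

theorem val0_comp {U V : D} (k : V ⟶ U)
    (t : (FormalCoproduct.incl D).obj U ⟶ K.obj (op (SimplexCategory.mk 0))) :
    val0 K P ((FormalCoproduct.incl D).map k ≫ t) = val0 K P t ≫ P.map k.op := by
  simp [val0, ← P.map_comp, ← op_comp]
  rfl

/-- The map of the Čech differential in degree zero on a given simplex of dimension one. -/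
noncomputable def val1 {U : D} (t : (FormalCoproduct.incl D).obj U ⟶ K.obj (op (SimplexCategory.mk 1))) :
    ((FormalCoproduct.cochainComplexFunctor K).obj P).X 1 ⟶ P.obj (op U) :=
  Pi.π (fun i => P.obj (op ((K.obj (op (SimplexCategory.mk 1))).obj i))) (t.f PUnit.unit) ≫
    P.map (t.φ PUnit.unit).op

theorem d_eq : ((FormalCoproduct.cochainComplexFunctor K).obj P).d 0 1 =
    ((FormalCoproduct.evalOp.{u} D AddCommGrpCat.{u}).obj P).map (K.δ (0 : Fin 2)).op -
      ((FormalCoproduct.evalOp.{u} D AddCommGrpCat.{u}).obj P).map (K.δ (1 : Fin 2)).op := by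
  have h : ((FormalCoproduct.cochainComplexFunctor K).obj P).d 0 1 =
      ∑ i : Fin (0 + 2), (-1 : ℤ) ^ (i : ℕ) •
        ((FormalCoproduct.cosimplicialObjectFunctor K).obj P).δ i :=
    CochainComplex.of_d (fun n => ((FormalCoproduct.cosimplicialObjectFunctor K).obj P).obj (SimplexCategory.mk n))
      (AlgebraicTopology.AlternatingCofaceMapComplex.objD ((FormalCoproduct.cosimplicialObjectFunctor K).obj P)) 0
  rw [h, Fin.sum_univ_two]
  simp [sub_eq_add_neg]
  rfl

theorem map_δ_val1 {U : D} (a : (FormalCoproduct.incl D).obj U ⟶ K.obj (op (SimplexCategory.mk 1)))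
    (i : Fin 2) :
    ((FormalCoproduct.evalOp.{u} D AddCommGrpCat.{u}).obj P).map (K.δ i).op ≫ val1 K P a = val0 K P (a ≫ K.δ i) := by
  simp [val0, val1, Pi.lift_π, ← P.map_comp, ← op_comp]

theorem agree {U : D} (a : (FormalCoproduct.incl D).obj U ⟶ K.obj (op (SimplexCategory.mk 1)))
    (x : ((FormalCoproduct.cochainComplexFunctor K).obj P).X 0)
    (hx : ((FormalCoproduct.cochainComplexFunctor K).obj P).d 0 1 x = 0) :
    val0 K P (a ≫ K.δ (1 : Fin 2)) x = val0 K P (a ≫ K.δ (0 : Fin 2)) x := by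
  have h := congrArg (val1 K P a) hx
  rw [map_zero, d_eq] at h
  rw [← map_δ_val1, ← map_δ_val1]
  have h' : val1 K P a (((FormalCoproduct.evalOp.{u} D AddCommGrpCat.{u}).obj P).map (K.δ (0 : Fin 2)).op x -
      ((FormalCoproduct.evalOp.{u} D AddCommGrpCat.{u}).obj P).map (K.δ (1 : Fin 2)).op x) = 0 := h
  rw [map_sub, sub_eq_zero] at h'
  exact h'.symm

/-- The restriction from global sections to the vertices. -/
noncomputable def res0 : limit P ⟶ ((FormalCoproduct.cochainComplexFunctor K).obj P).X 0 :=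
  Pi.lift fun i => limit.π P (op ((K.obj (op (SimplexCategory.mk 0))).obj i))

theorem res0_val0 {U : D} (t : (FormalCoproduct.incl D).obj U ⟶ K.obj (op (SimplexCategory.mk 0))) :
    res0 K P ≫ val0 K P t = limit.π P (op U) := by
  unfold res0 val0
  erw [Pi.lift_π_assoc, limit.w]

theorem res0_d : res0 K P ≫ ((FormalCoproduct.cochainComplexFunctor K).obj P).d 0 1 = 0 := by
  refine Pi.hom_ext _ _ fun j => ?_
  have e : ∀ i : Fin 2, res0 K P ≫ ((FormalCoproduct.evalOp.{u} D AddCommGrpCat.{u}).obj P).map (K.δ i).op ≫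
      val1 K P (FormalCoproduct.Hom.fromIncl j (𝟙 _)) = limit.π P _ := fun i => by
    rw [map_δ_val1, res0_val0]
  have h1 : ∀ (g : limit P ⟶ ((FormalCoproduct.cochainComplexFunctor K).obj P).X 1),
      g ≫ Pi.π (fun i => P.obj (op ((K.obj (op (SimplexCategory.mk 1))).obj i))) j =
        g ≫ val1 K P (FormalCoproduct.Hom.fromIncl j (𝟙 _)) := fun g => by
    simp [val1]
    erw [P.map_id, Category.comp_id]
    rfl
  refine (h1 _).trans (((?_ : _ = (0 : limit P ⟶ _))).trans zero_comp.symm)
  rw [d_eq, Preadditive.comp_sub, Preadditive.sub_comp, Category.assoc, Category.assoc, e, e, sub_self]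

/-- Degree zero Čech cohomology of a sheaf with respect to a hypercovering is its global sections. -/
theorem cech_homology_zero (hP : Presheaf.IsSheaf J P) (h0 : ∀ U : D, vertexSieve K U ∈ J U)
    (h1 : ∀ (Y : D) (t₀ t₁ : (FormalCoproduct.incl D).obj Y ⟶ K.obj (op (SimplexCategory.mk 0))),
      ∃ S ∈ J Y, ∀ {Z : D} (k : Z ⟶ Y), S k →
        ∃ a : (FormalCoproduct.incl D).obj Z ⟶ K.obj (op (SimplexCategory.mk 1)),
          a ≫ K.δ (1 : Fin 2) = (FormalCoproduct.incl D).map k ≫ t₀ ∧
          a ≫ K.δ (0 : Fin 2) = (FormalCoproduct.incl D).map k ≫ t₁) :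
    Nonempty (((FormalCoproduct.cochainComplexFunctor K).obj P).homology 0 ≅ limit P) := by
  classical
  let C := (FormalCoproduct.cochainComplexFunctor K).obj P
  have hT : Presieve.IsSheaf J (P ⋙ forget AddCommGrpCat.{u}) :=
    (isSheaf_iff_isSheaf_of_type _ _).1 ((sheafCompose J (forget AddCommGrpCat.{u})).obj ⟨P, hP⟩).2
  have sep : ∀ {U : D} {S : Sieve U}, S ∈ J U → ∀ y y' : P.obj (op U),
      (∀ {Z : D} (k : Z ⟶ U), S k → P.map k.op y = P.map k.op y') → y = y' := fun {U S} hS y y' h =>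
    (hT S hS).isSeparatedFor.ext fun Z k hk => h k hk
  have hval : ∀ (x : C.X 0), C.d 0 1 x = 0 → ∀ {U : D}
      (t t' : (FormalCoproduct.incl D).obj U ⟶ K.obj (op (SimplexCategory.mk 0))),
      val0 K P t x = val0 K P t' x := by
    intro x hx U t t'
    obtain ⟨S, hS, hfill⟩ := h1 U t t'
    refine sep hS _ _ fun {Z} k hk => ?_
    obtain ⟨a, ha, ha'⟩ := hfill k hk
    have := agree K P a x hx
    rw [ha, ha', val0_comp, val0_comp] at this
    exact this
  have hsurj : ∀ x : C.X 0, C.d 0 1 x = 0 → ∃ l : (limit P : AddCommGrpCat.{u}), res0 K P l = x := by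
    intro x hx
    have hy : ∀ U : D, ∃ y : P.obj (op U), ∀ {Z : D} (k : Z ⟶ U)
        (t : (FormalCoproduct.incl D).obj Z ⟶ K.obj (op (SimplexCategory.mk 0))),
        P.map k.op y = val0 K P t x := by
      intro U
      let fam : Presieve.FamilyOfElements (P ⋙ forget AddCommGrpCat.{u}) (vertexSieve K U).arrows :=
        fun Z k hk => val0 K P hk.some x
      have hfam : fam.Compatible := by
        intro Z₁ Z₂ Z g₁ g₂ f₁ f₂ m₁ m₂ _
        change P.map g₁.op (val0 K P m₁.some x) = P.map g₂.op (val0 K P m₂.some x)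
        rw [← ConcreteCategory.comp_apply, ← ConcreteCategory.comp_apply, ← val0_comp, ← val0_comp]
        exact hval x hx _ _
      obtain ⟨y, hy, -⟩ := hT _ (h0 U) fam hfam
      exact ⟨y, fun {Z} k t => (hy k ⟨t⟩).trans (hval x hx _ _)⟩
    choose y hy using hy
    have hnat : ∀ {U V : D} (f : V ⟶ U), P.map f.op (y U) = y V := by
      intro U V f
      refine sep (h0 V) _ _ fun {Z} k hk => ?_
      obtain ⟨t⟩ := hk
      rw [hy V k t, ← ConcreteCategory.comp_apply, ← P.map_comp, ← op_comp, hy U (k ≫ f) t]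
    let c : Cone P :=
      { pt := AddCommGrpCat.of (ULift.{u} ℤ)
        π :=
          { app := fun U => AddCommGrpCat.ofHom
              ((zmultiplesHom (P.obj U) (y U.unop)).comp AddEquiv.ulift.toAddMonoidHom)
            naturality := fun U V f => by
              ext n
              change n.down • y V.unop = P.map f (n.down • y U.unop)
              rw [map_zsmul]
              exact congrArg (n.down • ·) (hnat f.unop).symm } }
    refine ⟨limit.lift P c ⟨1⟩, Concrete.limit_ext _ _ _ fun ⟨i⟩ => ?_⟩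
    have e : ∀ l, Pi.π (fun i => P.obj (op ((K.obj (op (SimplexCategory.mk 0))).obj i))) i (res0 K P l) =
        limit.π P (op ((K.obj (op (SimplexCategory.mk 0))).obj i)) l := fun l => by
      exact ConcreteCategory.congr_hom (Pi.lift_π
        (fun i => limit.π P (op ((K.obj (op (SimplexCategory.mk 0))).obj i))) i) l
    refine (e _).trans ?_
    rw [← ConcreteCategory.comp_apply, limit.lift_π]
    change (1 : ℤ) • y _ = _
    rw [one_smul]
    have h := hy _ (𝟙 _) (FormalCoproduct.Hom.fromIncl i (𝟙 _))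
    rw [op_id, P.map_id] at h
    refine h.trans ?_
    change (_ ≫ P.map (𝟙 _).op) x = _
    rw [op_id, P.map_id, Category.comp_id]
    rfl
  have hinj : Function.Injective (res0 K P) := by
    intro l l' h
    refine Concrete.limit_ext _ _ _ fun ⟨U⟩ => ?_
    refine sep (h0 U) _ _ fun {Z} k hk => ?_
    obtain ⟨t⟩ := hk
    rw [← ConcreteCategory.comp_apply, ← ConcreteCategory.comp_apply, limit.w, ← res0_val0 K P t,
      ConcreteCategory.comp_apply, ConcreteCategory.comp_apply, h]
  let φ : limit P ⟶ C.cycles 0 := C.liftCycles (res0 K P) 1 (CochainComplex.next ℕ 0) (res0_d K P)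
  have hi : φ ≫ C.iCycles 0 = res0 K P := C.liftCycles_i _ _ _ _
  have hbij : Function.Bijective φ := by
    constructor
    · intro l l' h
      apply hinj
      rw [← hi, ConcreteCategory.comp_apply, ConcreteCategory.comp_apply, h]
    · intro z
      obtain ⟨l, hl⟩ := hsurj (C.iCycles 0 z) (by
        rw [← ConcreteCategory.comp_apply, C.iCycles_d]
        rfl)
      refine ⟨l, (AddCommGrpCat.mono_iff_injective (C.iCycles 0)).1 inferInstance ?_⟩
      rw [← ConcreteCategory.comp_apply, hi, hl]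
  haveI : IsIso φ := (ConcreteCategory.isIso_iff_bijective φ).2 hbij
  exact ⟨C.isoHomologyπ₀.symm ≪≫ (asIso φ).symm⟩

/-- `elt` is injective. -/
theorem elt_injective {Y : D} {T : FormalCoproduct.{u} D} {t t' : (FormalCoproduct.incl D).obj Y ⟶ T}
    (h : elt t = elt t') : t = t' := by
  let G : Discrete T.I ⥤ Type u := Discrete.functor fun i => (Y ⟶ T.obj i)
  let c : Cofan fun i => (Y ⟶ T.obj i) := Cofan.mk (Σ i, Y ⟶ T.obj i) fun i =>
    TypeCat.ofHom fun x => ⟨i, x⟩
  have hl := isColimitOfPreserves ((evaluation _ _).obj (op Y))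
    (colimit.isColimit (Discrete.functor fun i => yoneda.obj (T.obj i)))
  let c' : Cocone (Discrete.functor (fun i => yoneda.obj (T.obj i)) ⋙ (evaluation _ _).obj (op Y)) :=
    { pt := Σ i, Y ⟶ T.obj i
      ι := Discrete.natTrans fun i => TypeCat.ofHom fun x => ⟨i.as, x⟩ }
  have e : ∀ s : (FormalCoproduct.incl D).obj Y ⟶ T,
      hl.desc c' (elt s) = (⟨s.f PUnit.unit, s.φ PUnit.unit⟩ : Σ i, Y ⟶ T.obj i) := fun s =>
    ConcreteCategory.congr_hom (hl.fac c' ⟨s.f PUnit.unit⟩) (s.φ PUnit.unit)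
  have h' : (⟨t.f PUnit.unit, t.φ PUnit.unit⟩ : Σ i, Y ⟶ T.obj i) = ⟨t'.f PUnit.unit, t'.φ PUnit.unit⟩ := by
    rw [← e, ← e, h]
  obtain ⟨h₁, h₂⟩ := Sigma.mk.inj_iff.1 h'
  exact incl_hom_ext h₁ (eq_of_heq ((comp_eqToHom_heq _ _).trans h₂))

end Groth.Agent.HyperLib
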