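import Groth.Agent.HyperLib.Site

/-!
# Refining a hypercovering along a covering of one of its levels
-/

set_option autoImplicit false
set_option backward.isDefEq.respectTransparency false

universe u

open CategoryTheory CategoryTheory.Limits Opposite

namespace Groth.Agent.HyperLib

instance (m q : ℕ) : Finite (SimplexCategory.mk m ⟶ SimplexCategory.mk q) :=
  Finite.of_injective (fun θ => (θ.toOrderHom : Fin (m + 1) → Fin (q + 1)))
    fun _ _ h => SimplexCategory.Hom.ext _ _ (OrderHom.ext _ _ h)

instance (n : ℕ) (x : SimplexCategoryᵒᵖ) : Finite (SimplexCategory.mk n ⟶ x.unop) := by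
  induction x using Opposite.rec with
  | op x =>
    induction x using SimplexCategory.rec with
    | _ q => exact inferInstanceAs (Finite (SimplexCategory.mk n ⟶ SimplexCategory.mk q))

theorem proper_imFace' {m q : ℕ} (hm : m < q) (θ : SimplexCategory.mk m ⟶ SimplexCategory.mk q) :
    (imFace θ (topFace m)).1 ≠ Finset.univ :=
  proper_imFace hm θ _

/-- A proper face containing the image of a non-surjective map. -/
def Proper.ofMap {m q : ℕ} (θ : SimplexCategory.mk m ⟶ SimplexCategory.mk q)
    (h : (imFace θ (topFace m)).1 ≠ Finset.univ) : Proper q :=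
  ⟨imFace θ (topFace m), h⟩

theorem Proper.emb_cancel {q m : ℕ} (T : Proper q) (a b : SimplexCategory.mk m ⟶ SimplexCategory.mk T.dim)
    (h : a ≫ T.emb = b ≫ T.emb) : a = b :=
  SimplexCategory.Hom.ext _ _ (OrderHom.ext _ _ (funext fun i =>
    (T.1.1.orderEmbOfFin T.card_eq).injective
      (DFunLike.congr_fun (congrArg SimplexCategory.Hom.toOrderHom h) i)))

variable {D : Type u} [SmallCategory D]

/-- Local lifting of finitely many maps along a covering. -/
theorem Cov.lift_finset {J : GrothendieckTopology D} {A T : FormalCoproduct.{u} D} {v : A ⟶ T}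
    (hv : Cov J v) {Y : D} {ι : Type} (s : Finset ι) (t : ι → ((FormalCoproduct.incl D).obj Y ⟶ T)) :
    ∃ S ∈ J Y, ∀ {Z : D} (k : Z ⟶ Y), S k → ∀ i ∈ s,
      ∃ a : (FormalCoproduct.incl D).obj Z ⟶ A, a ≫ v = (FormalCoproduct.incl D).map k ≫ t i := by
  classical
  induction s using Finset.induction_on with
  | empty => exact ⟨⊤, J.top_mem _, fun _ _ i hi => absurd hi (Finset.notMem_empty i)⟩
  | @insert j s _ ih =>
    obtain ⟨S, hS, h⟩ := ih
    refine ⟨_, J.intersection_covering hS (hv Y (t j)), fun {Z} k hk i hi => ?_⟩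
    rcases Finset.mem_insert.1 hi with rfl | hi
    · exact hk.2
    · exact h k hk.1 i hi

variable [HasFiniteLimits (FormalCoproduct.{u} D)] (n : ℕ)

/-- The right adjoint of evaluation at level `n`. -/
noncomputable abbrev cofree (W : FormalCoproduct.{u} D) : SimplicialObject (FormalCoproduct.{u} D) where
  obj x := ∏ᶜ fun _ : (SimplexCategory.mk n ⟶ x.unop) => W
  map θ := Pi.lift fun φ => Pi.π _ (φ ≫ θ.unop)
  map_id x := Pi.hom_ext _ _ fun φ => by simp
  map_comp θ θ' := Pi.hom_ext _ _ fun φ => by simp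

/-- Functoriality of `cofree`. -/
noncomputable def cofreeMap {W W' : FormalCoproduct.{u} D} (v : W ⟶ W') : cofree n W ⟶ cofree n W' where
  app x := Limits.Pi.map fun _ => v
  naturality x y θ := by
    refine Pi.hom_ext _ _ fun φ => ?_
    simp

theorem cofreeMap_π {W W' : FormalCoproduct.{u} D} (v : W ⟶ W') {q : ℕ}
    (θ : SimplexCategory.mk n ⟶ SimplexCategory.mk q) :
    (cofreeMap n v).app (op (SimplexCategory.mk q)) ≫
        Pi.π (fun _ : (SimplexCategory.mk n ⟶ SimplexCategory.mk q) => W') θ =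
      Pi.π (fun _ : (SimplexCategory.mk n ⟶ SimplexCategory.mk q) => W) θ ≫ v :=
  Limits.Pi.map_π (fun _ : (SimplexCategory.mk n ⟶ SimplexCategory.mk q) => v) θ

/-- The unit to `cofree` of the level. -/
noncomputable def toCofree (K : SimplicialObject (FormalCoproduct.{u} D)) :
    K ⟶ cofree n (K.obj (op (SimplexCategory.mk n))) where
  app x := Pi.lift fun φ => K.map φ.op
  naturality x y θ := by
    refine Pi.hom_ext _ _ fun φ => ?_
    simp only [Category.assoc]
    erw [Pi.lift_π, Pi.lift_π, Pi.lift_π, ← K.map_comp]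
    rfl

variable {n}
variable (K : SimplicialObject (FormalCoproduct.{u} D)) {W : FormalCoproduct.{u} D}
  (v : W ⟶ K.obj (op (SimplexCategory.mk n)))

/-- The refinement of `K` along `v`. -/
noncomputable abbrev refine' : SimplicialObject (FormalCoproduct.{u} D) :=
  pullback (toCofree n K) (cofreeMap n v)

/-- The projection of the refinement. -/
noncomputable def refineMap : refine' K v ⟶ K := pullback.fst _ _

/-- The lift at level `n`. -/
noncomputable def refineLift : (refine' K v).obj (op (SimplexCategory.mk n)) ⟶ W :=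
  (pullback.snd (toCofree n K) (cofreeMap n v)).app _ ≫
    Pi.π (fun _ : (SimplexCategory.mk n ⟶ SimplexCategory.mk n) => W) (𝟙 _)

theorem refineLift_comp : refineLift K v ≫ v = (refineMap K v).app (op (SimplexCategory.mk n)) := by
  have h := NatTrans.congr_app (pullback.condition (f := toCofree n K) (g := cofreeMap n v))
    (op (SimplexCategory.mk n))
  have h' := h =≫ Pi.π (fun _ : (SimplexCategory.mk n ⟶ SimplexCategory.mk n) =>
    K.obj (op (SimplexCategory.mk n))) (𝟙 _)
  simp only [NatTrans.comp_app, Category.assoc] at h'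
  erw [Pi.lift_π, cofreeMap_π] at h'
  simp only [refineLift, refineMap, Category.assoc]
  refine h'.symm.trans ?_
  rw [op_id, K.map_id, Category.comp_id]

theorem lvl_isPullback (x : SimplexCategoryᵒᵖ) :
    IsPullback ((pullback.fst (toCofree n K) (cofreeMap n v)).app x)
      ((pullback.snd (toCofree n K) (cofreeMap n v)).app x) ((toCofree n K).app x) ((cofreeMap n v).app x) :=
  (IsPullback.of_hasPullback (toCofree n K) (cofreeMap n v)).map ((evaluation _ _).obj x)

/-- A simplex of the refinement from a simplex and lifts. -/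
theorem exists_simplex {Z : D} {q : ℕ}
    (a : (FormalCoproduct.incl D).obj Z ⟶ K.obj (op (SimplexCategory.mk q)))
    (z : (SimplexCategory.mk n ⟶ SimplexCategory.mk q) → ((FormalCoproduct.incl D).obj Z ⟶ W))
    (hz : ∀ θ, z θ ≫ v = a ≫ K.map θ.op) :
    ∃ l : (FormalCoproduct.incl D).obj Z ⟶ (refine' K v).obj (op (SimplexCategory.mk q)),
      l ≫ (pullback.fst (toCofree n K) (cofreeMap n v)).app _ = a ∧
      l ≫ (pullback.snd (toCofree n K) (cofreeMap n v)).app _ = Pi.lift z := by
  have e : a ≫ (toCofree n K).app (op (SimplexCategory.mk q)) = Pi.lift z ≫ (cofreeMap n v).app _ := by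
    refine Pi.hom_ext _ _ fun θ => ?_
    simp [toCofree, cofreeMap, hz]
  exact ⟨(lvl_isPullback K v _).lift a (Pi.lift z) e, IsPullback.lift_fst _ _ _ _,
    IsPullback.lift_snd _ _ _ _⟩

theorem cond_π {q : ℕ} (θ : SimplexCategory.mk n ⟶ SimplexCategory.mk q) :
    (pullback.fst (toCofree n K) (cofreeMap n v)).app (op (SimplexCategory.mk q)) ≫ K.map θ.op =
      (pullback.snd (toCofree n K) (cofreeMap n v)).app (op (SimplexCategory.mk q)) ≫
        Pi.π (fun _ : (SimplexCategory.mk n ⟶ SimplexCategory.mk q) => W) θ ≫ v := by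
  have h := NatTrans.congr_app (pullback.condition (f := toCofree n K) (g := cofreeMap n v))
    (op (SimplexCategory.mk q))
  have h' := h =≫ Pi.π (fun _ : (SimplexCategory.mk n ⟶ SimplexCategory.mk q) =>
    K.obj (op (SimplexCategory.mk n))) θ
  simp only [NatTrans.comp_app, Category.assoc] at h'
  erw [Pi.lift_π, cofreeMap_π] at h'
  exact h'

variable [∀ (n : ℕ) (F : (SimplexCategory.Truncated n)ᵒᵖ ⥤ FormalCoproduct.{u} D),
      (SimplexCategory.Truncated.inclusion n).op.HasRightKanExtension F]
  (J : GrothendieckTopology D) (hv : Cov J v)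
  (hK : ∀ q : ℕ, Cov J (((SimplicialObject.coskAdj q).unit.app K).app (op (SimplexCategory.mk (q + 1)))))

include hv hK in
theorem cov_refine (q : ℕ) :
    Cov J (((SimplicialObject.coskAdj q).unit.app (refine' K v)).app (op (SimplexCategory.mk (q + 1)))) := by
  classical
  refine cov_unit J q (q + 1) fun Y F => ?_
  let p₁ := pullback.fst (toCofree n K) (cofreeMap n v)
  let p₂ := pullback.snd (toCofree n K) (cofreeMap n v)
  let G : Family K q (q + 1) Y :=
    { g := fun m hm θ => F.g m hm θ ≫ p₁.app _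
      compat := fun m m' hm hm' φ θ => by
        rw [Category.assoc, ← p₁.naturality, ← Category.assoc, F.compat m m' hm hm'] }
  obtain ⟨S, hS, hfill⟩ := fill_of_cov J (hK q) G
  refine ⟨_, J.bind_covering hS (R := fun {Z} k hk =>
    (Cov.lift_finset hv (Fintype.ofFinite (SimplexCategory.mk n ⟶ SimplexCategory.mk (q + 1))).elems
      (fun θ => (hfill k hk).choose ≫ K.map θ.op)).choose)
    (fun {Z} k hk => (Cov.lift_finset hv _ _).choose_spec.1), ?_⟩
  rintro Z' _ ⟨Z, k', k, hk, hk', rfl⟩
  have hlift := (Cov.lift_finset hv (Fintype.ofFinite (SimplexCategory.mk n ⟶ SimplexCategory.mk (q + 1))).elems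
      (fun θ => (hfill k hk).choose ≫ K.map θ.op)).choose_spec.2 k' hk'
  have hb := (hfill k hk).choose_spec
  let a := (FormalCoproduct.incl D).map k' ≫ (hfill k hk).choose
  have ha : ∀ m hm θ, a ≫ K.map θ.op = (FormalCoproduct.incl D).map (k' ≫ k) ≫ F.g m hm θ ≫ p₁.app _ :=
    fun m hm θ => by
      change ((FormalCoproduct.incl D).map k' ≫ _) ≫ K.map θ.op = _
      rw [Category.assoc, hb m hm θ, Functor.map_comp, Category.assoc]
  choose z₀ hz₀ using fun θ => hlift θ ((Fintype.ofFinite _).complete θ)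
  let T := fun (θ : SimplexCategory.mk n ⟶ SimplexCategory.mk (q + 1))
    (h : (imFace θ (topFace n)).1 ≠ Finset.univ) => Proper.ofMap θ h
  let z : (SimplexCategory.mk n ⟶ SimplexCategory.mk (q + 1)) → ((FormalCoproduct.incl D).obj Z' ⟶ W) :=
    fun θ => if h : (imFace θ (topFace n)).1 ≠ Finset.univ then
      (FormalCoproduct.incl D).map (k' ≫ k) ≫ F.g _ (T θ h).dim_le (T θ h).emb ≫ p₂.app _ ≫
        Pi.π (fun _ : (SimplexCategory.mk n ⟶ SimplexCategory.mk (T θ h).dim) => W)
          ((T θ h).factor θ le_rfl).choose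
      else z₀ θ
  have hz : ∀ θ, z θ ≫ v = a ≫ K.map θ.op := by
    intro θ
    by_cases h : (imFace θ (topFace n)).1 ≠ Finset.univ
    · simp only [z, dif_pos h, Category.assoc]
      have hs := ((T θ h).factor θ le_rfl).choose_spec
      erw [← cond_π K v]
      rw [← reassoc_of% (ha _ (T θ h).dim_le (T θ h).emb), ← K.map_comp, ← op_comp, hs]
    · simp only [z, dif_neg h]
      rw [hz₀ θ, Category.assoc]
  obtain ⟨l, hl₁, hl₂⟩ := exists_simplex K v a z hz
  refine ⟨l, fun m hm ψ => ?_⟩
  refine (lvl_isPullback K v _).hom_ext ?_ (Pi.hom_ext _ _ fun φ => ?_)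
  · rw [Category.assoc, p₁.naturality, ← Category.assoc, hl₁, Category.assoc]
    exact ((Category.assoc _ _ _).symm.trans (ha m hm ψ)).trans (Category.assoc _ _ _).symm
  · simp only [Category.assoc]
    rw [← Category.assoc ((refine' K v).map ψ.op)]
    erw [p₂.naturality]
    simp only [cofree, Category.assoc]
    erw [Pi.lift_π, reassoc_of% hl₂, Pi.lift_π]
    have h : (imFace (φ ≫ ψ) (topFace n)).1 ≠ Finset.univ := by
      rw [imFace_comp]
      exact proper_imFace (by omega) ψ _
    refine (dif_pos h).trans ?_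
    let T₁ := T (φ ≫ ψ) h
    let T₂ : Proper (q + 1) := Proper.ofMap ψ (proper_imFace (by omega) ψ _)
    obtain ⟨r, hr⟩ := T₂.factor T₁.emb (by
      rw [T₁.imFace_emb]
      change imFace (φ ≫ ψ) (topFace n) ≤ imFace ψ (topFace m)
      rw [imFace_comp]
      exact imFace_mono ψ (le_topFace _))
    obtain ⟨s, hs⟩ := T₂.factor ψ le_rfl
    have hs₁ := ((T (φ ≫ ψ) h).factor (φ ≫ ψ) le_rfl).choose_spec
    have e : ((T (φ ≫ ψ) h).factor (φ ≫ ψ) le_rfl).choose ≫ r = φ ≫ s :=
      T₂.emb_cancel _ _ (by rw [Category.assoc, hr, hs₁, Category.assoc, hs])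
    have key : ∀ {i j : ℕ} (hi : i ≤ q) (hj : j ≤ q) (x : SimplexCategory.mk j ⟶ SimplexCategory.mk i)
        (y : SimplexCategory.mk i ⟶ SimplexCategory.mk (q + 1))
        (w : SimplexCategory.mk n ⟶ SimplexCategory.mk j),
        F.g j hj (x ≫ y) ≫ p₂.app _ ≫ Pi.π (fun _ : (SimplexCategory.mk n ⟶ SimplexCategory.mk j) => W) w =
          F.g i hi y ≫ p₂.app _ ≫ Pi.π (fun _ : (SimplexCategory.mk n ⟶ SimplexCategory.mk i) => W) (w ≫ x) := by
      intro i j hi hj x y w
      rw [← F.compat i j hi hj x y, Category.assoc, ← Category.assoc ((refine' K v).map x.op)]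
      erw [p₂.naturality]
      simp only [cofree, Category.assoc]
      erw [Pi.lift_π]
      rfl
    have k₁ := key T₂.dim_le T₁.dim_le r T₂.emb ((T (φ ≫ ψ) h).factor (φ ≫ ψ) le_rfl).choose
    rw [hr, e] at k₁
    have k₂ := key T₂.dim_le hm s T₂.emb φ
    rw [hs] at k₂
    exact congrArg ((FormalCoproduct.incl D).map (k' ≫ k) ≫ ·) (k₁.trans k₂.symm)

include hv in
theorem vertexSieve_refine (h0 : ∀ U : D, vertexSieve K U ∈ J U) (U : D) :
    vertexSieve (refine' K v) U ∈ J U := by
  refine J.transitive (h0 U) _ ?_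
  rintro V k ⟨a⟩
  obtain ⟨S, hS, hlift⟩ := Cov.lift_finset hv
    (Fintype.ofFinite (SimplexCategory.mk n ⟶ SimplexCategory.mk 0)).elems (fun θ => a ≫ K.map θ.op)
  refine J.superset_covering ?_ hS
  intro Z k' hk'
  choose z hz using fun θ => hlift k' hk' θ ((Fintype.ofFinite _).complete θ)
  obtain ⟨l, -⟩ := exists_simplex K v ((FormalCoproduct.incl D).map k' ≫ a) z
    (fun θ => (hz θ).trans (Category.assoc _ _ _).symm)
  exact ⟨l⟩

end Groth.Agent.HyperLib
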