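import Groth.Agent.HyperLib.Shift
import Groth.Agent.S3881
import Groth.Prelude.Def_Hyper2

/-!
# Čech classes dying on finer hypercoverings, and sheaf cohomology
-/

set_option autoImplicit false
set_option backward.isDefEq.respectTransparency false

universe u

open CategoryTheory CategoryTheory.Limits Opposite Abelian

namespace Groth.Agent.HyperLib

variable {C : Type u} [SmallCategory C] {X : C}

/-- The Čech complex over `X`. -/
noncomputable abbrev co (K : SimplicialObject (FormalCoproduct.{u} (Over X))) (P : Cᵒᵖ ⥤ AddCommGrpCat.{u}) :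
    CochainComplex AddCommGrpCat.{u} ℕ :=
  cochains K ((Over.forget X).op ⋙ P)

/-- The map of Čech complexes given by a map of presheaves. -/
noncomputable abbrev am (K : SimplicialObject (FormalCoproduct.{u} (Over X)))
    {P P' : Cᵒᵖ ⥤ AddCommGrpCat.{u}} (α : P ⟶ P') : co K P ⟶ co K P' :=
  (FormalCoproduct.cochainComplexFunctor K).map (Functor.whiskerLeft (Over.forget X).op α)

/-- The refinement map of Čech complexes. -/
noncomputable abbrev pb {K L : SimplicialObject (FormalCoproduct.{u} (Over X))} (f : L ⟶ K)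
    (P : Cᵒᵖ ⥤ AddCommGrpCat.{u}) : co K P ⟶ co L P :=
  Hyper.cechMap X f P

variable {K L M : SimplicialObject (FormalCoproduct.{u} (Over X))} {P P' : Cᵒᵖ ⥤ AddCommGrpCat.{u}}

theorem valN_pb (f : L ⟶ K) {n : ℕ} {U : Over X}
    (t : (FormalCoproduct.incl (Over X)).obj U ⟶ L.obj (op (SimplexCategory.mk n))) (x : (co K P).X n) :
    valN L _ t ((pb f P).f n x) = valN K _ (t ≫ f.app (op (SimplexCategory.mk n))) x := by
  have e : (pb f P).f n ≫ valN L _ t = valN K _ (t ≫ f.app (op (SimplexCategory.mk n))) := by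
    change ((FormalCoproduct.evalOp.{u} (Over X) AddCommGrpCat.{u}).obj ((Over.forget X).op ⋙ P)).map
      (f.app (op (SimplexCategory.mk n))).op ≫ valN L _ t = _
    simp [valN, Pi.lift_π, ← P.map_comp, ← op_comp]
  exact (ConcreteCategory.comp_apply _ _ _).symm.trans (ConcreteCategory.congr_hom e x)

theorem valN_am (α : P ⟶ P') {n : ℕ} {U : Over X}
    (t : (FormalCoproduct.incl (Over X)).obj U ⟶ K.obj (op (SimplexCategory.mk n))) (x : (co K P).X n) :
    valN K _ t ((am K α).f n x) = α.app (op U.left) (valN K _ t x) :=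
  valN_map K (Functor.whiskerLeft (Over.forget X).op α) t x

theorem am_pb (α : P ⟶ P') (f : L ⟶ K) {n : ℕ} (x : (co K P).X n) :
    (am L α).f n ((pb f P).f n x) = (pb f P').f n ((am K α).f n x) := by
  refine cochain_ext L _ fun i => ?_
  rw [valN_am, valN_pb, valN_pb, valN_am]

theorem pb_pb (f : L ⟶ K) (g : M ⟶ L) {n : ℕ} (x : (co K P).X n) :
    (pb g P).f n ((pb f P).f n x) = (pb (g ≫ f) P).f n x := by
  refine cochain_ext M _ fun i => ?_
  rw [valN_pb, valN_pb, valN_pb, Category.assoc]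
  rfl

theorem d_map {A B : CochainComplex AddCommGrpCat.{u} ℕ} (φ : A ⟶ B) (i j : ℕ) (x : A.X i) :
    B.d i j (φ.f i x) = φ.f j (A.d i j x) :=
  (ConcreteCategory.comp_apply _ _ _).symm.trans
    ((ConcreteCategory.congr_hom (φ.comm i j) x).trans (ConcreteCategory.comp_apply _ _ _))

theorem d_d_apply (A : CochainComplex AddCommGrpCat.{u} ℕ) (i j k : ℕ) (x : A.X i) :
    A.d j k (A.d i j x) = 0 :=
  (ConcreteCategory.comp_apply _ _ _).symm.trans (ConcreteCategory.congr_hom (A.d_comp_d i j k) x)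

/-- Being a coboundary. -/
def Bd (A : CochainComplex AddCommGrpCat.{u} ℕ) : ∀ q : ℕ, A.X q → Prop
  | 0, x => x = 0
  | q + 1, x => ∃ y : A.X q, A.d q (q + 1) y = x

theorem Bd.map {A B : CochainComplex AddCommGrpCat.{u} ℕ} (φ : A ⟶ B) :
    ∀ {q : ℕ} {x : A.X q}, Bd A q x → Bd B q (φ.f q x)
  | 0, x, h => by
    change φ.f 0 x = 0
    rw [show x = 0 from h, map_zero]
  | q + 1, x, ⟨y, hy⟩ => ⟨φ.f q y, by rw [d_map, hy]⟩

variable (J : GrothendieckTopology C)
  [∀ (n : ℕ) (F : (SimplexCategory.Truncated n)ᵒᵖ ⥤ FormalCoproduct.{u} (Over X)),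
      (SimplexCategory.Truncated.inclusion n).op.HasRightKanExtension F]

variable (X) in
/-- Every Čech class of degree `q` dies on a finer hypercovering. -/
def AllDie (P : Cᵒᵖ ⥤ AddCommGrpCat.{u}) (q : ℕ) : Prop :=
  ∀ (K : SimplicialObject (FormalCoproduct.{u} (Over X))), Hyper.IsHypercovering J X K →
    ∀ x : (co K P).X q, (co K P).d q (q + 1) x = 0 →
      ∃ (L : SimplicialObject (FormalCoproduct.{u} (Over X))) (f : L ⟶ K),
        Hyper.IsHypercovering J X L ∧ Bd (co L P) q ((pb f P).f q x)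

/-- The components of a cochain. -/
noncomputable def comp {n : ℕ} (x : (co K P).X n) (i : (K.obj (op (SimplexCategory.mk n))).I) :
    P.obj (op ((K.obj (op (SimplexCategory.mk n))).obj i).left) :=
  valN K ((Over.forget X).op ⋙ P) (FormalCoproduct.Hom.fromIncl i (𝟙 _)) x

theorem valN_eq_comp {n : ℕ} (x : (co K P).X n) {U : Over X}
    (t : (FormalCoproduct.incl (Over X)).obj U ⟶ K.obj (op (SimplexCategory.mk n))) :
    valN K ((Over.forget X).op ⋙ P) t x = P.map (t.φ PUnit.unit).left.op (comp x (t.f PUnit.unit)) := by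
  refine Eq.trans ?_ ((ConcreteCategory.congr_hom (valN_comp K ((Over.forget X).op ⋙ P) (t.φ PUnit.unit)
    (FormalCoproduct.Hom.fromIncl (t.f PUnit.unit) (𝟙 _))) x).trans (ConcreteCategory.comp_apply _ _ _))
  exact congrArg (fun t => valN K ((Over.forget X).op ⋙ P) t x)
    (incl_hom_ext rfl ((Category.comp_id _).trans (Category.comp_id _).symm))

theorem app_comp (α : P ⟶ P') {n : ℕ} (x : (co K P).X n) (i : (K.obj (op (SimplexCategory.mk n))).I) :
    α.app (op ((K.obj (op (SimplexCategory.mk n))).obj i).left) (comp x i) = comp ((am K α).f n x) i :=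
  (valN_am α _ x).symm

variable {J} [HasPullbacks C]

/-- A refinement whose level `n` lands in given covering sieves of the level `n`. -/
theorem exists_refine (hK : Hyper.IsHypercovering J X K) (n : ℕ)
    (S : ∀ i : (K.obj (op (SimplexCategory.mk n))).I, Sieve ((K.obj (op (SimplexCategory.mk n))).obj i).left)
    (hS : ∀ i, S i ∈ J _) :
    ∃ (L : SimplicialObject (FormalCoproduct.{u} (Over X))) (f : L ⟶ K), Hyper.IsHypercovering J X L ∧
      ∀ {Y : Over X} (t : (FormalCoproduct.incl (Over X)).obj Y ⟶ L.obj (op (SimplexCategory.mk n))),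
        S ((t ≫ f.app (op (SimplexCategory.mk n))).f PUnit.unit)
          ((t ≫ f.app (op (SimplexCategory.mk n))).φ PUnit.unit).left := by
  let W : FormalCoproduct.{u} (Over X) :=
    { I := Σ i : (K.obj (op (SimplexCategory.mk n))).I,
        Σ Z : C, {h : Z ⟶ ((K.obj (op (SimplexCategory.mk n))).obj i).left // S i h}
      obj := fun w => Over.mk (w.2.2.1 ≫ ((K.obj (op (SimplexCategory.mk n))).obj w.1).hom) }
  let v : W ⟶ K.obj (op (SimplexCategory.mk n)) := ⟨fun w => w.1, fun w => Over.homMk w.2.2.1 rfl⟩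
  have hv : Hyper.IsSRCovering (J.over X) v := by
    intro i
    rw [GrothendieckTopology.mem_over_iff]
    refine J.superset_covering ?_ (hS i)
    intro Z h hh
    refine (Sieve.overEquiv_iff _ _).2 ((Sieve.mem_ofArrows_iff _ _ _).2 ⟨⟨⟨i, Z, h, hh⟩, rfl⟩, 𝟙 _, ?_⟩)
    ext
    simp [v]
  obtain ⟨L, f, g, hL, hg⟩ := S3881.result J X K hK n W v hv
  refine ⟨L, f, hL, fun {Y} t => ?_⟩
  rw [← hg, ← Category.assoc]
  exact (S ((t ≫ g).f PUnit.unit).1).downward_closed ((t ≫ g).f PUnit.unit).2.2.2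
    ((t ≫ g).φ PUnit.unit).left

/-- Sections lift locally along locally surjective maps. -/
theorem exists_lift (hK : Hyper.IsHypercovering J X K) (α : P ⟶ P') [Presheaf.IsLocallySurjective J α] {n : ℕ}
    (x : (co K P').X n) :
    ∃ (L : SimplicialObject (FormalCoproduct.{u} (Over X))) (f : L ⟶ K) (y : (co L P).X n),
      Hyper.IsHypercovering J X L ∧ (am L α).f n y = (pb f P').f n x := by
  obtain ⟨L, f, hL, h⟩ := exists_refine hK n
    (fun i => Presheaf.imageSieve α (comp x i))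
    (fun i => Presheaf.imageSieve_mem J α (comp x i))
  choose a ha using fun j : (L.obj (op (SimplexCategory.mk n))).I => h (FormalCoproduct.Hom.fromIncl j (𝟙 _))
  refine ⟨L, f, mkCochain L _ a, hL, cochain_ext L _ fun j => ?_⟩
  rw [valN_am, valN_fromIncl_mkCochain, valN_pb, valN_eq_comp]
  exact ha j

/-- Cochains killed by a locally injective map die locally. -/
theorem exists_kill (hK : Hyper.IsHypercovering J X K) (α : P ⟶ P') [Presheaf.IsLocallyInjective J α] {n : ℕ}
    (x : (co K P).X n) (hx : (am K α).f n x = 0) :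
    ∃ (L : SimplicialObject (FormalCoproduct.{u} (Over X))) (f : L ⟶ K),
      Hyper.IsHypercovering J X L ∧ (pb f P).f n x = 0 := by
  obtain ⟨L, f, hL, h⟩ := exists_refine hK n
    (fun i => Presheaf.equalizerSieve (F := P) (comp x i) 0)
    (fun i => Presheaf.equalizerSieve_mem J α (comp x i) 0 (by
      change α.app (op ((K.obj (op (SimplexCategory.mk n))).obj i).left) (comp x i) = _
      rw [app_comp, hx]
      exact (map_zero _).trans (map_zero _).symm))
  refine ⟨L, f, hL, cochain_ext L _ fun j => ?_⟩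
  rw [valN_pb, map_zero, valN_eq_comp]
  exact (h (FormalCoproduct.Hom.fromIncl j (𝟙 _))).trans (map_zero _)

/-- Dying is invariant under local isomorphisms. -/
theorem allDie_iff_of_locally_bijective (α : P ⟶ P') [Presheaf.IsLocallyInjective J α]
    [Presheaf.IsLocallySurjective J α] (q : ℕ) : AllDie X J P q ↔ AllDie X J P' q := by
  constructor
  · intro h K hK x hx
    obtain ⟨L₁, f₁, y, hL₁, hy⟩ := exists_lift hK α x
    obtain ⟨L₂, f₂, hL₂, h₂⟩ := exists_kill hL₁ α ((co L₁ P).d q (q + 1) y) (by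
      rw [← d_map, hy, d_map, hx, map_zero])
    obtain ⟨L₃, f₃, hL₃, h₃⟩ := h L₂ hL₂ ((pb f₂ P).f q y) (by rw [d_map, h₂])
    refine ⟨L₃, f₃ ≫ f₂ ≫ f₁, hL₃, ?_⟩
    have h₄ := h₃.map (am L₃ α)
    rw [am_pb, am_pb, hy, pb_pb, pb_pb, Category.assoc] at h₄
    exact h₄
  · intro h K hK x hx
    obtain ⟨L₁, f₁, hL₁, h₁⟩ := h K hK ((am K α).f q x) (by rw [d_map, hx, map_zero])
    cases q with
    | zero =>
      obtain ⟨L₂, f₂, hL₂, h₂⟩ := exists_kill hL₁ α ((pb f₁ P).f 0 x) (by rw [am_pb]; exact h₁)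
      exact ⟨L₂, f₂ ≫ f₁, hL₂, by rw [← pb_pb]; exact h₂⟩
    | succ q =>
      obtain ⟨w, hw⟩ := h₁
      obtain ⟨L₂, f₂, u, hL₂, hu⟩ := exists_lift hL₁ α w
      let z := (pb f₂ P).f (q + 1) ((pb f₁ P).f (q + 1) x) - (co L₂ P).d q (q + 1) u
      obtain ⟨L₃, f₃, hL₃, h₃⟩ := exists_kill hL₂ α z (by
        rw [map_sub, am_pb, am_pb, ← d_map, hu, ← hw, ← d_map, sub_self])
      refine ⟨L₃, f₃ ≫ f₂ ≫ f₁, hL₃, (pb f₃ P).f q u, ?_⟩
      rw [d_map, ← pb_pb, ← pb_pb]
      refine Eq.symm (sub_eq_zero.1 ?_)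
      rw [← map_sub]
      exact h₃

variable {S : ShortComplex (Sheaf J AddCommGrpCat.{u})}

theorem isLocallySurjective_g (hS : S.ShortExact) : Presheaf.IsLocallySurjective J S.g.hom := by
  haveI := hS.epi_g
  exact (Sheaf.isLocallySurjective_iff_epi' AddCommGrpCat.{u} S.g).2 inferInstance

theorem g_f_zero (S : ShortComplex (Sheaf J AddCommGrpCat.{u})) {q : ℕ} (a : (co K S.X₁.obj).X q) :
    (am K S.g.hom).f q ((am K S.f.hom).f q a) = 0 := by
  refine cochain_ext K _ fun i => ?_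
  rw [valN_am, valN_am, map_zero, ← ConcreteCategory.comp_apply, ← NatTrans.comp_app,
    ← ObjectProperty.FullSubcategory.comp_hom, S.zero]
  rfl

theorem am_injective (hS : S.ShortExact) {q : ℕ} : Function.Injective ((am K S.f.hom).f q) := by
  intro a a' h
  refine cochain_ext K _ fun i => (sections_exact hS _).1 ?_
  have h' := congrArg (valN K ((Over.forget X).op ⋙ S.X₂.obj) (FormalCoproduct.Hom.fromIncl i (𝟙 _))) h
  rw [valN_am, valN_am] at h'
  exact h'

theorem exists_preimage (hS : S.ShortExact) {q : ℕ} (y : (co K S.X₂.obj).X q)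
    (hy : (am K S.g.hom).f q y = 0) : ∃ a, (am K S.f.hom).f q a = y := by
  choose a ha using fun i => (sections_exact hS ((K.obj (op (SimplexCategory.mk q))).obj i).left).2
    (valN K ((Over.forget X).op ⋙ S.X₂.obj) (FormalCoproduct.Hom.fromIncl i (𝟙 _)) y) (by
      refine (valN_am S.g.hom _ y).symm.trans ?_
      rw [hy]
      exact map_zero _)
  refine ⟨mkCochain K _ a, cochain_ext K _ fun i => ?_⟩
  rw [valN_am, valN_fromIncl_mkCochain]
  exact ha i

theorem exists_coboundary_injective (hK : Hyper.IsHypercovering J X K) (I : Sheaf J AddCommGrpCat.{u})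
    [Injective I] {q : ℕ} (x : (co K I.obj).X (q + 1)) (hx : (co K I.obj).d (q + 1) (q + 2) x = 0) :
    ∃ y : (co K I.obj).X q, (co K I.obj).d q (q + 1) y = x := by
  haveI : Injective (I.over X) := injective_over J X I
  exact exists_coboundary (fills_over hK) (vertexSieve_over hK) (I.over X) x hx

theorem allDie_quot (hS : S.ShortExact) [Injective S.X₂] (q : ℕ) (h : AllDie X J S.X₁.obj (q + 2)) :
    AllDie X J S.X₃.obj (q + 1) := by
  haveI := isLocallySurjective_g hS
  intro K hK x hx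
  obtain ⟨L₁, f₁, y, hL₁, hy⟩ := exists_lift hK S.g.hom x
  obtain ⟨z, hz⟩ := exists_preimage hS ((co L₁ S.X₂.obj).d (q + 1) (q + 2) y) (by
    rw [← d_map, hy, d_map, hx, map_zero])
  obtain ⟨L₂, f₂, hL₂, u, hu⟩ := h L₁ hL₁ z (am_injective hS (by
    rw [← d_map, hz, d_d_apply, map_zero]))
  obtain ⟨v, hv⟩ := exists_coboundary_injective hL₂ S.X₂ ((pb f₂ S.X₂.obj).f (q + 1) y - (am L₂ S.f.hom).f (q + 1) u) (by
    rw [map_sub, d_map, d_map, ← hz, hu, am_pb, sub_self])
  refine ⟨L₂, f₂ ≫ f₁, hL₂, (am L₂ S.g.hom).f q v, ?_⟩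
  rw [d_map, hv, map_sub, am_pb, hy, g_f_zero, sub_zero, pb_pb]

theorem allDie_sub (hS : S.ShortExact) [Injective S.X₂] (q : ℕ) (h : AllDie X J S.X₃.obj (q + 1)) :
    AllDie X J S.X₁.obj (q + 2) := by
  haveI := isLocallySurjective_g hS
  intro K hK x hx
  obtain ⟨y, hy⟩ := exists_coboundary_injective hK S.X₂ ((am K S.f.hom).f (q + 2) x) (by
    rw [d_map, hx, map_zero])
  obtain ⟨L₁, f₁, hL₁, w, hw⟩ := h K hK ((am K S.g.hom).f (q + 1) y) (by
    rw [d_map, hy, g_f_zero])
  obtain ⟨L₂, f₂, w', hL₂, hw'⟩ := exists_lift hL₁ S.g.hom w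
  obtain ⟨a, ha⟩ := exists_preimage hS
    ((pb f₂ S.X₂.obj).f (q + 1) ((pb f₁ S.X₂.obj).f (q + 1) y) - (co L₂ S.X₂.obj).d q (q + 1) w') (by
      rw [map_sub, am_pb, am_pb, ← hw, ← d_map, ← hw', d_map, sub_self])
  refine ⟨L₂, f₂ ≫ f₁, hL₂, a, am_injective hS ?_⟩
  rw [← d_map, ha, map_sub, d_d_apply, sub_zero, d_map, d_map, hy, ← am_pb, ← am_pb, pb_pb]

/-- The cochain of degree zero given by a section over `X`. -/
noncomputable def c0 (K : SimplicialObject (FormalCoproduct.{u} (Over X))) (P : Cᵒᵖ ⥤ AddCommGrpCat.{u})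
    (l : P.obj (op X)) : (co K P).X 0 :=
  mkCochain K _ fun i => P.map ((K.obj (op (SimplexCategory.mk 0))).obj i).hom.op l

theorem valN_c0 (l : P.obj (op X)) {U : Over X}
    (t : (FormalCoproduct.incl (Over X)).obj U ⟶ K.obj (op (SimplexCategory.mk 0))) :
    valN K _ t (c0 K P l) = P.map U.hom.op l := by
  rw [c0, valN_mkCochain]
  change P.map (t.φ PUnit.unit).left.op (P.map _ l) = _
  rw [← ConcreteCategory.comp_apply, ← P.map_comp, ← op_comp]
  exact congrArg (fun k => P.map k.op l) (Over.w (t.φ PUnit.unit))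

theorem d_c0 (l : P.obj (op X)) : (co K P).d 0 1 (c0 K P l) = 0 := by
  refine cochain_ext K _ fun i => ?_
  rw [d_valN, map_zero, Fin.sum_univ_two, valN_c0, valN_c0]
  simp

theorem pb_c0 (f : L ⟶ K) (l : P.obj (op X)) : (pb f P).f 0 (c0 K P l) = c0 L P l := by
  refine cochain_ext L _ fun i => ?_
  rw [valN_pb, valN_c0, valN_c0]

theorem am_c0 (α : P ⟶ P') (l : P.obj (op X)) : (am K α).f 0 (c0 K P l) = c0 K P' (α.app _ l) := by
  refine cochain_ext K _ fun i => ?_
  rw [valN_am, valN_c0, valN_c0]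
  exact NatTrans.naturality_apply α _ l

theorem c0_zero : c0 K P 0 = 0 := by
  refine cochain_ext K _ fun i => ?_
  rw [valN_c0, map_zero, map_zero]

theorem c0_injective (hK : Hyper.IsHypercovering J X K) (F : Sheaf J AddCommGrpCat.{u})
    {l l' : F.obj.obj (op X)} (h : c0 K F.obj l = c0 K F.obj l') : l = l' := by
  have hT : Presieve.IsSheaf J (F.obj ⋙ forget AddCommGrpCat.{u}) :=
    (isSheaf_iff_isSheaf_of_type _ _).1 ((sheafCompose J (forget AddCommGrpCat.{u})).obj F).2
  refine (hT _ hK.1).isSeparatedFor.ext fun Z k hk => ?_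
  obtain ⟨i, a, rfl⟩ := (Sieve.mem_ofArrows_iff _ _ _).1 hk
  have h' := congrArg (valN K ((Over.forget X).op ⋙ F.obj)
    (FormalCoproduct.Hom.fromIncl (X := Over.mk (a ≫ ((K.obj (op (SimplexCategory.mk 0))).obj i).hom)) i
      (Over.homMk a rfl))) h
  rw [valN_c0, valN_c0] at h'
  exact h'

theorem exists_glue_c0 (hK : Hyper.IsHypercovering J X K) (F : Sheaf J AddCommGrpCat.{u})
    (x : (co K F.obj).X 0) (hx : (co K F.obj).d 0 1 x = 0) : ∃ l, c0 K F.obj l = x := by
  obtain ⟨g, hg⟩ := exists_glue (vertexSieve_over hK)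
    (fun Y t₀ t₁ => fill_pair (cov_of_isSRCovering _ (hK.2 0)) t₀ t₁) (F.over X) x hx (Over.mk (𝟙 X))
  refine ⟨g, cochain_ext K _ fun i => ?_⟩
  rw [valN_c0]
  exact hg (Over.homMk ((K.obj (op (SimplexCategory.mk 0))).obj i).hom (Category.comp_id _))
    (FormalCoproduct.Hom.fromIncl i (𝟙 _))

variable (J X) in
theorem exists_hypercovering : ∃ K : SimplicialObject (FormalCoproduct.{u} (Over X)), Hyper.IsHypercovering J X K := by
  have hB : ∀ U : Over X, ∃ (ι : Type u) (V : ι → Over X) (f : ∀ i, V i ⟶ U),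
      Sieve.ofArrows V f ∈ J.over X U ∧ ∀ i, V i ∈ (Set.univ : Set (Over X)) := fun U =>
    ⟨PUnit, fun _ => U, fun _ => 𝟙 U, GrothendieckTopology.superset_covering _
      (fun Z k _ => (Sieve.mem_ofArrows_iff _ _ _).2 ⟨PUnit.unit, k, (Category.comp_id k).symm⟩)
      ((J.over X).top_mem U), fun _ => trivial⟩
  refine ⟨free (Set.univ : Set (Over X)), ⟨?_, fun n => (cov_free _ _ hB n).isSRCovering⟩⟩
  refine GrothendieckTopology.superset_covering _ ?_ (J.top_mem X)
  intro Z k _
  exact (Sieve.mem_ofArrows_iff _ _ _).2 ⟨vertex _ (Over.mk (𝟙 X)) trivial, k, (Category.comp_id k).symm⟩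

theorem subsingleton_HU_zero_iff (F : Sheaf J AddCommGrpCat.{u}) :
    Subsingleton (CohSite.HU F 0 X) ↔ Subsingleton (F.obj.obj (op X)) :=
  Equiv.subsingleton_congr
    (((Equiv.ofBijective _ (Ext.mk₀_bijective (Groth.Agent.SiteBase.freeAb J X) F)).symm).trans
      (Groth.Agent.SiteBase.secEquiv X F))

theorem allDie_zero_iff (F : Sheaf J AddCommGrpCat.{u}) :
    AllDie X J F.obj 0 ↔ Subsingleton (F.obj.obj (op X)) := by
  constructor
  · intro h
    obtain ⟨K, hK⟩ : ∃ K, Hyper.IsHypercovering J X K := exists_hypercovering ..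
    refine subsingleton_of_forall_eq 0 fun l => ?_
    obtain ⟨L, f, hL, hb⟩ := h K hK _ (d_c0 l)
    exact c0_injective hL F (((pb_c0 f l).symm.trans hb).trans c0_zero.symm)
  · intro h K hK x hx
    obtain ⟨l, hl⟩ := exists_glue_c0 hK F x hx
    refine ⟨K, 𝟙 K, hK, ?_⟩
    change (pb (𝟙 K) F.obj).f 0 x = 0
    rw [← hl, pb_c0, Subsingleton.elim l 0, c0_zero]

theorem allDie_one_iff (hS : S.ShortExact) [Injective S.X₂] :
    AllDie X J S.X₁.obj 1 ↔ Function.Surjective (S.g.hom.app (op X)) := by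
  haveI := isLocallySurjective_g hS
  constructor
  · intro h g
    obtain ⟨K, hK⟩ : ∃ K, Hyper.IsHypercovering J X K := exists_hypercovering ..
    obtain ⟨L₁, f₁, y, hL₁, hy⟩ := exists_lift hK S.g.hom (c0 K S.X₃.obj g)
    obtain ⟨z, hz⟩ := exists_preimage hS ((co L₁ S.X₂.obj).d 0 1 y) (by
      rw [← d_map, hy, pb_c0, d_c0])
    obtain ⟨L₂, f₂, hL₂, u, hu⟩ := h L₁ hL₁ z (am_injective hS (by
      rw [← d_map, hz, d_d_apply, map_zero]))
    obtain ⟨l, hl⟩ := exists_glue_c0 hL₂ S.X₂ ((pb f₂ S.X₂.obj).f 0 y - (am L₂ S.f.hom).f 0 u) (by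
      rw [map_sub, d_map, d_map, ← hz, hu, am_pb, sub_self])
    refine ⟨l, c0_injective hL₂ S.X₃ ?_⟩
    rw [← am_c0, hl, map_sub, am_pb, hy, g_f_zero, sub_zero, pb_c0, pb_c0]
  · intro h K hK x hx
    obtain ⟨y, hy⟩ := exists_coboundary_injective hK S.X₂ ((am K S.f.hom).f 1 x) (by
      rw [d_map, hx, map_zero])
    obtain ⟨g, hg⟩ := exists_glue_c0 hK S.X₃ ((am K S.g.hom).f 0 y) (by rw [d_map, hy, g_f_zero])
    obtain ⟨l, rfl⟩ := h g
    obtain ⟨a, ha⟩ := exists_preimage hS (y - c0 K S.X₂.obj l) (by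
      rw [map_sub, am_c0, hg, sub_self])
    refine ⟨K, 𝟙 K, hK, (pb (𝟙 K) S.X₁.obj).f 0 a, ?_⟩
    rw [d_map]
    refine congrArg _ (am_injective hS ?_)
    rw [← d_map, ha, map_sub, d_c0, sub_zero, hy]

/-- Sheaf cohomology vanishes iff all Čech classes die. -/
theorem allDie_iff (F : Sheaf J AddCommGrpCat.{u}) (q : ℕ) :
    AllDie X J F.obj q ↔ Subsingleton (CohSite.HU F q X) := by
  induction q generalizing F with
  | zero => rw [allDie_zero_iff, subsingleton_HU_zero_iff]
  | succ q ih =>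
    obtain ⟨S, hS, hS₁, hI⟩ := Groth.Agent.SiteBase.exists_injective_presentation F
    subst hS₁
    haveI := hI
    cases q with
    | zero =>
      rw [allDie_one_iff hS]
      exact ⟨Groth.Agent.SiteBase.subsingleton_one hS X (Groth.Agent.SiteBase.subsingleton_of_injective X S.X₂ 0),
        Groth.Agent.SiteBase.sections_surjective hS X⟩
    | succ q =>
      have h : AllDie X J S.X₁.obj (q + 1 + 1) ↔ AllDie X J S.X₃.obj (q + 1) :=
        ⟨allDie_quot hS q, allDie_sub hS q⟩
      rw [h, ih S.X₃]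
      exact ⟨Groth.Agent.SiteBase.subsingleton_shift hS X (q + 1)
          (Groth.Agent.SiteBase.subsingleton_of_injective X S.X₂ (q + 1)),
        Groth.Agent.SiteBase.subsingleton_quot hS X (q + 1)
          (Groth.Agent.SiteBase.subsingleton_of_injective X S.X₂ q)⟩

/-- Homology classes are classes of cocycles. -/
theorem exists_cycle (A : CochainComplex AddCommGrpCat.{u} ℕ) (q : ℕ) (x : A.X q) (hx : A.d q (q + 1) x = 0) :
    ∃ z : A.cycles q, A.iCycles q z = x :=
  (ShortComplex.ab_exact_iff _).1 (ShortComplex.exact_of_f_is_kernel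
    (.mk (A.iCycles q) (A.d q (q + 1)) (A.iCycles_d q (q + 1))) (A.cyclesIsKernel q (q + 1) (by simp))) x hx

theorem homologyπ_eq_zero_iff (A : CochainComplex AddCommGrpCat.{u} ℕ) :
    ∀ (q : ℕ) (z : A.cycles q), A.homologyπ q z = 0 ↔ Bd A q (A.iCycles q z)
  | 0, z => by
    constructor
    · intro h
      haveI : IsIso (A.homologyπ 0) := A.isIso_homologyπ 0 0 (by simp) (A.shape _ _ (by simp))
      have := (AddCommGrpCat.mono_iff_injective (A.homologyπ 0)).1 inferInstance (h.trans (map_zero _).symm)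
      rw [this]
      exact map_zero _
    · intro h
      rw [(AddCommGrpCat.mono_iff_injective (A.iCycles 0)).1 inferInstance
        ((show A.iCycles 0 z = 0 from h).trans (map_zero _).symm), map_zero]
  | q + 1, z => by
    constructor
    · intro h
      obtain ⟨y, hy⟩ := (ShortComplex.ab_exact_iff _).1 (ShortComplex.exact_of_g_is_cokernel
        (.mk (A.toCycles q (q + 1)) (A.homologyπ (q + 1)) (A.toCycles_comp_homologyπ q (q + 1)))
          (A.homologyIsCokernel q (q + 1) (by simp))) z h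
      refine ⟨y, ?_⟩
      rw [← hy]
      exact ((ConcreteCategory.congr_hom (A.toCycles_i q (q + 1)) y).symm.trans (ConcreteCategory.comp_apply _ _ _))
    · rintro ⟨y, hy⟩
      have e : A.toCycles q (q + 1) y = z := by
        apply (AddCommGrpCat.mono_iff_injective (A.iCycles (q + 1))).1 inferInstance
        rw [← ConcreteCategory.comp_apply, A.toCycles_i, hy]
      rw [← e, ← ConcreteCategory.comp_apply, A.toCycles_comp_homologyπ]
      rfl

theorem cechHMap_π (f : L ⟶ K) (P : Cᵒᵖ ⥤ AddCommGrpCat.{u}) (q : ℕ) (z : (co K P).cycles q) :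
    Hyper.cechHMap X f P q ((co K P).homologyπ q z) =
      (co L P).homologyπ q (HomologicalComplex.cyclesMap (pb f P) q z) :=
  (ConcreteCategory.comp_apply _ _ _).symm.trans
    ((ConcreteCategory.congr_hom (HomologicalComplex.homologyπ_naturality (pb f P) q) z).trans
      (ConcreteCategory.comp_apply _ _ _))

theorem iCycles_cyclesMap (f : L ⟶ K) (P : Cᵒᵖ ⥤ AddCommGrpCat.{u}) (q : ℕ) (z : (co K P).cycles q) :
    (co L P).iCycles q (HomologicalComplex.cyclesMap (pb f P) q z) = (pb f P).f q ((co K P).iCycles q z) :=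
  (ConcreteCategory.comp_apply _ _ _).symm.trans
    ((ConcreteCategory.congr_hom (HomologicalComplex.cyclesMap_i (pb f P) q) z).trans
      (ConcreteCategory.comp_apply _ _ _))

theorem allDie_iff_classes (P : Cᵒᵖ ⥤ AddCommGrpCat.{u}) (q : ℕ) :
    AllDie X J P q ↔ ∀ (K : SimplicialObject (FormalCoproduct.{u} (Over X))), Hyper.IsHypercovering J X K →
      ∀ ξ : Hyper.cechH X K P q, ∃ (L : SimplicialObject (FormalCoproduct.{u} (Over X))) (f : L ⟶ K),
        Hyper.IsHypercovering J X L ∧ Hyper.cechHMap X f P q ξ = 0 := by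
  constructor
  · intro h K hK ξ
    obtain ⟨z, rfl⟩ := (AddCommGrpCat.epi_iff_surjective ((co K P).homologyπ q)).1 inferInstance ξ
    obtain ⟨L, f, hL, hb⟩ := h K hK _ ((ConcreteCategory.comp_apply _ _ _).symm.trans
      (ConcreteCategory.congr_hom ((co K P).iCycles_d q (q + 1)) z))
    refine ⟨L, f, hL, ?_⟩
    erw [cechHMap_π, homologyπ_eq_zero_iff, iCycles_cyclesMap]
    exact hb
  · intro h K hK x hx
    obtain ⟨z, rfl⟩ := exists_cycle (co K P) q x hx
    obtain ⟨L, f, hL, hb⟩ := h K hK ((co K P).homologyπ q z)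
    refine ⟨L, f, hL, ?_⟩
    erw [cechHMap_π, homologyπ_eq_zero_iff, iCycles_cyclesMap] at hb
    exact hb

end Groth.Agent.HyperLib
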