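import Groth.Agent.HyperLib.Basic

/-!
# Points of coskeleta as families of faces
-/

set_option autoImplicit false
set_option backward.isDefEq.respectTransparency false

universe u

open CategoryTheory CategoryTheory.Limits Opposite

namespace Groth.Agent.HyperLib

variable {D : Type u} [SmallCategory D]
  [∀ (n : ℕ) (F : (SimplexCategory.Truncated n)ᵒᵖ ⥤ FormalCoproduct.{u} D),
      (SimplexCategory.Truncated.inclusion n).op.HasRightKanExtension F]

variable {K L : SimplicialObject (FormalCoproduct.{u} D)} {n q : ℕ}

/-- The map of truncations attached to a point of a coskeleton. -/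
noncomputable def truncHom {Y : D} (s : (FormalCoproduct.incl D).obj Y ⟶
    ((SimplicialObject.truncation n ⋙ SimplicialObject.Truncated.cosk n).obj K).obj
      (op (SimplexCategory.mk q))) :
    (SimplicialObject.truncation n).obj (box Y q) ⟶ (SimplicialObject.truncation n).obj K :=
  ((SimplicialObject.coskAdj n).homEquiv _ _).symm (ext s)

/-- The faces of a point of a coskeleton. -/
noncomputable def face {Y : D} (s : (FormalCoproduct.incl D).obj Y ⟶
    ((SimplicialObject.truncation n ⋙ SimplicialObject.Truncated.cosk n).obj K).obj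
      (op (SimplexCategory.mk q))) : Family K n q Y :=
  famOfHom (truncHom s)

theorem face_ext {Y : D} {s s' : (FormalCoproduct.incl D).obj Y ⟶
    ((SimplicialObject.truncation n ⋙ SimplicialObject.Truncated.cosk n).obj K).obj
      (op (SimplexCategory.mk q))}
    (h : ∀ (m : ℕ) (hm : m ≤ n) (θ : SimplexCategory.mk m ⟶ SimplexCategory.mk q),
      (face s).g m hm θ = (face s').g m hm θ) : s = s' := by
  refine eq_of_ext_eq (((SimplicialObject.coskAdj n).homEquiv _ _).symm.injective ?_)
  apply NatTrans.ext
  funext m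
  refine FormalCoproduct.hom_ext (funext fun x => ?_) fun x => ?_
  · exact congrArg (fun k : (FormalCoproduct.incl D).obj Y ⟶ _ => k.f PUnit.unit)
      (h _ m.unop.2 x.down)
  · obtain ⟨h₁, h₂⟩ := (FormalCoproduct.hom_ext_iff _ _).1 (h _ m.unop.2 x.down)
    exact h₂ PUnit.unit

theorem face_unit {Y : D} (t : (FormalCoproduct.incl D).obj Y ⟶ K.obj (op (SimplexCategory.mk q)))
    (m : ℕ) (hm : m ≤ n) (θ : SimplexCategory.mk m ⟶ SimplexCategory.mk q) :
    (face (t ≫ ((SimplicialObject.coskAdj n).unit.app K).app (op (SimplexCategory.mk q)))).g m hm θ =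
      t ≫ K.map θ.op := by
  have e : truncHom (t ≫ ((SimplicialObject.coskAdj n).unit.app K).app (op (SimplexCategory.mk q))) =
      (SimplicialObject.truncation n).map (ext t) := by
    rw [truncHom, ext_comp, Adjunction.homEquiv_counit, Functor.map_comp, Category.assoc]
    erw [(SimplicialObject.coskAdj n).left_triangle_components, Category.comp_id]
  rw [face, e]
  rfl

theorem face_map (b : K ⟶ L) {Y : D} (s : (FormalCoproduct.incl D).obj Y ⟶
    ((SimplicialObject.truncation n ⋙ SimplicialObject.Truncated.cosk n).obj K).obj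
      (op (SimplexCategory.mk q)))
    (m : ℕ) (hm : m ≤ n) (θ : SimplexCategory.mk m ⟶ SimplexCategory.mk q) :
    (face (s ≫ ((SimplicialObject.truncation n ⋙ SimplicialObject.Truncated.cosk n).map b).app
      (op (SimplexCategory.mk q)))).g m hm θ = (face s).g m hm θ ≫ b.app (op (SimplexCategory.mk m)) := by
  have e : truncHom (s ≫ ((SimplicialObject.truncation n ⋙ SimplicialObject.Truncated.cosk n).map b).app
      (op (SimplexCategory.mk q))) = truncHom s ≫ (SimplicialObject.truncation n).map b := by
    rw [truncHom, ext_comp]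
    exact ((SimplicialObject.coskAdj n).homEquiv_naturality_right_symm _ _)
  rw [face, e]
  rfl

theorem face_res {Y Z : D} (k : Z ⟶ Y) (s : (FormalCoproduct.incl D).obj Y ⟶
    ((SimplicialObject.truncation n ⋙ SimplicialObject.Truncated.cosk n).obj K).obj
      (op (SimplexCategory.mk q)))
    (m : ℕ) (hm : m ≤ n) (θ : SimplexCategory.mk m ⟶ SimplexCategory.mk q) :
    (face ((FormalCoproduct.incl D).map k ≫ s)).g m hm θ =
      (FormalCoproduct.incl D).map k ≫ (face s).g m hm θ := by
  let bm : box Z q ⟶ box Y q :=
    { app := fun m => ⟨fun x => x, fun _ => k⟩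
      naturality := fun m m' φ => by
        refine FormalCoproduct.hom_ext rfl fun x => ?_
        simp [box] }
  have hb : ext ((FormalCoproduct.incl D).map k ≫ s) = bm ≫ ext s := by
    apply NatTrans.ext
    funext m
    refine FormalCoproduct.hom_ext rfl fun x => ?_
    simp [ext, bm]
    rfl
  have e : truncHom ((FormalCoproduct.incl D).map k ≫ s) =
      (SimplicialObject.truncation n).map bm ≫ truncHom s := by
    rw [truncHom, hb, Adjunction.homEquiv_naturality_left_symm]
    rfl
  rw [face, e]
  rfl

theorem exists_face {Y : D} (F : Family K n q Y) :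
    ∃ s : (FormalCoproduct.incl D).obj Y ⟶
      ((SimplicialObject.truncation n ⋙ SimplicialObject.Truncated.cosk n).obj K).obj
        (op (SimplexCategory.mk q)), ∀ (m : ℕ) (hm : m ≤ n) (θ), (face s).g m hm θ = F.g m hm θ := by
  let E := ((SimplicialObject.coskAdj n).homEquiv _ _) F.hom
  let t : (FormalCoproduct.incl D).obj Y ⟶
      ((SimplicialObject.truncation n ⋙ SimplicialObject.Truncated.cosk n).obj K).obj
        (op (SimplexCategory.mk q)) :=
    FormalCoproduct.Hom.fromIncl ((E.app _).f ⟨𝟙 _⟩) ((E.app _).φ ⟨𝟙 _⟩)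
  have hE : ext t = E := by
    apply NatTrans.ext
    funext x
    have e : ∀ y : ULift.{u} (x.unop ⟶ SimplexCategory.mk q),
        (box Y q).map y.down.op ≫ E.app x =
          E.app (op (SimplexCategory.mk q)) ≫ _ := fun y => E.naturality y.down.op
    refine FormalCoproduct.hom_ext (funext fun y => ?_) fun y => ?_
    · have := congrFun (congrArg FormalCoproduct.Hom.f (e y)) ⟨𝟙 _⟩
      refine this.symm.trans ?_
      change (E.app x).f ⟨y.down ≫ 𝟙 _⟩ = _
      rw [Category.comp_id]
      rfl
    · obtain ⟨h₁, h₂⟩ := (FormalCoproduct.hom_ext_iff _ _).1 (e y).symm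
      have h₃ := h₂ ⟨𝟙 _⟩
      have hy : (⟨y.down ≫ 𝟙 _⟩ : ULift.{u} (x.unop ⟶ SimplexCategory.mk q)) = y := by
        rw [Category.comp_id]
        rfl
      have h₄ : ∀ {z z'} (hz : z = z'),
          (E.app x).φ z ≫ eqToHom (by rw [hz]) = (E.app x).φ z' := by rintro z _ rfl; simp
      rw [← h₄ hy]
      refine Eq.trans ?_ (congrArg (· ≫ _) (h₃.trans (Category.id_comp _)))
      simp [ext, t]
      rfl
  refine ⟨t, fun m hm θ => ?_⟩
  have e : truncHom t = F.hom := by
    rw [truncHom, hE, Equiv.symm_apply_apply]
  rw [face, e]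
  rfl

end Groth.Agent.HyperLib
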