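import Groth.Agent.HyperLib.Basic

/-!
# The hypercovering of all diagrams

Given a class `B` of objects covering every object, the simplicial formal coproduct whose `q`-simplices are all
diagrams of members of `B` on the nonempty subsets of `Fin (q + 1)` fills every family of faces locally.
-/

set_option autoImplicit false
set_option backward.isDefEq.respectTransparency false

universe u

open CategoryTheory CategoryTheory.Limits Opposite

namespace Groth.Agent.HyperLib

/-- Nonempty subsets of the vertices of the `q`-simplex. -/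
abbrev Faces (q : ℕ) : Type := {T : Finset (Fin (q + 1)) // T.Nonempty}

/-- The whole simplex. -/
def topFace (q : ℕ) : Faces q := ⟨Finset.univ, Finset.univ_nonempty⟩

theorem le_topFace {q : ℕ} (T : Faces q) : T ≤ topFace q := Finset.subset_univ T.1

/-- The image of a face. -/
def imFace {m q : ℕ} (θ : SimplexCategory.mk m ⟶ SimplexCategory.mk q) (S : Faces m) : Faces q :=
  ⟨S.1.image θ.toOrderHom, S.2.image _⟩

theorem imFace_mono {m q : ℕ} (θ : SimplexCategory.mk m ⟶ SimplexCategory.mk q) : Monotone (imFace θ) :=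
  fun _ _ h => Finset.image_subset_image h

theorem imFace_id {m : ℕ} (S : Faces m) : imFace (𝟙 (SimplexCategory.mk m)) S = S := by
  apply Subtype.ext
  change Finset.image id S.1 = S.1
  exact Finset.image_id

theorem imFace_comp {a m q : ℕ} (φ : SimplexCategory.mk a ⟶ SimplexCategory.mk m)
    (θ : SimplexCategory.mk m ⟶ SimplexCategory.mk q) (S : Faces a) :
    imFace (φ ≫ θ) S = imFace θ (imFace φ S) := by
  apply Subtype.ext
  simp only [imFace, Finset.image_image]
  rfl

theorem functor_eq {α β : Type} [Preorder α] [PartialOrder β] {F G : α ⥤ β}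
    (h : ∀ a, F.obj a = G.obj a) : F = G :=
  CategoryTheory.Functor.ext h fun _ _ _ => Subsingleton.elim _ _

theorem map_heq {D : Type u} [SmallCategory D] {α : Type} [PartialOrder α] (F : αᵒᵖ ⥤ D) {a b a' b' : αᵒᵖ}
    (f : a ⟶ b) (g : a' ⟶ b') (ha : a = a') (hb : b = b') : F.map f ≍ F.map g := by
  subst ha hb
  rw [Subsingleton.elim f g]

theorem heq_comp_of {D : Type u} [SmallCategory D] {X Y Z X' Y' Z' : D} {f : X ⟶ Y} {g : Y ⟶ Z}
    {f' : X' ⟶ Y'} {g' : Y' ⟶ Z'} (hX : X = X') (hY : Y = Y') (hZ : Z = Z')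
    (hf : f ≍ f') (hg : g ≍ g') : (f ≫ g) ≍ (f' ≫ g') := by
  subst hX hY hZ
  cases hf
  cases hg
  rfl

variable {D : Type u} [SmallCategory D] (B : Set D)

/-- A diagram of members of `B` on the faces of the `q`-simplex. -/
def Diag (q : ℕ) : Type u := {F : (Faces q)ᵒᵖ ⥤ D // ∀ T, F.obj T ∈ B}

/-- Restriction of diagrams. -/
def Diag.res {B : Set D} {m q : ℕ} (θ : SimplexCategory.mk m ⟶ SimplexCategory.mk q) (F : Diag B q) :
    Diag B m :=
  ⟨(imFace_mono θ).functor.op ⋙ F.1, fun _ => F.2 _⟩

/-- The formal coproduct of all diagrams on the `q`-simplex. -/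
def freeObj (q : ℕ) : FormalCoproduct.{u} D := ⟨Diag B q, fun F => F.1.obj (op (topFace q))⟩

/-- The transition map. -/
def freeMap {m q : ℕ} (θ : SimplexCategory.mk m ⟶ SimplexCategory.mk q) : freeObj B q ⟶ freeObj B m :=
  ⟨fun F => F.res θ, fun F => F.1.map (homOfLE (le_topFace (imFace θ (topFace m)))).op⟩

/-- The simplicial formal coproduct of all diagrams. -/
def free : SimplicialObject (FormalCoproduct.{u} D) where
  obj m := freeObj B m.unop.len
  map θ := freeMap B θ.unop
  map_id m := by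
    have h : ∀ F : Diag B m.unop.len, F.res (𝟙 (SimplexCategory.mk m.unop.len)) = F := fun F => by
      apply Subtype.ext
      change (imFace_mono (𝟙 (SimplexCategory.mk m.unop.len))).functor.op ⋙ F.1 = 𝟭 _ ⋙ F.1
      refine congrArg (· ⋙ F.1) ?_
      rw [functor_eq (F := (imFace_mono (𝟙 (SimplexCategory.mk m.unop.len))).functor)
        (G := 𝟭 _) imFace_id]
      rfl
    refine FormalCoproduct.hom_ext (funext h) fun F => ?_
    refine eq_of_heq ((comp_eqToHom_heq _ _).trans ?_)
    refine (map_heq F.1 _ (𝟙 (op (topFace _))) rfl (congrArg op (imFace_id _))).trans ?_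
    rw [F.1.map_id]
    rfl
  map_comp {a b c} θ θ' := by
    refine FormalCoproduct.hom_ext (funext fun F => ?_) fun F => ?_
    · apply Subtype.ext
      change (imFace_mono (θ'.unop ≫ θ.unop)).functor.op ⋙ F.1 =
        ((imFace_mono θ'.unop).functor ⋙ (imFace_mono θ.unop).functor).op ⋙ F.1
      refine congrArg (· ⋙ F.1) (congrArg Functor.op (functor_eq fun S => ?_))
      exact imFace_comp _ _ S
    · refine eq_of_heq ((comp_eqToHom_heq _ _).trans ?_)
      change F.1.map _ ≍ F.1.map (homOfLE (le_topFace _)).op ≫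
        F.1.map ((imFace_mono θ.unop).functor.map (homOfLE (le_topFace _))).op
      rw [← F.1.map_comp]
      exact map_heq F.1 _ _ rfl (congrArg op (imFace_comp _ _ _))

section Fill

variable {B}
variable {n : ℕ} {Y : D} (F : Family (free B) n (n + 1) Y)

/-- The diagram of a given face. -/
def Family.diag {m : ℕ} (hm : m ≤ n) (θ : SimplexCategory.mk m ⟶ SimplexCategory.mk (n + 1)) :
    (Faces m)ᵒᵖ ⥤ D :=
  ((F.g m hm θ).f PUnit.unit).1

/-- The structure map of a given face. -/
def Family.str {m : ℕ} (hm : m ≤ n) (θ : SimplexCategory.mk m ⟶ SimplexCategory.mk (n + 1)) :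
    Y ⟶ (F.diag hm θ).obj (op (topFace m)) :=
  (F.g m hm θ).φ PUnit.unit

theorem Family.diag_comp {m a : ℕ} (hm : m ≤ n) (ha : a ≤ n)
    (φ : SimplexCategory.mk a ⟶ SimplexCategory.mk m)
    (θ : SimplexCategory.mk m ⟶ SimplexCategory.mk (n + 1)) :
    F.diag ha (φ ≫ θ) = (imFace_mono φ).functor.op ⋙ F.diag hm θ :=
  congrArg Subtype.val
    (congrFun ((FormalCoproduct.hom_ext_iff _ _).1 (F.compat m a hm ha φ θ)).fst PUnit.unit).symm

theorem Family.str_comp {m a : ℕ} (hm : m ≤ n) (ha : a ≤ n)
    (φ : SimplexCategory.mk a ⟶ SimplexCategory.mk m)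
    (θ : SimplexCategory.mk m ⟶ SimplexCategory.mk (n + 1)) :
    F.str ha (φ ≫ θ) ≍
      F.str hm θ ≫ (F.diag hm θ).map (homOfLE (le_topFace (imFace φ (topFace a)))).op := by
  obtain ⟨_, h₂⟩ := (FormalCoproduct.hom_ext_iff _ _).1 (F.compat m a hm ha φ θ)
  exact (heq_of_eq (h₂ PUnit.unit).symm).trans (comp_eqToHom_heq _ _)

/-- The proper faces. -/
abbrev Proper (q : ℕ) : Type := {T : Faces q // T.1 ≠ Finset.univ}

/-- The dimension of a proper face. -/
def Proper.dim {q : ℕ} (T : Proper q) : ℕ := T.1.1.card - 1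

theorem Proper.dim_le (T : Proper (n + 1)) : T.dim ≤ n := by
  have h := Finset.card_lt_card (Finset.ssubset_univ_iff.2 T.2)
  simp only [Finset.card_univ, Fintype.card_fin] at h
  unfold Proper.dim
  omega

theorem Proper.card_eq {q : ℕ} (T : Proper q) : T.1.1.card = T.dim + 1 := by
  have := T.1.2.card_pos
  unfold Proper.dim
  omega

/-- The inclusion of a proper face. -/
def Proper.emb {q : ℕ} (T : Proper q) : SimplexCategory.mk T.dim ⟶ SimplexCategory.mk q :=
  SimplexCategory.Hom.mk (T.1.1.orderEmbOfFin T.card_eq).toOrderHom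

theorem Proper.emb_injective {q : ℕ} (T : Proper q) : Function.Injective (imFace T.emb) := by
  intro S S' h
  exact Subtype.ext (Finset.image_injective (T.1.1.orderEmbOfFin T.card_eq).injective
    (congrArg Subtype.val h))

theorem Proper.imFace_emb {q : ℕ} (T : Proper q) : imFace T.emb (topFace _) = T.1 :=
  Subtype.ext (Finset.image_orderEmbOfFin_univ T.1.1 T.card_eq)

theorem Proper.factor {q m : ℕ} (T : Proper q) (θ : SimplexCategory.mk m ⟶ SimplexCategory.mk q)
    (h : imFace θ (topFace m) ≤ T.1) :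
    ∃ s : SimplexCategory.mk m ⟶ SimplexCategory.mk T.dim, s ≫ T.emb = θ := by
  have hmem : ∀ i, θ.toOrderHom i ∈ T.1.1 := fun i => h (Finset.mem_image_of_mem _ (Finset.mem_univ i))
  refine ⟨SimplexCategory.Hom.mk ⟨fun i => (T.1.1.orderIsoOfFin T.card_eq).symm ⟨_, hmem i⟩,
    fun i j hij => (T.1.1.orderIsoOfFin T.card_eq).symm.monotone (θ.toOrderHom.monotone hij)⟩, ?_⟩
  refine SimplexCategory.Hom.ext _ _ (OrderHom.ext _ _ (funext fun i => ?_))
  exact congrArg Subtype.val ((T.1.1.orderIsoOfFin T.card_eq).apply_symm_apply ⟨_, hmem i⟩)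

theorem Proper.exists_pre {q : ℕ} {T T' : Proper q} (h : T ≤ T') :
    ∃ S, imFace T'.emb S = T.1 := by
  obtain ⟨s, hs⟩ := T'.factor T.emb ((T.imFace_emb).le.trans h)
  exact ⟨imFace s (topFace _), by rw [← imFace_comp, hs, T.imFace_emb]⟩

/-- The face of `T'` lying over `T`. -/
noncomputable def Proper.pre {q : ℕ} {T T' : Proper q} (h : T ≤ T') : Faces T'.dim :=
  (Proper.exists_pre h).choose

theorem Proper.imFace_pre {q : ℕ} {T T' : Proper q} (h : T ≤ T') : imFace T'.emb (Proper.pre h) = T.1 :=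
  (Proper.exists_pre h).choose_spec

/-- The value on a proper face. -/
def Family.val (T : Proper (n + 1)) : D := (F.diag T.dim_le T.emb).obj (op (topFace _))

theorem Family.diag_emb_obj {T T' : Proper (n + 1)} (S : Faces T'.dim) (hS : imFace T'.emb S = T.1) :
    (F.diag T'.dim_le T'.emb).obj (op S) = F.val T := by
  have hle : T ≤ T' := by
    change T.1 ≤ T'.1
    rw [← hS, ← T'.imFace_emb]
    exact imFace_mono _ (le_topFace S)
  obtain ⟨s, hs⟩ := T'.factor T.emb ((T.imFace_emb).le.trans hle)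
  have e : S = imFace s (topFace _) := T'.emb_injective (by rw [hS, ← imFace_comp, hs, T.imFace_emb])
  have h := F.diag_comp T'.dim_le T.dim_le s T'.emb
  rw [hs] at h
  rw [Family.val, h, e]
  rfl

theorem Family.diag_emb_map {T₁ T₂ T' : Proper (n + 1)} (S₁ S₂ : Faces T'.dim) (hle : S₁ ≤ S₂)
    (h₁ : imFace T'.emb S₁ = T₁.1) (h₂ : imFace T'.emb S₂ = T₂.1) (S : Faces T₂.dim)
    (hS : imFace T₂.emb S = T₁.1) :
    (F.diag T'.dim_le T'.emb).map (homOfLE hle).op ≍
      (F.diag T₂.dim_le T₂.emb).map (homOfLE (le_topFace S)).op := by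
  have hle' : T₂ ≤ T' := by
    change T₂.1 ≤ T'.1
    rw [← h₂, ← T'.imFace_emb]
    exact imFace_mono _ (le_topFace S₂)
  obtain ⟨s, hs⟩ := T'.factor T₂.emb ((T₂.imFace_emb).le.trans hle')
  have h := F.diag_comp T'.dim_le T₂.dim_le s T'.emb
  rw [hs] at h
  refine HEq.trans ?_ (CategoryTheory.Functor.hcongr_hom h.symm _)
  refine map_heq _ _ _ (congrArg op ?_) (congrArg op ?_)
  · exact T'.emb_injective (by
      change imFace T'.emb S₂ = imFace T'.emb (imFace s (topFace _))
      rw [h₂, ← imFace_comp, hs, T₂.imFace_emb])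
  · exact T'.emb_injective (by
      change imFace T'.emb S₁ = imFace T'.emb (imFace s S)
      rw [h₁, ← imFace_comp, hs, hS])

/-- The transition maps between proper faces. -/
noncomputable def Family.trans {T T' : Proper (n + 1)} (h : T ≤ T') : F.val T' ⟶ F.val T :=
  (F.diag T'.dim_le T'.emb).map (homOfLE (le_topFace (Proper.pre h))).op ≫
    eqToHom (F.diag_emb_obj _ (Proper.imFace_pre h))

theorem Family.trans_heq {T₁ T₂ T' : Proper (n + 1)} (h : T₁ ≤ T₂) (S₁ S₂ : Faces T'.dim) (hle : S₁ ≤ S₂)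
    (h₁ : imFace T'.emb S₁ = T₁.1) (h₂ : imFace T'.emb S₂ = T₂.1) :
    F.trans h ≍ (F.diag T'.dim_le T'.emb).map (homOfLE hle).op :=
  (comp_eqToHom_heq _ _).trans (F.diag_emb_map S₁ S₂ hle h₁ h₂ _ (Proper.imFace_pre h)).symm

theorem Family.trans_self (T : Proper (n + 1)) (h : T ≤ T) : F.trans h = 𝟙 _ := by
  refine eq_of_heq ((F.trans_heq h (topFace _) (topFace _) le_rfl T.imFace_emb T.imFace_emb).trans ?_)
  rw [Subsingleton.elim (homOfLE (le_refl (topFace T.dim))).op (𝟙 _), CategoryTheory.Functor.map_id]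
  rfl

theorem Family.trans_trans {T₁ T₂ T₃ : Proper (n + 1)} (h₁₂ : T₁ ≤ T₂) (h₂₃ : T₂ ≤ T₃) :
    F.trans (h₁₂.trans h₂₃) = F.trans h₂₃ ≫ F.trans h₁₂ := by
  obtain ⟨S₁, hS₁⟩ := Proper.exists_pre (h₁₂.trans h₂₃)
  obtain ⟨S₂, hS₂⟩ := Proper.exists_pre h₂₃
  have h12 : S₁ ≤ S₂ := by
    intro x hx
    have hx' : T₃.emb.toOrderHom x ∈ T₂.1.1 := h₁₂ (hS₁ ▸ Finset.mem_image_of_mem _ hx)
    rw [← hS₂] at hx'
    obtain ⟨y, hy, hyx⟩ := Finset.mem_image.1 hx'
    exact (T₃.1.1.orderEmbOfFin T₃.card_eq).injective hyx ▸ hy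
  have a₁ := F.trans_heq (h₁₂.trans h₂₃) S₁ (topFace _) (le_topFace _) hS₁ T₃.imFace_emb
  have a₂ := F.trans_heq h₂₃ S₂ (topFace _) (le_topFace _) hS₂ T₃.imFace_emb
  have a₃ := F.trans_heq h₁₂ S₁ S₂ h12 hS₁ hS₂
  refine eq_of_heq (a₁.trans (HEq.trans ?_ (heq_comp_of rfl (F.diag_emb_obj S₂ hS₂)
    (F.diag_emb_obj S₁ hS₁) a₂.symm a₃.symm)))
  rw [← CategoryTheory.Functor.map_comp]
  rfl

/-- The map to the value on a proper face. -/
def Family.proj (T : Proper (n + 1)) : Y ⟶ F.val T := F.str T.dim_le T.emb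

theorem Family.proj_trans {T T' : Proper (n + 1)} (h : T ≤ T') : F.proj T' ≫ F.trans h = F.proj T := by
  obtain ⟨s, hs⟩ := T'.factor T.emb ((T.imFace_emb).le.trans h)
  have a := F.str_comp T'.dim_le T.dim_le s T'.emb
  rw [hs] at a
  have b := F.trans_heq h (imFace s (topFace _)) (topFace _) (le_topFace _)
    (by rw [← imFace_comp, hs, T.imFace_emb]) T'.imFace_emb
  refine eq_of_heq (HEq.trans ?_ a.symm)
  exact heq_comp_of rfl rfl (F.diag_emb_obj (T := T) _
    (by rw [← imFace_comp, hs, T.imFace_emb])).symm HEq.rfl b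

variable {Z : D} (k : Z ⟶ Y)

/-- The values of the filling. -/
def Family.fillObj : WithTop (Proper (n + 1)) → D
  | none => Z
  | some T => F.val T

/-- The transition maps of the filling. -/
noncomputable def Family.fillMap :
    ∀ {a b : WithTop (Proper (n + 1))}, a ≤ b → (F.fillObj (Z := Z) b ⟶ F.fillObj (Z := Z) a)
  | none, none, _ => 𝟙 Z
  | some T, none, _ => k ≫ F.proj T
  | some _, some _, h => F.trans (WithTop.coe_le_coe.1 h)
  | none, some _, h => absurd h (by exact WithTop.not_top_le_coe _)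

/-- The filling as a functor. -/
noncomputable def Family.fill : (WithTop (Proper (n + 1)))ᵒᵖ ⥤ D where
  obj a := F.fillObj (Z := Z) a.unop
  map f := F.fillMap k (leOfHom f.unop)
  map_id a := by
    cases a using Opposite.rec with
    | op a =>
      cases a with
      | top => rfl
      | coe T => exact F.trans_self T _
  map_comp {a b c} f g := by
    cases a using Opposite.rec with
    | op a =>
      cases b using Opposite.rec with
      | op b =>
        cases c using Opposite.rec with
        | op c =>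
          have hba : b ≤ a := leOfHom f.unop
          have hcb : c ≤ b := leOfHom g.unop
          cases a with
          | top =>
            cases b with
            | top => exact (Category.id_comp _).symm
            | coe T =>
              cases c with
              | top => exact absurd hcb (WithTop.not_top_le_coe _)
              | coe T' =>
                exact ((Category.assoc _ _ _).trans
                  (congrArg (k ≫ ·) (F.proj_trans (WithTop.coe_le_coe.1 hcb)))).symm
          | coe T =>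
            cases b with
            | top => exact absurd hba (WithTop.not_top_le_coe _)
            | coe T' =>
              cases c with
              | top => exact absurd hcb (WithTop.not_top_le_coe _)
              | coe T'' => exact F.trans_trans (WithTop.coe_le_coe.1 hcb) (WithTop.coe_le_coe.1 hba)

/-- Collapsing the whole simplex to the top. -/
def collapse (q : ℕ) (T : Faces q) : WithTop (Proper q) :=
  if h : T.1 = Finset.univ then ⊤ else ((⟨T, h⟩ : Proper q) : WithTop (Proper q))

theorem collapse_mono (q : ℕ) : Monotone (collapse q) := by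
  intro T T' h
  unfold collapse
  by_cases h' : T'.1 = Finset.univ
  · rw [dif_pos h']
    exact le_top
  · rw [dif_neg h', dif_neg fun (e : T.1 = Finset.univ) => h' (Finset.univ_subset_iff.1 (e.symm.le.trans h))]
    exact WithTop.coe_le_coe.2 h

theorem collapse_top (q : ℕ) : collapse q (topFace q) = ⊤ := dif_pos rfl

theorem mem_fill (hZ : Z ∈ B) (T : (Faces (n + 1))ᵒᵖ) :
    ((collapse_mono (n + 1)).functor.op ⋙ F.fill k).obj T ∈ B := by
  change F.fillObj (Z := Z) (collapse (n + 1) T.unop) ∈ B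
  cases collapse (n + 1) T.unop with
  | top => exact hZ
  | coe T => exact ((F.g _ T.dim_le T.emb).f PUnit.unit).2 _

theorem proper_imFace {m q : ℕ} (hm : m < q) (θ : SimplexCategory.mk m ⟶ SimplexCategory.mk q)
    (S : Faces m) : (imFace θ S).1 ≠ Finset.univ := by
  intro h
  have h₁ : (Finset.image θ.toOrderHom S.1).card ≤ m + 1 :=
    Finset.card_image_le.trans ((Finset.card_le_univ _).trans_eq (Fintype.card_fin _))
  change Finset.image θ.toOrderHom S.1 = Finset.univ at h
  rw [h, Finset.card_univ, Fintype.card_fin] at h₁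
  exact absurd hm (by simp only [SimplexCategory.len_mk] at h₁; omega)

theorem exists_fill (hZ : Z ∈ B) :
    ∃ a : (FormalCoproduct.incl D).obj Z ⟶ (free B).obj (op (SimplexCategory.mk (n + 1))),
      ∀ (m : ℕ) (hm : m ≤ n) (θ : SimplexCategory.mk m ⟶ SimplexCategory.mk (n + 1)),
        a ≫ (free B).map θ.op = (FormalCoproduct.incl D).map k ≫ F.g m hm θ := by
  let E : Diag B (n + 1) := ⟨(collapse_mono (n + 1)).functor.op ⋙ F.fill k, mem_fill F k hZ⟩
  have htop : E.1.obj (op (topFace _)) = Z := by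
    change F.fillObj (Z := Z) (collapse (n + 1) (topFace _)) = Z
    rw [collapse_top]
    rfl
  refine ⟨FormalCoproduct.Hom.fromIncl (Y := (free B).obj (op (SimplexCategory.mk (n + 1)))) E
    (eqToHom htop.symm), fun m hm θ => ?_⟩
  let T₀ : Proper (n + 1) := ⟨imFace θ (topFace m), proper_imFace (by omega) θ _⟩
  obtain ⟨s, hs⟩ := T₀.factor θ le_rfl
  let P : Faces m → Proper (n + 1) := fun S => ⟨imFace θ S, proper_imFace (by omega) θ S⟩
  have hc : ∀ S, (collapse (n + 1) (imFace θ S) : WithTop (Proper (n + 1))) = ((P S : Proper (n + 1)) :) :=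
    fun S => dif_neg (proper_imFace (by omega) θ S)
  have hP : ∀ S, imFace T₀.emb (imFace s S) = (P S).1 := fun S => by rw [← imFace_comp, hs]
  have hdiag : F.diag hm θ = (imFace_mono s).functor.op ⋙ F.diag T₀.dim_le T₀.emb := by
    rw [← F.diag_comp T₀.dim_le hm s T₀.emb]
    congr 1
    exact hs.symm
  have hobj : ∀ S, (F.diag hm θ).obj (op S) = F.val (P S) := fun S => by
    rw [hdiag]
    exact F.diag_emb_obj (T' := T₀) _ (hP S)
  have hf : (E.res θ).1 = F.diag hm θ := by
    refine CategoryTheory.Functor.hext (fun S => ?_) fun S S' f => ?_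
    · change F.fillObj (Z := Z) (collapse (n + 1) (imFace θ S.unop)) = _
      rw [hc]
      exact (hobj S.unop).symm
    · have hle : P S'.unop ≤ P S.unop := imFace_mono θ (leOfHom f.unop)
      refine HEq.trans (b := (F.fill k).map (homOfLE (WithTop.coe_le_coe.2 hle)).op) ?_ ?_
      · exact map_heq (F.fill k) ((collapse_mono (n + 1)).functor.op.map ((imFace_mono θ).functor.op.map f)) _ (congrArg op (hc _)) (congrArg op (hc _))
      · refine HEq.trans ?_ (CategoryTheory.Functor.hcongr_hom hdiag.symm f)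
        exact F.trans_heq hle (imFace s S'.unop) (imFace s S.unop) (imFace_mono s (leOfHom f.unop))
          (hP _) (hP _)
  refine incl_hom_ext (Subtype.ext hf) ?_
  refine eq_of_heq ((comp_eqToHom_heq _ _).trans ?_)
  change eqToHom htop.symm ≫ E.1.map (homOfLE (le_topFace (imFace θ (topFace m)))).op ≍ k ≫ F.str hm θ
  refine (eqToHom_comp_heq _ _).trans ?_
  refine HEq.trans (b := (F.fill k).map (homOfLE (le_top : ((P (topFace m) : Proper (n + 1)) :
    WithTop (Proper (n + 1))) ≤ ⊤)).op) ?_ ?_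
  · exact map_heq (F.fill k) ((collapse_mono (n + 1)).functor.op.map (homOfLE (le_topFace (imFace θ (topFace m)))).op) _ (congrArg op (collapse_top _)) (congrArg op (hc _))
  · change k ≫ F.proj T₀ ≍ k ≫ F.str hm θ
    refine heq_comp_of rfl rfl (hobj _).symm HEq.rfl ?_
    have a := F.str_comp T₀.dim_le hm s T₀.emb
    have hθ : F.str hm (s ≫ T₀.emb) ≍ F.str hm θ := by rw [hs]
    refine ((hθ.symm.trans a).trans ?_).symm
    have e : imFace s (topFace m) = topFace _ := T₀.emb_injective (by
      rw [← imFace_comp, hs, T₀.imFace_emb])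
    refine HEq.trans (heq_comp_of rfl rfl (congrArg (fun S => (F.diag T₀.dim_le T₀.emb).obj (op S)) e)
      HEq.rfl (map_heq _ _ (𝟙 (op (topFace _))) rfl (congrArg op e))) ?_
    rw [CategoryTheory.Functor.map_id, Category.comp_id]
    rfl

end Fill

variable (J : GrothendieckTopology D)
  (hB : ∀ U : D, ∃ (ι : Type u) (V : ι → D) (f : ∀ i, V i ⟶ U), Sieve.ofArrows V f ∈ J U ∧ ∀ i, V i ∈ B)

include hB in
theorem cov_free [∀ (n : ℕ) (F : (SimplexCategory.Truncated n)ᵒᵖ ⥤ FormalCoproduct.{u} D),
      (SimplexCategory.Truncated.inclusion n).op.HasRightKanExtension F] (n : ℕ) :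
    Cov J (((SimplicialObject.coskAdj n).unit.app (free B)).app (op (SimplexCategory.mk (n + 1)))) := by
  refine cov_unit J n (n + 1) fun Y F => ?_
  obtain ⟨ι, V, f, hS, hV⟩ := hB Y
  refine ⟨_, hS, fun {Z} k hk => ?_⟩
  obtain ⟨i, e, rfl⟩ := (Sieve.mem_ofArrows_iff _ _ _).1 hk
  obtain ⟨a, ha⟩ := exists_fill F (f i) (hV i)
  exact ⟨(FormalCoproduct.incl D).map e ≫ a, fun m hm θ => by
    rw [Category.assoc, ha, Functor.map_comp, Category.assoc]⟩

/-- A member of `B` as a vertex. -/
def vertex (U : D) (hU : U ∈ B) : (free B).obj (op (SimplexCategory.mk 0)) |>.I :=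
  ⟨(CategoryTheory.Functor.const _).obj U, fun _ => hU⟩

end Groth.Agent.HyperLib
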