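import Groth.Agent.HyperLib.Contract

/-!
# Exactness of the free abelian complex of a hypercovering
-/

set_option autoImplicit false
set_option backward.isDefEq.respectTransparency false

universe u

open CategoryTheory CategoryTheory.Limits Opposite

namespace Groth.Agent.HyperLib

variable {D : Type u} [SmallCategory D]

/-- Elements of the coproduct of representables are maps from a single object. -/
noncomputable def eltEquiv (Y : D) (T : FormalCoproduct.{u} D) :
    ((FormalCoproduct.incl D).obj Y ⟶ T) ≃ (FormalCoproduct.yoneda.obj T).obj (op Y) :=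
  Equiv.ofBijective elt ⟨fun _ _ h => elt_injective h, elt_surjective⟩

theorem eltEquiv_symm_elt {Y : D} {T : FormalCoproduct.{u} D} (t : (FormalCoproduct.incl D).obj Y ⟶ T) :
    (eltEquiv Y T).symm (elt t) = t :=
  (eltEquiv Y T).symm_apply_apply t

variable (K : SimplicialObject (FormalCoproduct.{u} D))

/-- The free simplicial presheaf of abelian groups. -/
noncomputable abbrev freeSimp : SimplicialObject (Dᵒᵖ ⥤ AddCommGrpCat.{u}) :=
  (K ⋙ FormalCoproduct.yoneda) ⋙ (Functor.whiskeringRight _ _ _).obj AddCommGrpCat.free.{u}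

/-- The free chain complex of presheaves. -/
noncomputable abbrev freePCx : ChainComplex (Dᵒᵖ ⥤ AddCommGrpCat.{u}) ℕ :=
  (AlgebraicTopology.alternatingFaceMapComplex _).obj (freeSimp K)

/-- The chain of a simplex. -/
noncomputable def chain {n : ℕ} {U : D} (t : (FormalCoproduct.incl D).obj U ⟶ K.obj (op (SimplexCategory.mk n))) :
    ((freePCx K).X n).obj (op U) :=
  FreeAbelianGroup.of (elt t)

theorem d_chain {n : ℕ} {U : D}
    (t : (FormalCoproduct.incl D).obj U ⟶ K.obj (op (SimplexCategory.mk (n + 1)))) :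
    ((freePCx K).d (n + 1) n).app (op U) (chain K t) =
      ∑ i : Fin (n + 2), (-1 : ℤ) ^ (i : ℕ) • chain K (t ≫ K.δ i) := by
  have hd : (freePCx K).d (n + 1) n = ∑ i : Fin (n + 2), (-1 : ℤ) ^ (i : ℕ) • (freeSimp K).δ i :=
    AlgebraicTopology.alternatingFaceMapComplex_obj_d _ n
  rw [hd, NatTrans.app_sum]
  simp only [NatTrans.app_zsmul]
  let ev : (((freePCx K).X (n + 1)).obj (op U) ⟶ ((freePCx K).X n).obj (op U)) →+
      ((freePCx K).X n).obj (op U) := AddMonoidHom.mk' (fun g => g (chain K t)) fun _ _ => rfl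
  refine (map_sum ev _ _).trans (Finset.sum_congr rfl fun i _ => ?_)
  refine (map_zsmul ev _ _).trans ?_
  refine congrArg _ ?_
  exact (FreeAbelianGroup.map_of_apply (elt t)).trans (congrArg FreeAbelianGroup.of (elt_comp t (K.δ i)))

theorem res_chain {n : ℕ} {U V : D} (k : V ⟶ U)
    (t : (FormalCoproduct.incl D).obj U ⟶ K.obj (op (SimplexCategory.mk n))) :
    ((freePCx K).X n).map k.op (chain K t) = chain K ((FormalCoproduct.incl D).map k ≫ t) :=
  (FreeAbelianGroup.map_of_apply (elt t)).trans (congrArg FreeAbelianGroup.of (map_elt k t))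

/-- The linear extension of a map of simplices. -/
noncomputable def linExt {n m : ℕ} {U V : D}
    (h : ((FormalCoproduct.incl D).obj U ⟶ K.obj (op (SimplexCategory.mk n))) →
      ((FormalCoproduct.incl D).obj V ⟶ K.obj (op (SimplexCategory.mk m)))) :
    ((freePCx K).X n).obj (op U) →+ ((freePCx K).X m).obj (op V) :=
  FreeAbelianGroup.lift fun s => chain K (h ((eltEquiv U _).symm s))

theorem linExt_chain {n m : ℕ} {U V : D}
    (h : ((FormalCoproduct.incl D).obj U ⟶ K.obj (op (SimplexCategory.mk n))) →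
      ((FormalCoproduct.incl D).obj V ⟶ K.obj (op (SimplexCategory.mk m))))
    (t : (FormalCoproduct.incl D).obj U ⟶ K.obj (op (SimplexCategory.mk n))) :
    linExt K h (chain K t) = chain K (h t) := by
  refine (FreeAbelianGroup.lift_apply_of _ (elt t)).trans ?_
  rw [eltEquiv_symm_elt]

theorem exists_support {n : ℕ} {U : D} (z : ((freePCx K).X n).obj (op U)) :
    ∃ T : Finset ((FormalCoproduct.incl D).obj U ⟶ K.obj (op (SimplexCategory.mk n))),
      z ∈ AddSubgroup.closure (chain K '' (T : Set _)) := by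
  classical
  change FreeAbelianGroup _ at z
  induction z using FreeAbelianGroup.induction_on with
  | zero => exact ⟨∅, AddSubgroup.zero_mem _⟩
  | of s =>
    obtain ⟨t, rfl⟩ := elt_surjective s
    exact ⟨{t}, AddSubgroup.subset_closure ⟨t, by simp, rfl⟩⟩
  | neg x hx =>
    obtain ⟨T, hT⟩ := hx
    exact ⟨T, AddSubgroup.neg_mem _ hT⟩
  | add x y hx hy =>
    obtain ⟨T, hT⟩ := hx
    obtain ⟨T', hT'⟩ := hy
    refine ⟨T ∪ T', AddSubgroup.add_mem _ ?_ ?_⟩
    · exact AddSubgroup.closure_mono (Set.image_mono (by simp)) hT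
    · exact AddSubgroup.closure_mono (Set.image_mono (by simp)) hT'

variable {K} {J : GrothendieckTopology D} (hK : Fills J K) (h0 : ∀ U : D, vertexSieve K U ∈ J U)

include hK h0 in
theorem locally_boundary {n : ℕ} {U : D} (z : ((freePCx K).X (n + 1)).obj (op U))
    (hz : ((freePCx K).d (n + 1) n).app (op U) z = 0) :
    ∃ S ∈ J U, ∀ {Z : D} (k : Z ⟶ U), S k → ∃ w : ((freePCx K).X (n + 2)).obj (op Z),
      ((freePCx K).d (n + 2) (n + 1)).app (op Z) w = ((freePCx K).X (n + 1)).map k.op z := by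
  obtain ⟨T, hT⟩ := exists_support K z
  obtain ⟨S, hS, hcone⟩ := contract hK h0 n U T
  refine ⟨S, hS, fun {Z} k hk => ?_⟩
  obtain ⟨h, h', hh⟩ := hcone k hk
  let f : ((freePCx K).X (n + 1)).obj (op U) →+ ((freePCx K).X (n + 1)).obj (op Z) :=
    (((freePCx K).d (n + 2) (n + 1)).app (op Z)).hom.comp (linExt K h) +
      (linExt K h').comp (((freePCx K).d (n + 1) n).app (op U)).hom
  have key : f z = ((freePCx K).X (n + 1)).map k.op z := by
    have hle : AddSubgroup.closure (chain K '' (T : Set _)) ≤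
        AddMonoidHom.eqLocus f (((freePCx K).X (n + 1)).map k.op).hom := by
      refine (AddSubgroup.closure_le _).2 ?_
      rintro _ ⟨t, ht, rfl⟩
      obtain ⟨ha, hb⟩ := hh t ht
      change ((freePCx K).d (n + 2) (n + 1)).app (op Z) (linExt K h (chain K t)) +
        linExt K h' (((freePCx K).d (n + 1) n).app (op U) (chain K t)) =
        ((freePCx K).X (n + 1)).map k.op (chain K t)
      rw [linExt_chain, d_chain, d_chain, res_chain, map_sum, Fin.sum_univ_succ, add_assoc,
        ← Finset.sum_add_distrib, ha]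
      simp only [map_zsmul, linExt_chain, hb, Fin.val_zero, pow_zero, one_smul, Fin.val_succ, pow_succ,
        mul_neg, mul_one, neg_smul, neg_add_cancel, Finset.sum_const_zero, add_zero]
    exact hle hT
  refine ⟨linExt K h z, ?_⟩
  rw [← key]
  change _ = _ + linExt K h' (((freePCx K).d (n + 1) n).app (op U) z)
  rw [hz, map_zero, add_zero]
  rfl

variable (K) in
/-- The augmentation. -/
noncomputable def augment :
    (freePCx K).X 0 ⟶ (Functor.const Dᵒᵖ).obj (AddCommGrpCat.free.{u}.obj PUnit.{u + 1}) where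
  app V := AddCommGrpCat.free.map (TypeCat.ofHom fun _ => PUnit.unit)
  naturality V W f := by
    change AddCommGrpCat.free.map _ ≫ AddCommGrpCat.free.map _ = AddCommGrpCat.free.map _ ≫ 𝟙 _
    rw [Category.comp_id, ← Functor.map_comp]
    rfl

theorem augment_chain {U : D} (t : (FormalCoproduct.incl D).obj U ⟶ K.obj (op (SimplexCategory.mk 0))) :
    (augment K).app (op U) (chain K t) = FreeAbelianGroup.of PUnit.unit :=
  FreeAbelianGroup.map_of_apply _

theorem d_augment : (freePCx K).d 1 0 ≫ augment K = 0 := by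
  refine NatTrans.ext (funext fun V => ?_)
  obtain ⟨U, rfl⟩ : ∃ U, op U = V := ⟨V.unop, rfl⟩
  refine AddCommGrpCat.hom_ext (FreeAbelianGroup.lift_ext _ _ fun s => ?_)
  obtain ⟨t, rfl⟩ := elt_surjective s
  change (augment K).app (op U) (((freePCx K).d 1 0).app (op U) (chain K t)) = 0
  rw [d_chain, map_sum, Fin.sum_univ_two, map_zsmul, map_zsmul, augment_chain, augment_chain]
  simp

include hK h0 in
theorem locally_boundary_zero {U : D} (z : ((freePCx K).X 0).obj (op U))
    (hz : (augment K).app (op U) z = 0) :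
    ∃ S ∈ J U, ∀ {Z : D} (k : Z ⟶ U), S k → ∃ w : ((freePCx K).X 1).obj (op Z),
      ((freePCx K).d 1 0).app (op Z) w = ((freePCx K).X 0).map k.op z := by
  obtain ⟨T, hT⟩ := exists_support K z
  obtain ⟨S, hS, hcone⟩ := contract_zero hK h0 U T
  refine ⟨S, hS, fun {Z} k hk => ?_⟩
  obtain ⟨h, v, hh⟩ := hcone k hk
  let e : (AddCommGrpCat.free.{u}.obj PUnit.{u + 1}) →+ ((freePCx K).X 0).obj (op Z) :=
    FreeAbelianGroup.lift fun _ => chain K v
  let f : ((freePCx K).X 0).obj (op U) →+ ((freePCx K).X 0).obj (op Z) :=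
    (((freePCx K).d 1 0).app (op Z)).hom.comp (linExt K h) + e.comp ((augment K).app (op U)).hom
  have key : f z = ((freePCx K).X 0).map k.op z := by
    have hle : AddSubgroup.closure (chain K '' (T : Set _)) ≤
        AddMonoidHom.eqLocus f (((freePCx K).X 0).map k.op).hom := by
      refine (AddSubgroup.closure_le _).2 ?_
      rintro _ ⟨t, ht, rfl⟩
      obtain ⟨ha, hb⟩ := hh t ht
      change ((freePCx K).d 1 0).app (op Z) (linExt K h (chain K t)) +
        e ((augment K).app (op U) (chain K t)) = ((freePCx K).X 0).map k.op (chain K t)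
      rw [linExt_chain, d_chain, res_chain, Fin.sum_univ_two, ha, augment_chain]
      have h1 : h t ≫ K.δ (1 : Fin 2) = v := hb 0
      simp [h1, e]
    exact hle hT
  refine ⟨linExt K h z, ?_⟩
  rw [← key]
  change _ = _ + e ((augment K).app (op U) z)
  rw [hz, map_zero, add_zero]
  rfl

include h0 in
theorem augment_locally_surjective {U : D} (c : AddCommGrpCat.free.{u}.obj PUnit.{u + 1}) :
    ∃ S ∈ J U, ∀ {Z : D} (k : Z ⟶ U), S k → ∃ z : ((freePCx K).X 0).obj (op Z),
      (augment K).app (op Z) z = c := by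
  refine ⟨_, h0 U, fun {Z} k hk => ?_⟩
  obtain ⟨v⟩ := hk
  refine ⟨(FreeAbelianGroup.lift (fun _ => chain K v) :
    FreeAbelianGroup PUnit.{u + 1} →+ _) c, ?_⟩
  have e : ((augment K).app (op Z)).hom.comp (FreeAbelianGroup.lift fun _ : PUnit.{u + 1} => chain K v) =
      AddMonoidHom.id (FreeAbelianGroup PUnit.{u + 1}) := FreeAbelianGroup.lift_ext _ _ fun _ => by
    simp
    exact augment_chain v
  exact DFunLike.congr_fun e c

variable (J)

theorem isZero_sheafify {P : Dᵒᵖ ⥤ AddCommGrpCat.{u}}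
    (h : ∀ (U : D) (x : P.obj (op U)), ∃ S ∈ J U, ∀ {Z : D} (k : Z ⟶ U), S k → P.map k.op x = 0) :
    IsZero ((presheafToSheaf J AddCommGrpCat.{u}).obj P) := by
  let G := (presheafToSheaf J AddCommGrpCat.{u}).obj P
  have hT : Presieve.IsSheaf J (G.obj ⋙ forget AddCommGrpCat.{u}) :=
    (isSheaf_iff_isSheaf_of_type _ _).1 ((sheafCompose J (forget AddCommGrpCat.{u})).obj G).2
  have hη : toSheafify J P = 0 := by
    refine NatTrans.ext (funext fun V => ?_)
    obtain ⟨U, rfl⟩ : ∃ U, op U = V := ⟨V.unop, rfl⟩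
    ext x
    obtain ⟨S, hS, hx⟩ := h U x
    refine (hT S hS).isSeparatedFor.ext fun Z k hk => ?_
    change G.obj.map k.op ((toSheafify J P).app (op U) x) = G.obj.map k.op 0
    rw [map_zero]
    exact (NatTrans.naturality_apply (toSheafify J P) k.op x).symm.trans (by rw [hx k hk, map_zero])
  rw [IsZero.iff_id_eq_zero]
  refine Sheaf.hom_ext (sheafify_hom_ext J _ _ G.2 ?_)
  simp only [hη, zero_comp]

include hK h0 in
theorem freeChainCx_isZero (n : ℕ) : IsZero ((Hyper.freeChainCx J K).homology (n + 1)) := by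
  let F := presheafToSheaf J AddCommGrpCat.{u}
  let Q := freePCx K
  have e : Hyper.freeChainCx J K = (F.mapHomologicalComplex _).obj Q :=
    (CategoryTheory.Functor.congr_obj (AlgebraicTopology.map_alternatingFaceMapComplex F)
      (freeSimp K)).symm
  have e' : ((F.mapHomologicalComplex _).obj Q).homology (n + 1) ≅ F.obj (Q.homology (n + 1)) :=
    (Q.sc (n + 1)).mapHomologyIso F
  refine IsZero.of_iso ?_ (eqToIso (congrArg (fun C => HomologicalComplex.homology C (n + 1)) e) ≪≫ e')
  refine isZero_sheafify J fun U x => ?_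
  have hπ : Function.Surjective ((Q.homologyπ (n + 1)).app (op U)) := by
    rw [← AddCommGrpCat.epi_iff_surjective]
    infer_instance
  obtain ⟨y, rfl⟩ := hπ x
  obtain ⟨S, hS, hw⟩ := locally_boundary hK h0 ((Q.iCycles (n + 1)).app (op U) y) (by
    rw [← ConcreteCategory.comp_apply, ← NatTrans.comp_app, Q.iCycles_d]
    rfl)
  refine ⟨S, hS, fun {Z} k hk => ?_⟩
  obtain ⟨w, hw⟩ := hw k hk
  have hi : Function.Injective ((Q.iCycles (n + 1)).app (op Z)) := by
    rw [← AddCommGrpCat.mono_iff_injective]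
    infer_instance
  have hy : (Q.cycles (n + 1)).map k.op y = (Q.toCycles (n + 2) (n + 1)).app (op Z) w := by
    apply hi
    rw [← ConcreteCategory.comp_apply ((Q.toCycles (n + 2) (n + 1)).app (op Z)), ← NatTrans.comp_app,
      Q.toCycles_i]
    exact (NatTrans.naturality_apply (Q.iCycles (n + 1)) k.op y).trans hw.symm
  refine (NatTrans.naturality_apply (Q.homologyπ (n + 1)) k.op y).symm.trans ?_
  rw [hy, ← ConcreteCategory.comp_apply, ← NatTrans.comp_app, Q.toCycles_comp_homologyπ]
  rfl

include hK h0 in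
theorem freeChainCx_homology_zero : Nonempty ((Hyper.freeChainCx J K).homology 0 ≅
    (presheafToSheaf J AddCommGrpCat.{u}).obj
      ((Functor.const Dᵒᵖ).obj (AddCommGrpCat.free.{u}.obj PUnit.{u + 1}))) := by
  let F := presheafToSheaf J AddCommGrpCat.{u}
  let Q := freePCx K
  have e : Hyper.freeChainCx J K = (F.mapHomologicalComplex _).obj Q :=
    (CategoryTheory.Functor.congr_obj (AlgebraicTopology.map_alternatingFaceMapComplex F)
      (freeSimp K)).symm
  have e' : ((F.mapHomologicalComplex _).obj Q).homology 0 ≅ F.obj (Q.homology 0) :=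
    (Q.sc 0).mapHomologyIso F
  let ψ : Q.homology 0 ⟶ (Functor.const Dᵒᵖ).obj (AddCommGrpCat.free.{u}.obj PUnit.{u + 1}) :=
    Q.isoHomologyι₀.hom ≫ Q.descOpcycles (augment K) 1 (ChainComplex.prev ℕ 0) d_augment
  let π : Q.X 0 ⟶ Q.homology 0 := Q.pOpcycles 0 ≫ Q.isoHomologyι₀.inv
  have hπψ : π ≫ ψ = augment K := by simp [π, ψ]
  have hdπ : Q.d 1 0 ≫ π = 0 := by simp [π]
  haveI : Epi π := epi_comp _ _
  have hsurj : ∀ V, Function.Surjective (π.app V) := fun V => by
    rw [← AddCommGrpCat.epi_iff_surjective]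
    infer_instance
  haveI : Presheaf.IsLocallyInjective J ψ := by
    refine ⟨fun {V} x y hxy => ?_⟩
    obtain ⟨U, rfl⟩ : ∃ U, op U = V := ⟨V.unop, rfl⟩
    obtain ⟨z, hz⟩ := hsurj (op U) (x - y)
    obtain ⟨S, hS, hw⟩ := locally_boundary_zero hK h0 z (by
      rw [← hπψ, NatTrans.comp_app, ConcreteCategory.comp_apply, hz, map_sub, hxy, sub_self])
    refine J.superset_covering ?_ hS
    intro Z k hk
    obtain ⟨w, hw⟩ := hw k hk
    change (Q.homology 0).map k.op x = (Q.homology 0).map k.op y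
    rw [← sub_eq_zero, ← map_sub, ← hz, ← NatTrans.naturality_apply π k.op z, ← hw,
      ← ConcreteCategory.comp_apply, ← NatTrans.comp_app, hdπ]
    rfl
  haveI : Presheaf.IsLocallySurjective J ψ := by
    refine ⟨fun {U} c => ?_⟩
    obtain ⟨S, hS, hc⟩ := augment_locally_surjective h0 (U := U) c
    refine J.superset_covering ?_ hS
    intro Z k hk
    obtain ⟨z, hz⟩ := hc k hk
    refine ⟨π.app (op Z) z, ?_⟩
    rw [← ConcreteCategory.comp_apply, ← NatTrans.comp_app, hπψ, hz]
    rfl
  haveI : IsIso (F.map ψ) := (J.W_iff ψ).1 (J.W_of_isLocallyBijective ψ)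
  exact ⟨eqToIso (congrArg (fun C => HomologicalComplex.homology C 0) e) ≪≫ e' ≪≫ asIso (F.map ψ)⟩

end Groth.Agent.HyperLib
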