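import Groth.Agent.HyperLib.Free

/-!
# Finite hypercoverings inside the hypercovering of all diagrams

When `B` gives finite coverings and the category has finite limits, every compatible family of faces with
prescribed diagrams is pulled back from a universal one (on the limit over the proper faces), so finitely many
diagrams in each degree suffice to fill all families locally.
-/

set_option autoImplicit false
set_option backward.isDefEq.respectTransparency false

universe u

open CategoryTheory CategoryTheory.Limits Opposite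

namespace Groth.Agent.HyperLib

variable {D : Type u} [SmallCategory D] {B : Set D}

theorem Diag.res_id {m : ℕ} (F : Diag B m) : F.res (𝟙 (SimplexCategory.mk m)) = F :=
  congrFun (((FormalCoproduct.hom_ext_iff _ _).1 ((free B).map_id (op (SimplexCategory.mk m)))).fst) F

theorem Diag.res_res {a m q : ℕ} (φ : SimplexCategory.mk a ⟶ SimplexCategory.mk m)
    (θ : SimplexCategory.mk m ⟶ SimplexCategory.mk q) (F : Diag B q) :
    (F.res θ).res φ = F.res (φ ≫ θ) :=
  (congrFun (((FormalCoproduct.hom_ext_iff _ _).1 ((free B).map_comp θ.op φ.op)).fst) F).symm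

section Universal

variable {n : ℕ} {Y : D} (F : Family (free B) n (n + 1) Y)

/-- The proper face spanned by a map. -/
def properOf {m : ℕ} (hm : m ≤ n) (θ : SimplexCategory.mk m ⟶ SimplexCategory.mk (n + 1)) : Proper (n + 1) :=
  ⟨imFace θ (topFace m), proper_imFace (by omega) θ _⟩

theorem Family.diag_obj_eq {m : ℕ} (hm : m ≤ n) (θ : SimplexCategory.mk m ⟶ SimplexCategory.mk (n + 1)) :
    (F.diag hm θ).obj (op (topFace m)) = F.val (properOf hm θ) := by
  obtain ⟨s, hs⟩ := (properOf hm θ).factor θ le_rfl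
  have h := F.diag_comp (properOf hm θ).dim_le hm s (properOf hm θ).emb
  rw [hs] at h
  rw [h]
  exact F.diag_emb_obj (T' := properOf hm θ) _ (by
    change imFace (properOf hm θ).emb (imFace s (topFace m)) = (properOf hm θ).1
    rw [← imFace_comp, hs]
    rfl)

theorem Family.str_heq {m : ℕ} (hm : m ≤ n) (θ : SimplexCategory.mk m ⟶ SimplexCategory.mk (n + 1)) :
    F.proj (properOf hm θ) ≍ F.str hm θ := by
  obtain ⟨s, hs⟩ := (properOf hm θ).factor θ le_rfl
  have a := F.str_comp (properOf hm θ).dim_le hm s (properOf hm θ).emb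
  rw [hs] at a
  refine (a.trans ?_).symm
  have e : imFace s (topFace m) = topFace _ := (properOf hm θ).emb_injective (by
    rw [← imFace_comp, hs, (properOf hm θ).imFace_emb]; rfl)
  refine HEq.trans (heq_comp_of rfl rfl
    (congrArg (fun S => (F.diag (properOf hm θ).dim_le (properOf hm θ).emb).obj (op S)) e)
    HEq.rfl (map_heq _ _ (𝟙 (op (topFace _))) rfl (congrArg op e))) ?_
  rw [CategoryTheory.Functor.map_id, Category.comp_id]
  rfl

/-- The diagram of values on the proper faces. -/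
noncomputable def Family.values : (Proper (n + 1))ᵒᵖ ⥤ D where
  obj T := F.val T.unop
  map f := F.trans (leOfHom f.unop)
  map_id T := F.trans_self T.unop _
  map_comp f g := F.trans_trans (leOfHom g.unop) (leOfHom f.unop)

theorem Family.map_le_heq {m m' : ℕ} (hm : m ≤ n) (hm' : m' ≤ n)
    (φ : SimplexCategory.mk m' ⟶ SimplexCategory.mk m)
    (θ : SimplexCategory.mk m ⟶ SimplexCategory.mk (n + 1)) (h : properOf hm' (φ ≫ θ) ≤ properOf hm θ) :
    F.trans h ≍ (F.diag hm θ).map (homOfLE (le_topFace (imFace φ (topFace m')))).op := by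
  obtain ⟨s, hs⟩ := (properOf hm θ).factor θ le_rfl
  have hd := F.diag_comp (properOf hm θ).dim_le hm s (properOf hm θ).emb
  rw [hs] at hd
  refine (F.trans_heq h (imFace s (imFace φ (topFace m'))) (imFace s (topFace m))
    (imFace_mono s (le_topFace _)) ?_ ?_).trans ?_
  · rw [← imFace_comp, hs, ← imFace_comp]
    rfl
  · rw [← imFace_comp, hs]
    rfl
  · exact HEq.trans (map_heq _ _ _ rfl rfl) (CategoryTheory.Functor.hcongr_hom hd.symm _)

variable [HasLimit F.values]

/-- The universal family with the same diagrams. -/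
noncomputable def Family.universal : Family (free B) n (n + 1) (limit F.values) where
  g m hm θ := FormalCoproduct.Hom.fromIncl (Y := (free B).obj (op (SimplexCategory.mk m)))
    ((F.g m hm θ).f PUnit.unit)
    (limit.π F.values (op (properOf hm θ)) ≫ eqToHom (F.diag_obj_eq hm θ).symm)
  compat m m' hm hm' φ θ := by
    obtain ⟨h₁, _⟩ := (FormalCoproduct.hom_ext_iff _ _).1 (F.compat m m' hm hm' φ θ)
    refine incl_hom_ext (congrFun h₁ PUnit.unit) ?_
    refine eq_of_heq ((comp_eqToHom_heq _ _).trans ?_)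
    have hle : properOf hm' (φ ≫ θ) ≤ properOf hm θ := by
      change imFace (φ ≫ θ) (topFace m') ≤ imFace θ (topFace m)
      rw [imFace_comp]
      exact imFace_mono θ (le_topFace _)
    change (limit.π F.values (op (properOf hm θ)) ≫ eqToHom (F.diag_obj_eq hm θ).symm) ≫
      (F.diag hm θ).map (homOfLE (le_topFace (imFace φ (topFace m')))).op ≍
      limit.π F.values (op (properOf hm' (φ ≫ θ))) ≫ eqToHom (F.diag_obj_eq hm' (φ ≫ θ)).symm
    refine HEq.trans ?_ (comp_eqToHom_heq _ _).symm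
    rw [← limit.w F.values (homOfLE hle).op, Category.assoc]
    refine heq_comp_of rfl rfl ?_ HEq.rfl ((eqToHom_comp_heq _ _).trans (F.map_le_heq hm hm' φ θ hle).symm)
    obtain ⟨s, hs⟩ := (properOf hm θ).factor θ le_rfl
    have hd := F.diag_comp (properOf hm θ).dim_le hm s (properOf hm θ).emb
    rw [hs] at hd
    rw [hd]
    exact F.diag_emb_obj (T' := properOf hm θ) (T := properOf hm' (φ ≫ θ)) _
      (by
        change imFace (properOf hm θ).emb (imFace s (imFace φ (topFace m'))) = (properOf hm' (φ ≫ θ)).1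
        rw [← imFace_comp, hs, ← imFace_comp]
        rfl)

theorem Family.universal_diag {m : ℕ} (hm : m ≤ n) (θ : SimplexCategory.mk m ⟶ SimplexCategory.mk (n + 1)) :
    F.universal.diag hm θ = F.diag hm θ := rfl

theorem Family.exists_to_universal {Y' : D} (F' : Family (free B) n (n + 1) Y')
    (hd : ∀ (m : ℕ) (hm : m ≤ n) (θ : SimplexCategory.mk m ⟶ SimplexCategory.mk (n + 1)),
      F'.diag hm θ = F.diag hm θ) :
    ∃ h : Y' ⟶ limit F.values, ∀ (m : ℕ) (hm : m ≤ n) (θ : SimplexCategory.mk m ⟶ SimplexCategory.mk (n + 1)),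
      (FormalCoproduct.incl D).map h ≫ F.universal.g m hm θ = F'.g m hm θ := by
  have hv : ∀ T : Proper (n + 1), F'.val T = F.val T := fun T => by rw [Family.val, hd]; rfl
  let c : Cone F.values :=
    { pt := Y'
      π :=
        { app := fun T => F'.proj T.unop ≫ eqToHom (hv T.unop)
          naturality := fun T T' f => by
            change 𝟙 Y' ≫ F'.proj T'.unop ≫ eqToHom (hv T'.unop) =
              (F'.proj T.unop ≫ eqToHom (hv T.unop)) ≫ F.trans (leOfHom f.unop)
            rw [Category.id_comp, ← F'.proj_trans (leOfHom f.unop), Category.assoc, Category.assoc]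
            congr 1
            refine eq_of_heq ((comp_eqToHom_heq _ _).trans ((eqToHom_comp_heq _ _).trans ?_).symm)
            refine (comp_eqToHom_heq _ _).trans (HEq.trans ?_ (comp_eqToHom_heq _ _).symm)
            exact CategoryTheory.Functor.hcongr_hom (hd _ T.unop.dim_le T.unop.emb).symm _ } }
  refine ⟨limit.lift _ c, fun m hm θ => ?_⟩
  refine incl_hom_ext (Subtype.ext (hd m hm θ).symm) ?_
  refine eq_of_heq ((comp_eqToHom_heq _ _).trans ?_)
  change limit.lift F.values c ≫ limit.π F.values (op (properOf hm θ)) ≫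
    eqToHom (F.diag_obj_eq hm θ).symm ≍ F'.str hm θ
  rw [limit.lift_π_assoc]
  exact (comp_eqToHom_heq _ _).trans ((comp_eqToHom_heq _ _).trans (F'.str_heq hm θ))

end Universal

section Finite

variable (B) (J : GrothendieckTopology D)

/-- A simplicial set of diagrams, finite in each degree. -/
structure Stage where
  /-- The diagrams. -/
  S : ∀ q : ℕ, Set (Diag B q)
  fin : ∀ q, (S q).Finite
  closed : ∀ {q q' : ℕ} (θ : SimplexCategory.mk q' ⟶ SimplexCategory.mk q) (F : Diag B q),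
    F ∈ S q → F.res θ ∈ S q'

variable {B}

/-- The simplicial set generated by some diagrams. -/
def genBy {m : ℕ} (G : Set (Diag B m)) (q : ℕ) : Set (Diag B q) :=
  {F | ∃ g ∈ G, ∃ θ : SimplexCategory.mk q ⟶ SimplexCategory.mk m, g.res θ = F}

/-- The stage generated by finitely many diagrams. -/
def Stage.gen {m : ℕ} (G : Set (Diag B m)) (hG : G.Finite) : Stage B where
  S := genBy G
  fin q := by
    haveI : Finite ↥G := hG.to_subtype
    refine (Set.finite_range fun p : ↥G × (SimplexCategory.mk q ⟶ SimplexCategory.mk m) =>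
      p.1.1.res p.2).subset ?_
    rintro F ⟨g, hg, θ, rfl⟩
    exact ⟨(⟨g, hg⟩, θ), rfl⟩
  closed φ F := by
    rintro ⟨g, hg, θ, rfl⟩
    exact ⟨g, hg, φ ≫ θ, (g.res_res φ θ).symm ▸ rfl⟩

theorem mem_genBy {m : ℕ} {G : Set (Diag B m)} {g : Diag B m} (hg : g ∈ G) : g ∈ genBy G m :=
  ⟨g, hg, 𝟙 _, g.res_id⟩

/-- The union of two stages. -/
def Stage.union (P Q : Stage B) : Stage B where
  S q := P.S q ∪ Q.S q
  fin q := (P.fin q).union (Q.fin q)
  closed θ F h := h.imp (P.closed θ F) (Q.closed θ F)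

/-- Every family with faces in `S` is filled locally by members of `G`. -/
def Fills (n : ℕ) (S : ∀ q, Set (Diag B q)) (G : Set (Diag B (n + 1))) : Prop :=
  ∀ (Y : D) (F : Family (free B) n (n + 1) Y),
    (∀ (m : ℕ) (hm : m ≤ n) (θ : SimplexCategory.mk m ⟶ SimplexCategory.mk (n + 1)),
      (F.g m hm θ).f PUnit.unit ∈ S m) →
    ∃ R ∈ J Y, ∀ {Z : D} (k : Z ⟶ Y), R k →
      ∃ a : (FormalCoproduct.incl D).obj Z ⟶ (free B).obj (op (SimplexCategory.mk (n + 1))),
        a.f PUnit.unit ∈ G ∧ ∀ (m : ℕ) (hm : m ≤ n) (θ : SimplexCategory.mk m ⟶ SimplexCategory.mk (n + 1)),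
          a ≫ (free B).map θ.op = (FormalCoproduct.incl D).map k ≫ F.g m hm θ

variable [HasFiniteLimits D]
  (hB : ∀ U : D, ∃ (ι : Type u) (_ : Finite ι) (V : ι → D) (f : ∀ i, V i ⟶ U),
    Sieve.ofArrows V f ∈ J U ∧ ∀ i, V i ∈ B)

include hB in
theorem exists_fills (n : ℕ) (P : Stage B) :
    ∃ G : Set (Diag B (n + 1)), G.Finite ∧
      (∀ g ∈ G, ∀ (m : ℕ) (_ : m ≤ n) (θ : SimplexCategory.mk m ⟶ SimplexCategory.mk (n + 1)),
        g.res θ ∈ P.S m) ∧ Fills J n P.S G := by
  classical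
  haveI : ∀ q, Finite ↥(P.S q) := fun q => (P.fin q).to_subtype
  let Shape := ∀ (m : Fin (n + 1)), (SimplexCategory.mk m.1 ⟶ SimplexCategory.mk (n + 1)) → ↥(P.S m.1)
  have key : ∀ s : Shape, ∃ G : Set (Diag B (n + 1)), G.Finite ∧
      (∀ g ∈ G, ∀ (m : ℕ) (_ : m ≤ n) (θ : SimplexCategory.mk m ⟶ SimplexCategory.mk (n + 1)),
        g.res θ ∈ P.S m) ∧
      ∀ (Y : D) (F : Family (free B) n (n + 1) Y),
        (∀ (m : ℕ) (hm : m ≤ n) (θ : SimplexCategory.mk m ⟶ SimplexCategory.mk (n + 1)),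
          (F.g m hm θ).f PUnit.unit = (s ⟨m, Nat.lt_succ_of_le hm⟩ θ).1) →
        ∃ R ∈ J Y, ∀ {Z : D} (k : Z ⟶ Y), R k →
          ∃ a : (FormalCoproduct.incl D).obj Z ⟶ (free B).obj (op (SimplexCategory.mk (n + 1))),
            a.f PUnit.unit ∈ G ∧ ∀ (m : ℕ) (hm : m ≤ n) (θ : SimplexCategory.mk m ⟶ SimplexCategory.mk (n + 1)),
              a ≫ (free B).map θ.op = (FormalCoproduct.incl D).map k ≫ F.g m hm θ := by
    intro s
    by_cases hs : ∃ (Y : D) (F : Family (free B) n (n + 1) Y),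
        ∀ (m : ℕ) (hm : m ≤ n) (θ : SimplexCategory.mk m ⟶ SimplexCategory.mk (n + 1)),
          (F.g m hm θ).f PUnit.unit = (s ⟨m, Nat.lt_succ_of_le hm⟩ θ).1
    swap
    · exact ⟨∅, Set.finite_empty, by simp, fun Y F hF => absurd ⟨Y, F, hF⟩ hs⟩
    obtain ⟨Y₀, F₀, hF₀⟩ := hs
    haveI : FinCategory (Proper (n + 1))ᵒᵖ :=
      { fintypeObj := Fintype.ofFinite _, fintypeHom := fun _ _ => Fintype.ofFinite _ }
    obtain ⟨ι, hι, V, f, hcov, hV⟩ := hB (limit F₀.values)
    choose a ha using fun i => exists_fill F₀.universal (f i) (hV i)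
    refine ⟨Set.range fun i => (a i).f PUnit.unit, Set.finite_range _, ?_, ?_⟩
    · rintro _ ⟨i, rfl⟩ m hm θ
      have e : ((a i).f PUnit.unit).res θ = (F₀.g m hm θ).f PUnit.unit :=
        congrFun ((FormalCoproduct.hom_ext_iff _ _).1 (ha i m hm θ)).fst PUnit.unit
      rw [e, hF₀]
      exact (s ⟨m, Nat.lt_succ_of_le hm⟩ θ).2
    · intro Y F hF
      obtain ⟨h, hh⟩ := F₀.exists_to_universal F fun m hm θ =>
        congrArg Subtype.val ((hF m hm θ).trans (hF₀ m hm θ).symm)
      refine ⟨_, J.pullback_stable h hcov, fun {Z} k hk => ?_⟩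
      obtain ⟨i, e, he⟩ := (Sieve.mem_ofArrows_iff _ _ _).1 hk
      refine ⟨(FormalCoproduct.incl D).map e ≫ a i, ⟨i, rfl⟩, fun m hm θ => ?_⟩
      rw [Category.assoc, ha, ← Category.assoc, ← Functor.map_comp, ← he, Functor.map_comp,
        Category.assoc, hh]
  choose G hG1 hG2 hG3 using key
  refine ⟨⋃ s, G s, Set.finite_iUnion hG1, ?_, ?_⟩
  · intro g hg
    obtain ⟨s, hs⟩ := Set.mem_iUnion.1 hg
    exact hG2 s g hs
  · intro Y F hF
    obtain ⟨R, hR, hR'⟩ := hG3 (fun m θ => ⟨_, hF m.1 (Nat.le_of_lt_succ m.2) θ⟩) Y F fun _ _ _ => rfl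
    refine ⟨R, hR, fun k hk => ?_⟩
    obtain ⟨a, ha, ha'⟩ := hR' k hk
    exact ⟨a, Set.mem_iUnion.2 ⟨_, ha⟩, ha'⟩

/-- The new diagrams in degree `n + 1`. -/
noncomputable def newGen (n : ℕ) (P : Stage B) : Set (Diag B (n + 1)) := (exists_fills J hB n P).choose

/-- The stages, starting from finitely many vertices. -/
noncomputable def stage (G₀ : Set (Diag B 0)) (h₀ : G₀.Finite) : ℕ → Stage B
  | 0 => Stage.gen G₀ h₀
  | n + 1 => (stage G₀ h₀ n).union
      (Stage.gen (newGen J hB n (stage G₀ h₀ n)) (exists_fills J hB n (stage G₀ h₀ n)).choose_spec.1)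

variable (G₀ : Set (Diag B 0)) (h₀ : G₀.Finite)

theorem stage_succ_eq {n q : ℕ} (hq : q ≤ n) :
    (stage J hB G₀ h₀ (n + 1)).S q = (stage J hB G₀ h₀ n).S q := by
  refine Set.union_eq_self_of_subset_right ?_
  rintro F ⟨g, hg, θ, rfl⟩
  obtain ⟨s, hs⟩ := (properOf hq θ).factor θ le_rfl
  rw [← hs, ← g.res_res]
  exact Stage.closed _ _ _ ((exists_fills J hB n _).choose_spec.2.1 g hg _ (properOf hq θ).dim_le _)

theorem stage_eq {n q : ℕ} (hq : q ≤ n) : (stage J hB G₀ h₀ n).S q = (stage J hB G₀ h₀ q).S q := by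
  induction n, hq using Nat.le_induction with
  | base => rfl
  | succ n hn ih => rw [stage_succ_eq J hB G₀ h₀ hn, ih]

/-- The diagrams of the finite hypercovering. -/
noncomputable def finSet (q : ℕ) : Set (Diag B q) := (stage J hB G₀ h₀ q).S q

theorem res_mem_finSet {q q' : ℕ} (θ : SimplexCategory.mk q' ⟶ SimplexCategory.mk q) {F : Diag B q}
    (h : F ∈ finSet J hB G₀ h₀ q) : F.res θ ∈ finSet J hB G₀ h₀ q' := by
  have h1 : F ∈ (stage J hB G₀ h₀ (max q q')).S q := by rwa [stage_eq J hB G₀ h₀ (le_max_left q q')]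
  have h2 := Stage.closed _ θ F h1
  rwa [stage_eq J hB G₀ h₀ (le_max_right q q')] at h2

/-- The finite hypercovering. -/
noncomputable def finFree : SimplicialObject (FormalCoproduct.{u} D) where
  obj m := ⟨↥(finSet J hB G₀ h₀ m.unop.len), fun F => F.1.1.obj (op (topFace _))⟩
  map θ := ⟨fun F => ⟨F.1.res θ.unop, res_mem_finSet J hB G₀ h₀ θ.unop F.2⟩, fun F => (freeMap B θ.unop).φ F.1⟩
  map_id m := by
    obtain ⟨h₁, h₂⟩ := (FormalCoproduct.hom_ext_iff _ _).1 ((free B).map_id m)
    exact FormalCoproduct.hom_ext (funext fun F => Subtype.ext (congrFun h₁ F.1)) fun F => h₂ F.1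
  map_comp {a b c} θ θ' := by
    obtain ⟨h₁, h₂⟩ := (FormalCoproduct.hom_ext_iff _ _).1 ((free B).map_comp θ θ')
    exact FormalCoproduct.hom_ext (funext fun F => Subtype.ext (congrFun h₁ F.1)) fun F => h₂ F.1

/-- The inclusion into all diagrams. -/
noncomputable def finFreeι : finFree J hB G₀ h₀ ⟶ free B where
  app m := ⟨fun F => F.1, fun _ => 𝟙 _⟩
  naturality {a b} θ := FormalCoproduct.hom_ext (funext fun _ => rfl) fun F => by simp [finFree, free]

theorem finFreeι_cancel {Y : D} {q : SimplexCategoryᵒᵖ}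
    {f g : (FormalCoproduct.incl D).obj Y ⟶ (finFree J hB G₀ h₀).obj q}
    (h : f ≫ (finFreeι J hB G₀ h₀).app q = g ≫ (finFreeι J hB G₀ h₀).app q) : f = g := by
  obtain ⟨h₁, h₂⟩ := (FormalCoproduct.hom_ext_iff _ _).1 h
  refine incl_hom_ext (Subtype.ext (congrFun h₁ PUnit.unit)) ?_
  simpa [finFreeι] using h₂ PUnit.unit

theorem cov_finFree [∀ (n : ℕ) (F : (SimplexCategory.Truncated n)ᵒᵖ ⥤ FormalCoproduct.{u} D),
      (SimplexCategory.Truncated.inclusion n).op.HasRightKanExtension F] (n : ℕ) :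
    Cov J (((SimplicialObject.coskAdj n).unit.app (finFree J hB G₀ h₀)).app
      (op (SimplexCategory.mk (n + 1)))) := by
  refine cov_unit J n (n + 1) fun Y F => ?_
  let F' : Family (free B) n (n + 1) Y :=
    { g := fun m hm θ => F.g m hm θ ≫ (finFreeι J hB G₀ h₀).app _
      compat := fun m m' hm hm' φ θ => by
        rw [Category.assoc, ← (finFreeι J hB G₀ h₀).naturality, ← Category.assoc, F.compat] }
  obtain ⟨R, hR, hR'⟩ := (exists_fills J hB n (stage J hB G₀ h₀ n)).choose_spec.2.2 Y F' fun m hm θ => by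
    rw [stage_eq J hB G₀ h₀ hm]
    exact ((F.g m hm θ).f PUnit.unit).2
  refine ⟨R, hR, fun {Z} k hk => ?_⟩
  obtain ⟨a, ha, ha'⟩ := hR' k hk
  refine ⟨FormalCoproduct.Hom.fromIncl (Y := (finFree J hB G₀ h₀).obj (op (SimplexCategory.mk (n + 1))))
    ⟨a.f PUnit.unit, Or.inr (mem_genBy ha)⟩ (a.φ PUnit.unit), fun m hm θ => finFreeι_cancel J hB G₀ h₀ ?_⟩
  rw [Category.assoc, (finFreeι J hB G₀ h₀).naturality, ← Category.assoc, Category.assoc _ (F.g m hm θ)]
  refine Eq.trans ?_ (ha' m hm θ)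
  congr 1
  exact incl_hom_ext rfl (by simp [finFreeι])

end Finite

end Groth.Agent.HyperLib
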