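import Groth.Agent.HyperLib.Refine
import Mathlib

/-!
# Homotopy equalizers of maps of simplicial formal coproducts

The level `q` of the homotopy equalizer of `a b : K ⟶ L` classifies a `q`-simplex of `K` together with a
map of the prism `Δ[q] × Δ[1]` to `L` with ends the two images.  Only finitely many simplices of the
prism are needed, so it is a finite limit.
-/

set_option autoImplicit false
set_option backward.isDefEq.respectTransparency false

universe u

open CategoryTheory CategoryTheory.Limits Opposite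

namespace Groth.Agent.HyperLib.Prism

/-- The `m`-simplices of the prism on `Δ[q]`. -/
abbrev Pr (q m : ℕ) : Type :=
  (SimplexCategory.mk m ⟶ SimplexCategory.mk q) × (SimplexCategory.mk m ⟶ SimplexCategory.mk 1)

/-- Restriction of simplices of the prism. -/
abbrev res {q m m' : ℕ} (θ : SimplexCategory.mk m' ⟶ SimplexCategory.mk m) (p : Pr q m) : Pr q m' :=
  (θ ≫ p.1, θ ≫ p.2)

theorem res_id {q m : ℕ} (p : Pr q m) : res (𝟙 _) p = p := by simp [res]

theorem res_res {q m m' m'' : ℕ} (θ' : SimplexCategory.mk m'' ⟶ SimplexCategory.mk m')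
    (θ : SimplexCategory.mk m' ⟶ SimplexCategory.mk m) (p : Pr q m) :
    res θ' (res θ p) = res (θ' ≫ θ) p := by simp [res]

/-- The sum of the two coordinates. -/
def chain {q m : ℕ} (p : Pr q m) : SimplexCategory.mk m ⟶ SimplexCategory.mk (q + 1) :=
  SimplexCategory.Hom.mk
    ⟨fun i => (⟨(p.1.toOrderHom i : Fin (q + 1)).val + (p.2.toOrderHom i : Fin 2).val, by
        have h1 := (p.1.toOrderHom i : Fin (q + 1)).isLt
        have h2 := (p.2.toOrderHom i : Fin 2).isLt
        simp only [SimplexCategory.len_mk] at *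
        omega⟩ : Fin (q + 2)),
      fun i j h => Nat.add_le_add (p.1.toOrderHom.monotone h) (p.2.toOrderHom.monotone h)⟩

theorem chain_res {q m m' : ℕ} (θ : SimplexCategory.mk m' ⟶ SimplexCategory.mk m) (p : Pr q m) :
    chain (res θ p) = θ ≫ chain p := rfl

theorem chain_inj {q m : ℕ} (p : Pr q m) {i j : Fin (m + 1)}
    (h : (chain p).toOrderHom i = (chain p).toOrderHom j) :
    p.1.toOrderHom i = p.1.toOrderHom j ∧ p.2.toOrderHom i = p.2.toOrderHom j := by
  wlog hij : i ≤ j generalizing i j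
  · exact ⟨(this h.symm (le_of_not_ge hij)).1.symm, (this h.symm (le_of_not_ge hij)).2.symm⟩
  have h1 : (p.1.toOrderHom i).val ≤ (p.1.toOrderHom j).val := p.1.toOrderHom.monotone hij
  have h2 : (p.2.toOrderHom i).val ≤ (p.2.toOrderHom j).val := p.2.toOrderHom.monotone hij
  have h3 : (p.1.toOrderHom i).val + (p.2.toOrderHom i).val =
      (p.1.toOrderHom j).val + (p.2.toOrderHom j).val := congrArg Fin.val h
  exact ⟨Fin.ext (by omega), Fin.ext (by omega)⟩

/-- The dimension of the nondegenerate simplex underlying a simplex of the prism. -/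
noncomputable def dim {q m : ℕ} (p : Pr q m) : ℕ := (image (chain p)).len

/-- The degeneracy. -/
noncomputable def deg {q m : ℕ} (p : Pr q m) : SimplexCategory.mk m ⟶ SimplexCategory.mk (dim p) :=
  factorThruImage (chain p)

/-- The face. -/
noncomputable def emb {q m : ℕ} (p : Pr q m) : SimplexCategory.mk (dim p) ⟶ SimplexCategory.mk (q + 1) :=
  image.ι (chain p)

instance {q m : ℕ} (p : Pr q m) : Epi (deg p) := inferInstanceAs (Epi (factorThruImage (chain p)))

instance {q m : ℕ} (p : Pr q m) : Mono (emb p) := inferInstanceAs (Mono (image.ι (chain p)))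

theorem deg_emb {q m : ℕ} (p : Pr q m) : deg p ≫ emb p = chain p := image.fac _

/-- A section of the degeneracy. -/
noncomputable def sec {q m : ℕ} (p : Pr q m) : SimplexCategory.mk (dim p) ⟶ SimplexCategory.mk m :=
  haveI := isSplitEpi_of_epi (deg p)
  section_ (deg p)

theorem sec_deg {q m : ℕ} (p : Pr q m) : sec p ≫ deg p = 𝟙 _ := by
  haveI := isSplitEpi_of_epi (deg p)
  exact IsSplitEpi.id (deg p)

theorem deg_sec_chain {q m : ℕ} (p : Pr q m) : deg p ≫ sec p ≫ chain p = chain p := by
  conv_lhs => rw [← deg_emb p, reassoc_of% (sec_deg p)]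
  exact deg_emb p

theorem res_deg_sec {q m : ℕ} (p : Pr q m) : res (deg p ≫ sec p) p = p := by
  have h : ∀ i, (chain p).toOrderHom ((deg p ≫ sec p).toOrderHom i) = (chain p).toOrderHom i := fun i =>
    DFunLike.congr_fun (congrArg SimplexCategory.Hom.toOrderHom
      (((Category.assoc _ _ _).trans (deg_sec_chain p)))) i
  refine Prod.ext ?_ ?_
  · exact SimplexCategory.Hom.ext _ _ (OrderHom.ext _ _ (funext fun i => (chain_inj p (h i)).1))
  · exact SimplexCategory.Hom.ext _ _ (OrderHom.ext _ _ (funext fun i => (chain_inj p (h i)).2))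

theorem dim_le {q m : ℕ} (p : Pr q m) : dim p ≤ q + 1 := SimplexCategory.len_le_of_mono (emb p)

theorem dim_le_self {q m : ℕ} (p : Pr q m) : dim p ≤ m := SimplexCategory.len_le_of_epi (deg p)

theorem dim_res_le {q m m' : ℕ} (θ : SimplexCategory.mk m' ⟶ SimplexCategory.mk m) (p : Pr q m) :
    dim (res θ p) ≤ dim p := by
  let F : MonoFactorisation (chain (res θ p)) :=
    { I := SimplexCategory.mk (dim p)
      m := emb p
      e := θ ≫ deg p
      fac := by rw [Category.assoc, deg_emb]; rfl }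
  haveI : Mono (image.lift F) := mono_of_mono_fac (image.lift_fac F)
  exact SimplexCategory.len_le_of_mono (image.lift F)

variable {D : Type u} [SmallCategory D] {K L : SimplicialObject (FormalCoproduct.{u} D)}

/-- A compatible family on the simplices of dimension at most `j` of the prism. -/
@[ext]
structure Part (L : SimplicialObject (FormalCoproduct.{u} D)) (A : FormalCoproduct.{u} D) (q j : ℕ) where
  /-- The values. -/
  g : ∀ (m : ℕ), m ≤ j → Pr q m → (A ⟶ L.obj (op (SimplexCategory.mk m)))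
  compat : ∀ (m m' : ℕ) (hm : m ≤ j) (hm' : m' ≤ j) (θ : SimplexCategory.mk m' ⟶ SimplexCategory.mk m)
    (p : Pr q m), g m hm p ≫ L.map θ.op = g m' hm' (res θ p)

theorem Part.canon {A : FormalCoproduct.{u} D} {q j : ℕ} (P : Part L A q j) {m k : ℕ} (hk : k ≤ j)
    (r : Pr q k) (e : SimplexCategory.mk m ⟶ SimplexCategory.mk k) (p : Pr q m) (hp : res e r = p)
    (hd : dim p ≤ j) :
    P.g k hk r ≫ L.map e.op = P.g (dim p) hd (res (sec p) p) ≫ L.map (deg p).op := by
  have hr : dim r ≤ j := le_trans (dim_le_self r) hk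
  let r₀ := res (sec r) r
  let e' := e ≫ deg r
  have h₀ : res (deg r) r₀ = r := by rw [res_res, res_deg_sec]
  have h₁ : P.g k hk r = P.g (dim r) hr r₀ ≫ L.map (deg r).op := by rw [P.compat _ k _ hk, h₀]
  have h₂ : res e' r₀ = p := by rw [← res_res, h₀, hp]
  have hc : chain r₀ = emb r := by
    rw [chain_res, ← deg_emb r, reassoc_of% (sec_deg r)]
  have h₃ : deg p ≫ sec p ≫ e' = e' := by
    rw [← cancel_mono (emb r), ← hc, Category.assoc, Category.assoc, ← chain_res, h₂]
    exact deg_sec_chain p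
  have h₄ : res (sec p ≫ e') r₀ = res (sec p) p := by rw [← res_res, h₂]
  rw [h₁, Category.assoc, ← L.map_comp, ← op_comp, ← h₄, ← P.compat (dim r) (dim p) hr hd, Category.assoc,
    ← L.map_comp, ← op_comp, h₃]

/-- The values on all simplices of the prism. -/
noncomputable def Part.all {A : FormalCoproduct.{u} D} {q : ℕ} (P : Part L A q (q + 1)) (m : ℕ) (p : Pr q m) :
    A ⟶ L.obj (op (SimplexCategory.mk m)) :=
  P.g (dim p) (dim_le p) (res (sec p) p) ≫ L.map (deg p).op

theorem Part.all_eq {A : FormalCoproduct.{u} D} {q : ℕ} (P : Part L A q (q + 1)) (m : ℕ) (hm : m ≤ q + 1)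
    (p : Pr q m) : P.all m p = P.g m hm p := by
  have h := P.canon hm p (𝟙 _) p (res_id p) (dim_le p)
  rw [op_id, L.map_id, Category.comp_id] at h
  exact h.symm

theorem Part.all_map {A : FormalCoproduct.{u} D} {q : ℕ} (P : Part L A q (q + 1)) {m m' : ℕ}
    (θ : SimplexCategory.mk m' ⟶ SimplexCategory.mk m) (p : Pr q m) :
    P.all m p ≫ L.map θ.op = P.all m' (res θ p) := by
  rw [Part.all, Category.assoc, ← L.map_comp, ← op_comp]
  refine P.canon (dim_le p) (res (sec p) p) (θ ≫ deg p) (res θ p) ?_ (dim_le _)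
  rw [← res_res, res_res (deg p), res_deg_sec]

/-- The two maps, indexed by the vertices of the interval. -/
def side (a b : K ⟶ L) (i : Fin 2) : K ⟶ L := if i = 0 then a else b

/-- A simplex of the homotopy equalizer with values in `A`. -/
@[ext]
structure Pt (a b : K ⟶ L) (A : FormalCoproduct.{u} D) (q : ℕ) where
  /-- The simplex. -/
  x : A ⟶ K.obj (op (SimplexCategory.mk q))
  /-- The prism. -/
  P : Part L A q (q + 1)
  hend : ∀ (m : ℕ) (hm : m ≤ q + 1) (φ : SimplexCategory.mk m ⟶ SimplexCategory.mk q) (i : Fin 2),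
    P.g m hm (φ, SimplexCategory.const _ _ i) = x ≫ K.map φ.op ≫ (side a b i).app _

variable {a b : K ⟶ L}

theorem Pt.all_end {A : FormalCoproduct.{u} D} {q : ℕ} (T : Pt a b A q) (m : ℕ)
    (φ : SimplexCategory.mk m ⟶ SimplexCategory.mk q) (i : Fin 2) :
    T.P.all m (φ, SimplexCategory.const _ _ i) = T.x ≫ K.map φ.op ≫ (side a b i).app _ := by
  let p : Pr q m := (φ, SimplexCategory.const _ _ i)
  change T.P.g (dim p) (dim_le p) (res (sec p) p) ≫ L.map (deg p).op = _
  have e : sec p ≫ SimplexCategory.const (SimplexCategory.mk m) (SimplexCategory.mk 1) i =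
      SimplexCategory.const _ _ i :=
    SimplexCategory.Hom.ext _ _ (OrderHom.ext _ _ rfl)
  have e' : deg p ≫ sec p ≫ φ = φ :=
    (Category.assoc _ _ _).symm.trans (congrArg Prod.fst (res_deg_sec p))
  simp only [res, p, e]
  rw [T.hend, Category.assoc, Category.assoc, ← (side a b i).naturality, ← Category.assoc (K.map _) (K.map _),
    ← K.map_comp, ← op_comp, e']

variable (a b) [HasFiniteLimits (FormalCoproduct.{u} D)]

/-- The simplices of the prism that determine a map. -/
abbrev Idx (q : ℕ) : Type := Σ m : Fin (q + 2), Pr q m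

/-- The conditions on their values. -/
abbrev Rel (q : ℕ) : Type :=
  (Σ i : Idx q, Σ m' : Fin (q + 2), (SimplexCategory.mk (m' : ℕ) ⟶ SimplexCategory.mk (i.1 : ℕ))) ⊕
    (Σ m : Fin (q + 2), (SimplexCategory.mk (m : ℕ) ⟶ SimplexCategory.mk q) × Fin 2)

/-- The codomain of a condition. -/
abbrev tgt (L : SimplicialObject (FormalCoproduct.{u} D)) {q : ℕ} (r : Rel q) : FormalCoproduct.{u} D :=
  Sum.elim (fun r => L.obj (op (SimplexCategory.mk (r.2.1 : ℕ))))
    (fun r => L.obj (op (SimplexCategory.mk (r.1 : ℕ)))) r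

/-- The values on the simplices of the prism. -/
noncomputable abbrev amb (K L : SimplicialObject (FormalCoproduct.{u} D)) (q : ℕ) : FormalCoproduct.{u} D :=
  K.obj (op (SimplexCategory.mk q)) ⨯ ∏ᶜ fun i : Idx q => L.obj (op (SimplexCategory.mk (i.1 : ℕ)))

/-- The value on a simplex. -/
noncomputable abbrev ev (K L : SimplicialObject (FormalCoproduct.{u} D)) {q : ℕ} (i : Idx q) :
    amb K L q ⟶ L.obj (op (SimplexCategory.mk (i.1 : ℕ))) :=
  prod.snd ≫ Pi.π (fun i : Idx q => L.obj (op (SimplexCategory.mk (i.1 : ℕ)))) i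

/-- The left hand sides of the conditions. -/
noncomputable def lhs (K L : SimplicialObject (FormalCoproduct.{u} D)) (q : ℕ) :
    amb K L q ⟶ ∏ᶜ fun r : Rel q => tgt L r :=
  Pi.lift fun r => match r with
    | .inl ⟨i, _, θ⟩ => ev K L i ≫ L.map θ.op
    | .inr ⟨m, φ, i⟩ => ev K L ⟨m, φ, SimplexCategory.const _ _ i⟩

/-- The right hand sides of the conditions. -/
noncomputable def rhs (q : ℕ) : amb K L q ⟶ ∏ᶜ fun r : Rel q => tgt L r :=
  Pi.lift fun r => match r with
    | .inl ⟨i, m', θ⟩ => ev K L ⟨m', res θ i.2⟩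
    | .inr ⟨_, φ, i⟩ => prod.fst ≫ K.map φ.op ≫ (side a b i).app _

theorem lhs_inl (K L : SimplicialObject (FormalCoproduct.{u} D)) (q : ℕ) (i : Idx q) (m' : Fin (q + 2))
    (θ : SimplexCategory.mk (m' : ℕ) ⟶ SimplexCategory.mk (i.1 : ℕ)) :
    lhs K L q ≫ Pi.π (fun r : Rel q => tgt L r) (.inl ⟨i, m', θ⟩) = ev K L i ≫ L.map θ.op :=
  Pi.lift_π _ _

theorem rhs_inl (q : ℕ) (i : Idx q) (m' : Fin (q + 2))
    (θ : SimplexCategory.mk (m' : ℕ) ⟶ SimplexCategory.mk (i.1 : ℕ)) :
    rhs a b q ≫ Pi.π (fun r : Rel q => tgt L r) (.inl ⟨i, m', θ⟩) = ev K L ⟨m', res θ i.2⟩ :=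
  Pi.lift_π _ _

theorem lhs_inr (K L : SimplicialObject (FormalCoproduct.{u} D)) (q : ℕ) (m : Fin (q + 2))
    (φ : SimplexCategory.mk (m : ℕ) ⟶ SimplexCategory.mk q) (i : Fin 2) :
    lhs K L q ≫ Pi.π (fun r : Rel q => tgt L r) (.inr ⟨m, φ, i⟩) =
      ev K L (⟨m, φ, SimplexCategory.const _ _ i⟩ : Idx q) :=
  Pi.lift_π _ _

theorem rhs_inr (q : ℕ) (m : Fin (q + 2)) (φ : SimplexCategory.mk (m : ℕ) ⟶ SimplexCategory.mk q) (i : Fin 2) :
    rhs a b q ≫ Pi.π (fun r : Rel q => tgt L r) (.inr ⟨m, φ, i⟩) =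
      prod.fst ≫ K.map φ.op ≫ (side a b i).app _ :=
  Pi.lift_π _ _

/-- A level of the homotopy equalizer. -/
noncomputable def lvl (q : ℕ) : FormalCoproduct.{u} D := equalizer (lhs K L q) (rhs a b q)

/-- The universal simplex. -/
noncomputable def univ (q : ℕ) : Pt a b (lvl a b q) q where
  x := equalizer.ι _ _ ≫ prod.fst
  P :=
    { g := fun m hm p => equalizer.ι _ _ ≫ ev K L (⟨⟨m, by omega⟩, p⟩ : Idx q)
      compat := fun m m' hm hm' θ p => by
        have h := equalizer.condition (lhs K L q) (rhs a b q) =≫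
          Pi.π (fun r : Rel q => tgt L r) (.inl ⟨⟨⟨m, by omega⟩, p⟩, ⟨m', by omega⟩, θ⟩)
        rw [Category.assoc, Category.assoc, lhs_inl, rhs_inl] at h
        rw [Category.assoc]
        exact h }
  hend := fun m hm φ i => by
    have h := equalizer.condition (lhs K L q) (rhs a b q) =≫
      Pi.π (fun r : Rel q => tgt L r) (.inr ⟨⟨m, by omega⟩, φ, i⟩)
    rw [Category.assoc, Category.assoc, lhs_inr, rhs_inr] at h
    rw [Category.assoc]
    exact h

variable {a b}

/-- The map to a level given by a simplex. -/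
noncomputable def Pt.lift {A : FormalCoproduct.{u} D} {q : ℕ} (T : Pt a b A q) : A ⟶ lvl a b q :=
  equalizer.lift (prod.lift T.x (Pi.lift fun i : Idx q => T.P.g i.1 (Nat.le_of_lt_succ i.1.isLt) i.2)) (by
    refine Pi.hom_ext _ _ fun r => ?_
    have e : ∀ j : Idx q, prod.lift T.x (Pi.lift fun i : Idx q =>
        T.P.g i.1 (Nat.le_of_lt_succ i.1.isLt) i.2) ≫ ev K L j = T.P.g j.1 (Nat.le_of_lt_succ j.1.isLt) j.2 :=
      fun j => by simp [ev]
    rw [Category.assoc, Category.assoc]
    rcases r with ⟨i, m', θ⟩ | ⟨m, φ, i⟩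
    · rw [lhs_inl, rhs_inl]
      change prod.lift _ _ ≫ ev K L i ≫ L.map θ.op =
        prod.lift _ _ ≫ ev K L (⟨m', res θ i.2⟩ : Idx q)
      refine ((Category.assoc _ _ _).symm.trans (congrArg (· ≫ L.map θ.op) (e i))).trans ?_
      exact (T.P.compat _ _ _ _ _ _).trans (e ⟨m', res θ i.2⟩).symm
    · rw [lhs_inr, rhs_inr]
      change prod.lift _ _ ≫ ev K L (⟨m, φ, SimplexCategory.const _ _ i⟩ : Idx q) =
        prod.lift _ _ ≫ prod.fst ≫ K.map φ.op ≫ (side a b i).app _
      rw [e, prod.lift_fst_assoc]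
      exact T.hend _ _ _ _)

theorem Pt.lift_x {A : FormalCoproduct.{u} D} {q : ℕ} (T : Pt a b A q) :
    T.lift ≫ (univ a b q).x = T.x := by
  simp [Pt.lift, univ]

theorem Pt.lift_g {A : FormalCoproduct.{u} D} {q : ℕ} (T : Pt a b A q) (m : ℕ) (hm : m ≤ q + 1)
    (p : Pr q m) : T.lift ≫ (univ a b q).P.g m hm p = T.P.g m hm p := by
  simp [Pt.lift, univ, ev]

theorem Pt.lift_all {A : FormalCoproduct.{u} D} {q : ℕ} (T : Pt a b A q) (m : ℕ) (p : Pr q m) :
    T.lift ≫ (univ a b q).P.all m p = T.P.all m p := by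
  rw [Part.all, Part.all, ← Category.assoc, T.lift_g]

theorem lvl_hom_ext {A : FormalCoproduct.{u} D} {q : ℕ} {f f' : A ⟶ lvl a b q}
    (hx : f ≫ (univ a b q).x = f' ≫ (univ a b q).x)
    (hg : ∀ (m : ℕ) (hm : m ≤ q + 1) (p : Pr q m),
      f ≫ (univ a b q).P.g m hm p = f' ≫ (univ a b q).P.g m hm p) : f = f' := by
  refine equalizer.hom_ext (prod.hom_ext ?_ (Pi.hom_ext _ _ fun i => ?_))
  · simpa [univ] using hx
  · have h := hg (i.1 : ℕ) (Nat.le_of_lt_succ i.1.isLt) i.2
    simpa [univ, ev] using h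

variable (a b)

/-- The universal simplex pulled back along a map of `SimplexCategory`. -/
noncomputable def pull {p q : ℕ} (θ : SimplexCategory.mk p ⟶ SimplexCategory.mk q) : Pt a b (lvl a b q) p where
  x := (univ a b q).x ≫ K.map θ.op
  P :=
    { g := fun m _ r => (univ a b q).P.all m (r.1 ≫ θ, r.2)
      compat := fun m m' _ _ ψ r => by
        rw [Part.all_map]
        simp [res] }
  hend := fun m _ φ i => by
    change (univ a b q).P.all m (φ ≫ θ, SimplexCategory.const _ _ i) = _
    rw [(univ a b q).all_end, op_comp, K.map_comp]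
    simp only [Category.assoc]

/-- Simplicial structure maps of the homotopy equalizer. -/
noncomputable def lvlMap {p q : ℕ} (θ : SimplexCategory.mk p ⟶ SimplexCategory.mk q) :
    lvl a b q ⟶ lvl a b p :=
  (pull a b θ).lift

theorem lvlMap_x {p q : ℕ} (θ : SimplexCategory.mk p ⟶ SimplexCategory.mk q) :
    lvlMap a b θ ≫ (univ a b p).x = (univ a b q).x ≫ K.map θ.op :=
  Pt.lift_x _

theorem lvlMap_all {p q : ℕ} (θ : SimplexCategory.mk p ⟶ SimplexCategory.mk q) (m : ℕ) (r : Pr p m) :
    lvlMap a b θ ≫ (univ a b p).P.all m r = (univ a b q).P.all m (r.1 ≫ θ, r.2) := by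
  rw [lvlMap, Pt.lift_all]
  change (univ a b q).P.all (dim r) _ ≫ L.map (deg r).op = _
  rw [Part.all_map]
  have e := res_deg_sec r
  simp only [res, ← Category.assoc] at e ⊢
  rw [show (deg r ≫ sec r) ≫ r.1 = r.1 from congrArg Prod.fst e,
    show (deg r ≫ sec r) ≫ r.2 = r.2 from congrArg Prod.snd e]

/-- The homotopy equalizer. -/
noncomputable def eqz : SimplicialObject (FormalCoproduct.{u} D) where
  obj x := lvl a b x.unop.len
  map θ := lvlMap a b θ.unop
  map_id x := by
    refine lvl_hom_ext ?_ fun m hm r => ?_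
    · erw [lvlMap_x, Category.id_comp, op_id, K.map_id, Category.comp_id]
    · erw [← Part.all_eq _ m hm, lvlMap_all, Category.id_comp, Category.comp_id]
  map_comp {x y z} θ θ' := by
    refine lvl_hom_ext ?_ fun m hm r => ?_
    · rw [Category.assoc]
      erw [lvlMap_x, lvlMap_x, reassoc_of% (lvlMap_x a b θ.unop)]
      rw [← K.map_comp, ← op_comp]
      rfl
    · rw [← Part.all_eq _ m hm, Category.assoc]
      erw [lvlMap_all, lvlMap_all, lvlMap_all]
      simp

/-- The projection of the homotopy equalizer. -/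
noncomputable def proj : eqz a b ⟶ K where
  app x := (univ a b x.unop.len).x
  naturality x y θ := lvlMap_x a b θ.unop

/-- The `i`-th cut of `[n+1]`. -/
def cut {n : ℕ} (i : Fin (n + 1)) : SimplexCategory.mk (n + 1) ⟶ SimplexCategory.mk 1 :=
  SimplexCategory.Hom.mk ⟨fun l => if l.val ≤ i.val then (0 : Fin 2) else 1, fun l l' h => by
    have : l.val ≤ l'.val := h
    simp only
    split_ifs <;> first | exact le_rfl | exact Fin.zero_le _ | omega⟩

theorem cut_apply {n : ℕ} (i : Fin (n + 1)) (l : Fin (n + 2)) :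
    (((cut i).toOrderHom l : Fin 2) : ℕ) = if l.val ≤ i.val then 0 else 1 := by
  change ((if l.val ≤ i.val then (0 : Fin 2) else 1 : Fin 2) : ℕ) = _
  split_ifs <;> rfl

theorem comp_cut_eq {k n : ℕ} (θ : SimplexCategory.mk (k + 1) ⟶ SimplexCategory.mk (n + 1)) (j : Fin (n + 1))
    (j' : Fin (k + 1))
    (h : ∀ l : Fin (k + 2), ((θ.toOrderHom l : Fin (n + 2)) : ℕ) ≤ j.val ↔ l.val ≤ j'.val) :
    θ ≫ cut j = cut j' := by
  refine SimplexCategory.Hom.ext _ _ (OrderHom.ext _ _ (funext fun l => Fin.ext ?_))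
  change (((cut j).toOrderHom (θ.toOrderHom l) : Fin 2) : ℕ) = ((cut j').toOrderHom l : Fin 2).val
  rw [cut_apply, cut_apply]
  exact if_congr (h l) rfl rfl

theorem val_δ {n : ℕ} (i : Fin (n + 2)) (l : Fin (n + 1)) :
    (((SimplexCategory.δ i).toOrderHom l : Fin (n + 2)) : ℕ) = if l.val < i.val then l.val else l.val + 1 := by
  change (Fin.succAbove i l).val = _
  rw [Fin.succAbove]
  split_ifs <;> simp only [Fin.lt_def, Fin.val_castSucc, Fin.val_succ, Fin.coe_castPred, Fin.val_pred] at * <;> omega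

theorem val_σ {n : ℕ} (i : Fin (n + 1)) (l : Fin (n + 2)) :
    (((SimplexCategory.σ i).toOrderHom l : Fin (n + 1)) : ℕ) = if i.val < l.val then l.val - 1 else l.val := by
  change (Fin.predAbove i l).val = _
  by_cases h : i.val < l.val
  · rw [if_pos h, Fin.predAbove_of_castSucc_lt i l (by simpa [Fin.lt_def] using h)]
    rfl
  · rw [if_neg h, Fin.predAbove_of_le_castSucc i l (by simp [Fin.le_def]; omega)]
    rfl

/-- The tautological homotopy on the homotopy equalizer. -/
noncomputable def htpy : SimplicialObject.Homotopy (proj a b ≫ a) (proj a b ≫ b) where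
  h {n} i := (univ a b n).P.all (n + 1) (SimplexCategory.σ i, cut i)
  h_zero_comp_δ_zero n := by
    refine ((univ a b n).P.all_map (SimplexCategory.δ (0 : Fin (n + 2))) _).trans ?_
    have e₁ : SimplexCategory.δ (0 : Fin (n + 2)) ≫ SimplexCategory.σ 0 = 𝟙 _ :=
      SimplexCategory.δ_comp_σ_self' (by simp)
    have e₂ : SimplexCategory.δ (0 : Fin (n + 2)) ≫ cut (0 : Fin (n + 1)) = SimplexCategory.const _ _ (1 : Fin 2) := by
      refine SimplexCategory.Hom.ext _ _ (OrderHom.ext _ _ (funext fun l => Fin.ext ?_))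
      change (((cut (0 : Fin (n + 1))).toOrderHom ((SimplexCategory.δ (0 : Fin (n + 2))).toOrderHom l) : Fin 2) : ℕ) = 1
      rw [cut_apply, val_δ]
      simp
    rw [res, e₁, e₂, Pt.all_end, op_id, K.map_id, Category.id_comp]
    rfl
  h_last_comp_δ_last n := by
    refine ((univ a b n).P.all_map (SimplexCategory.δ (Fin.last (n + 1))) _).trans ?_
    have e₁ : SimplexCategory.δ (Fin.last (n + 1)) ≫ SimplexCategory.σ (Fin.last n) = 𝟙 _ :=
      SimplexCategory.δ_comp_σ_succ' (by simp)
    have e₂ : SimplexCategory.δ (Fin.last (n + 1)) ≫ cut (Fin.last n) = SimplexCategory.const _ _ (0 : Fin 2) := by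
      refine SimplexCategory.Hom.ext _ _ (OrderHom.ext _ _ (funext fun l => Fin.ext ?_))
      change (((cut (Fin.last n)).toOrderHom ((SimplexCategory.δ (Fin.last (n + 1))).toOrderHom l) : Fin 2) : ℕ) = 0
      rw [cut_apply, val_δ]
      have := (l : Fin (n + 1)).isLt
      split_ifs <;> simp at * <;> omega
    rw [res, e₁, e₂, Pt.all_end, op_id, K.map_id, Category.id_comp]
    rfl
  h_succ_comp_δ_castSucc_of_lt {n} i j hij := by
    refine ((univ a b (n + 1)).P.all_map (SimplexCategory.δ i.castSucc) _).trans ?_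
    refine Eq.trans ?_ (lvlMap_all a b (SimplexCategory.δ i) _ _).symm
    have e₂ : SimplexCategory.δ i.castSucc ≫ cut j.succ = cut j := comp_cut_eq _ _ _ fun l => by
      have h : i.val ≤ j.val := hij
      rw [val_δ]
      simp only [Fin.val_castSucc, Fin.val_succ]
      split_ifs <;> omega
    rw [res, SimplexCategory.δ_comp_σ_of_le hij, e₂]
  h_succ_comp_δ_castSucc_succ {n} j := by
    refine ((univ a b (n + 1)).P.all_map (SimplexCategory.δ j.castSucc.succ) _).trans ?_
    refine Eq.trans ?_ ((univ a b (n + 1)).P.all_map (SimplexCategory.δ j.castSucc.succ) _).symm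
    have e₁ : SimplexCategory.δ j.castSucc.succ ≫ SimplexCategory.σ j.succ =
        SimplexCategory.δ j.castSucc.succ ≫ SimplexCategory.σ j.castSucc := by
      rw [SimplexCategory.δ_comp_σ_self' (by ext; simp), SimplexCategory.δ_comp_σ_succ]
    have e₂ : SimplexCategory.δ j.castSucc.succ ≫ cut j.succ =
        SimplexCategory.δ j.castSucc.succ ≫ cut j.castSucc := by
      refine SimplexCategory.Hom.ext _ _ (OrderHom.ext _ _ (funext fun l => Fin.ext ?_))
      change (((cut j.succ).toOrderHom ((SimplexCategory.δ j.castSucc.succ).toOrderHom l) : Fin 2) : ℕ) =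
        ((cut j.castSucc).toOrderHom ((SimplexCategory.δ j.castSucc.succ).toOrderHom l) : Fin 2).val
      rw [cut_apply, cut_apply, val_δ]
      simp only [Fin.val_castSucc, Fin.val_succ]
      split_ifs <;> omega
    rw [res, res, e₁, e₂]
  h_castSucc_comp_δ_succ_of_lt {n} i j hji := by
    refine ((univ a b (n + 1)).P.all_map (SimplexCategory.δ i.succ) _).trans ?_
    refine Eq.trans ?_ (lvlMap_all a b (SimplexCategory.δ i) _ _).symm
    have e₂ : SimplexCategory.δ i.succ ≫ cut j.castSucc = cut j := comp_cut_eq _ _ _ fun l => by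
      have h : j.val < i.val := hji
      rw [val_δ]
      simp only [Fin.val_castSucc, Fin.val_succ]
      split_ifs <;> omega
    rw [res, SimplexCategory.δ_comp_σ_of_gt hji, e₂]
  h_comp_σ_castSucc_of_le {n} i j hij := by
    refine ((univ a b n).P.all_map (SimplexCategory.σ i.castSucc) _).trans ?_
    refine Eq.trans ?_ (lvlMap_all a b (SimplexCategory.σ i) _ _).symm
    have e₂ : SimplexCategory.σ i.castSucc ≫ cut j = cut j.succ := comp_cut_eq _ _ _ fun l => by
      have h : i.val ≤ j.val := hij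
      rw [val_σ]
      simp only [Fin.val_castSucc, Fin.val_succ]
      split_ifs <;> omega
    rw [res, SimplexCategory.σ_comp_σ hij, e₂]
  h_comp_σ_succ_of_lt {n} i j hji := by
    refine ((univ a b n).P.all_map (SimplexCategory.σ i.succ) _).trans ?_
    refine Eq.trans ?_ (lvlMap_all a b (SimplexCategory.σ i) _ _).symm
    have e₂ : SimplexCategory.σ i.succ ≫ cut j = cut j.castSucc := comp_cut_eq _ _ _ fun l => by
      have h : j.val ≤ i.val := hji
      rw [val_σ]
      simp only [Fin.val_castSucc, Fin.val_succ]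
      split_ifs <;> omega
    rw [res, ← SimplexCategory.σ_comp_σ hji, e₂]

end Groth.Agent.HyperLib.Prism
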