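import Groth.Agent.HyperLib.Prism

/-!
# The homotopy equalizer is a hypercovering
-/

set_option autoImplicit false
set_option backward.isDefEq.respectTransparency false

universe u

open CategoryTheory CategoryTheory.Limits Opposite

namespace Groth.Agent.HyperLib.Prism

variable {D : Type u} [SmallCategory D] {K L : SimplicialObject (FormalCoproduct.{u} D)}
  {a b : K ⟶ L} [HasFiniteLimits (FormalCoproduct.{u} D)] {J : GrothendieckTopology D}

instance {q m : ℕ} : Finite (Pr q m) := inferInstanceAs (Finite (_ × _))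

/-- Finitely many local properties hold simultaneously locally. -/
theorem covering_inter {ι : Type*} [Finite ι] {Y : D} {S : ι → Sieve Y} (h : ∀ i, S i ∈ J Y) :
    ∃ T ∈ J Y, ∀ i, T ≤ S i := by
  classical
  have aux : ∀ s : Finset ι, ∃ T ∈ J Y, ∀ i ∈ s, T ≤ S i := by
    intro s
    induction s using Finset.induction_on with
    | empty => exact ⟨⊤, J.top_mem _, fun i hi => absurd hi (Finset.notMem_empty i)⟩
    | @insert j s _ ih =>
      obtain ⟨T, hT, h'⟩ := ih
      refine ⟨T ⊓ S j, J.intersection_covering hT (h j), fun i hi => ?_⟩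
      rcases Finset.mem_insert.1 hi with rfl | hi
      · exact inf_le_right
      · exact inf_le_left.trans (h' i hi)
  haveI := Fintype.ofFinite ι
  obtain ⟨T, hT, h'⟩ := aux Finset.univ
  exact ⟨T, hT, fun i => h' i (Finset.mem_univ i)⟩

variable {n : ℕ} {Z : D} (F : Family (eqz a b) n (n + 1) Z)
  (x : (FormalCoproduct.incl D).obj Z ⟶ K.obj (op (SimplexCategory.mk (n + 1))))

/-- The prescribed values on the prism over `Δ[n+1]`: the two ends and the faces. -/
def W (m : ℕ) (p : Pr (n + 1) m)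
    (v : (FormalCoproduct.incl D).obj Z ⟶ L.obj (op (SimplexCategory.mk m))) : Prop :=
  (∃ i : Fin 2, p.2 = SimplexCategory.const _ _ i ∧ v = x ≫ K.map p.1.op ≫ (side a b i).app _) ∨
  (∃ (k : ℕ) (hk : k ≤ n) (η : SimplexCategory.mk k ⟶ SimplexCategory.mk (n + 1))
      (s : SimplexCategory.mk m ⟶ SimplexCategory.mk k), s ≫ η = p.1 ∧
    v = F.g k hk η ≫ (univ a b k).P.all m (s, p.2))

theorem W_res {m m' : ℕ} (θ : SimplexCategory.mk m' ⟶ SimplexCategory.mk m) (p : Pr (n + 1) m)
    {v : (FormalCoproduct.incl D).obj Z ⟶ L.obj (op (SimplexCategory.mk m))} (h : W F x m p v) :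
    W F x m' (res θ p) (v ≫ L.map θ.op) := by
  rcases h with ⟨i, hi, rfl⟩ | ⟨k, hk, η, s, hs, rfl⟩
  · refine Or.inl ⟨i, ?_, ?_⟩
    · change θ ≫ p.2 = _
      rw [hi]
      exact SimplexCategory.Hom.ext _ _ (OrderHom.ext _ _ rfl)
    · rw [Category.assoc, Category.assoc, ← (side a b i).naturality, ← Category.assoc (K.map _) (K.map _),
        ← K.map_comp, ← op_comp]
  · refine Or.inr ⟨k, hk, η, θ ≫ s, ?_, ?_⟩
    · rw [Category.assoc, hs]
    · rw [Category.assoc, Part.all_map]

theorem W_end_face (hx : ∀ (m : ℕ) (hm : m ≤ n) (θ : SimplexCategory.mk m ⟶ SimplexCategory.mk (n + 1)),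
      x ≫ K.map θ.op = F.g m hm θ ≫ (univ a b m).x)
    {m k : ℕ} (hk : k ≤ n) (η : SimplexCategory.mk k ⟶ SimplexCategory.mk (n + 1))
    (s : SimplexCategory.mk m ⟶ SimplexCategory.mk k) (i : Fin 2) :
    F.g k hk η ≫ (univ a b k).P.all m (s, SimplexCategory.const _ _ i) =
      x ≫ K.map (s ≫ η).op ≫ (side a b i).app _ := by
  rw [Pt.all_end, ← Category.assoc (F.g k hk η), ← hx k hk η, Category.assoc, op_comp, K.map_comp,
    Category.assoc]

theorem face_eq {m k : ℕ} (hk : k ≤ n) (η : SimplexCategory.mk k ⟶ SimplexCategory.mk (n + 1))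
    (s : SimplexCategory.mk m ⟶ SimplexCategory.mk k) (φ : SimplexCategory.mk m ⟶ SimplexCategory.mk (n + 1))
    (hs : s ≫ η = φ) (ψ : SimplexCategory.mk m ⟶ SimplexCategory.mk 1)
    (hφ : (imFace φ (topFace m)).1 ≠ Finset.univ) :
    F.g k hk η ≫ (univ a b k).P.all m (s, ψ) =
      F.g (Proper.ofMap φ hφ).dim (Proper.ofMap φ hφ).dim_le (Proper.ofMap φ hφ).emb ≫
        (univ a b _).P.all m (((Proper.ofMap φ hφ).factor φ le_rfl).choose, ψ) := by
  let T₁ := Proper.ofMap φ hφ
  let T₂ : Proper (n + 1) := Proper.ofMap η (proper_imFace (by omega) η _)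
  have hle : imFace T₁.emb (topFace _) ≤ imFace η (topFace k) := by
    rw [T₁.imFace_emb]
    change imFace φ (topFace m) ≤ _
    rw [← hs, imFace_comp]
    exact imFace_mono η (le_topFace _)
  obtain ⟨r₁, hr₁⟩ := T₂.factor T₁.emb hle
  obtain ⟨r₂, hr₂⟩ := T₂.factor η le_rfl
  have hs₁ := ((Proper.ofMap φ hφ).factor φ le_rfl).choose_spec
  have e : ((Proper.ofMap φ hφ).factor φ le_rfl).choose ≫ r₁ = s ≫ r₂ :=
    T₂.emb_cancel _ _ (by rw [Category.assoc, hr₁, hs₁, Category.assoc, hr₂, hs])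
  have key : ∀ {i j : ℕ} (hi : i ≤ n) (hj : j ≤ n) (r : SimplexCategory.mk j ⟶ SimplexCategory.mk i)
      (y : SimplexCategory.mk i ⟶ SimplexCategory.mk (n + 1)) (w : SimplexCategory.mk m ⟶ SimplexCategory.mk j),
      F.g j hj (r ≫ y) ≫ (univ a b j).P.all m (w, ψ) = F.g i hi y ≫ (univ a b i).P.all m (w ≫ r, ψ) := by
    intro i j hi hj r y w
    rw [← F.compat i j hi hj r y, Category.assoc]
    exact congrArg (F.g i hi y ≫ ·) (lvlMap_all a b r m (w, ψ))
  have k₂ := key T₂.dim_le hk r₂ T₂.emb s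
  rw [hr₂] at k₂
  have k₁ := key T₂.dim_le T₁.dim_le r₁ T₂.emb ((Proper.ofMap φ hφ).factor φ le_rfl).choose
  rw [hr₁, e] at k₁
  exact k₂.trans k₁.symm

theorem W_unique (hx : ∀ (m : ℕ) (hm : m ≤ n) (θ : SimplexCategory.mk m ⟶ SimplexCategory.mk (n + 1)),
      x ≫ K.map θ.op = F.g m hm θ ≫ (univ a b m).x)
    {m : ℕ} (p : Pr (n + 1) m) {v v' : (FormalCoproduct.incl D).obj Z ⟶ L.obj (op (SimplexCategory.mk m))}
    (h : W F x m p v) (h' : W F x m p v') : v = v' := by
  rcases h with ⟨i, hi, rfl⟩ | ⟨k, hk, η, s, hs, rfl⟩ <;>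
    rcases h' with ⟨i', hi', rfl⟩ | ⟨k', hk', η', s', hs', rfl⟩
  · have e : i = i' := by
      rw [hi] at hi'
      exact DFunLike.congr_fun (congrArg SimplexCategory.Hom.toOrderHom hi') (0 : Fin (m + 1))
    rw [e]
  · rw [hi, W_end_face F x hx, hs']
  · rw [hi', W_end_face F x hx, hs]
  · have hφ : (imFace p.1 (topFace m)).1 ≠ Finset.univ := by
      rw [← hs, imFace_comp]
      exact proper_imFace (by omega) η _
    rw [face_eq F hk η s p.1 hs p.2 hφ, face_eq F hk' η' s' p.1 hs' p.2 hφ]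

/-- A family on the prism up to dimension `j` over `k` with the prescribed values. -/
def Good (j : ℕ) {Z' : D} (k : Z' ⟶ Z) : Prop :=
  ∃ g : Part L ((FormalCoproduct.incl D).obj Z') (n + 1) j, ∀ (m : ℕ) (hm : m ≤ j) (p : Pr (n + 1) m)
    (v : (FormalCoproduct.incl D).obj Z ⟶ L.obj (op (SimplexCategory.mk m))), W F x m p v →
      g.g m hm p = (FormalCoproduct.incl D).map k ≫ v

/-- The maps along which such a family exists. -/
def goodSieve (j : ℕ) : Sieve Z where
  arrows Z' k := Good F x j k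
  downward_closed := by
    rintro Z' Z'' k ⟨g, hg⟩ e
    refine ⟨⟨fun m hm p => (FormalCoproduct.incl D).map e ≫ g.g m hm p, fun m m' hm hm' θ p => by
      rw [Category.assoc, g.compat m m' hm hm']⟩, fun m hm p v hv => ?_⟩
    change (FormalCoproduct.incl D).map e ≫ g.g m hm p = _
    rw [hg m hm p v hv, Functor.map_comp, Category.assoc]

theorem good_zero (hx : ∀ (m : ℕ) (hm : m ≤ n) (θ : SimplexCategory.mk m ⟶ SimplexCategory.mk (n + 1)),
      x ≫ K.map θ.op = F.g m hm θ ≫ (univ a b m).x) (Z' : D) (k : Z' ⟶ Z) : Good F x 0 k := by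
  refine ⟨⟨fun m _ p => (FormalCoproduct.incl D).map k ≫ x ≫ K.map p.1.op ≫
    (side a b (p.2.toOrderHom (0 : Fin (m + 1)))).app _, fun m m' hm hm' θ p => ?_⟩, fun m hm p v hv => ?_⟩
  · obtain rfl : m = 0 := Nat.le_zero.1 hm
    obtain rfl : m' = 0 := Nat.le_zero.1 hm'
    obtain rfl : θ = 𝟙 _ :=
      SimplexCategory.Hom.ext _ _ (OrderHom.ext _ _ (funext fun i => Subsingleton.elim (α := Fin 1) _ _))
    simp [res]
  · obtain rfl : m = 0 := Nat.le_zero.1 hm
    refine congrArg ((FormalCoproduct.incl D).map k ≫ ·) (W_unique F x hx p (Or.inl ⟨_, ?_, rfl⟩) hv)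
    exact SimplexCategory.Hom.ext _ _ (OrderHom.ext _ _ (funext fun i => by
      rw [Subsingleton.elim (α := Fin 1) i 0]
      rfl))

variable [∀ (n : ℕ) (F : (SimplexCategory.Truncated n)ᵒᵖ ⥤ FormalCoproduct.{u} D),
      (SimplexCategory.Truncated.inclusion n).op.HasRightKanExtension F]
  (hL : ∀ q : ℕ, Cov J (((SimplicialObject.coskAdj q).unit.app L).app (op (SimplexCategory.mk (q + 1)))))

include hL in
theorem good_succ (hx : ∀ (m : ℕ) (hm : m ≤ n) (θ : SimplexCategory.mk m ⟶ SimplexCategory.mk (n + 1)),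
      x ≫ K.map θ.op = F.g m hm θ ≫ (univ a b m).x) (j : ℕ) {Z' : D} (k : Z' ⟶ Z) (hk : Good F x j k) :
    (goodSieve F x (j + 1)).pullback k ∈ J Z' := by
  classical
  obtain ⟨g, hg⟩ := hk
  let fam : ∀ p : Pr (n + 1) (j + 1), Family L j (j + 1) Z' := fun p =>
    { g := fun m hm θ => g.g m hm (res θ p)
      compat := fun m m' hm hm' φ θ => by rw [g.compat m m' hm hm', res_res] }
  choose S hS hfill using fun p => fill_of_cov J (hL j) (fam p)
  obtain ⟨T, hT, hTS⟩ := covering_inter hS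
  refine J.superset_covering ?_ hT
  intro Z'' k' hk'
  have hA : ∀ (m : ℕ), m = j + 1 → ∀ p : Pr (n + 1) m,
      ∃ α : (FormalCoproduct.incl D).obj Z'' ⟶ L.obj (op (SimplexCategory.mk m)),
      ∀ (m' : ℕ) (hm' : m' ≤ j) (θ : SimplexCategory.mk m' ⟶ SimplexCategory.mk m),
        α ≫ L.map θ.op = (FormalCoproduct.incl D).map k' ≫ g.g m' hm' (res θ p) := by
    rintro m rfl p
    exact hfill p k' (hTS p _ hk')
  have hge : ∀ (m : ℕ), m ≤ j + 1 → ∀ (p : Pr (n + 1) m), ¬ dim p ≤ j → m = j + 1 := fun m hm p h => by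
    have := dim_le_self p
    omega
  let val : ∀ (m : ℕ), m ≤ j + 1 → Pr (n + 1) m →
      ((FormalCoproduct.incl D).obj Z'' ⟶ L.obj (op (SimplexCategory.mk m))) := fun m hm p =>
    if h : ∃ v, W F x m p v then (FormalCoproduct.incl D).map (k' ≫ k) ≫ h.choose
    else if h' : dim p ≤ j then
      (FormalCoproduct.incl D).map k' ≫ g.g (dim p) h' (res (sec p) p) ≫ L.map (deg p).op
    else (hA m (hge m hm p h') p).choose
  have F₂ : ∀ m hm p v, W F x m p v → val m hm p = (FormalCoproduct.incl D).map (k' ≫ k) ≫ v := by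
    intro m hm p v hv
    have h : ∃ v, W F x m p v := ⟨v, hv⟩
    simp only [val, dif_pos h]
    rw [W_unique F x hx p h.choose_spec hv]
  have F₃ : ∀ m hm p (hd : dim p ≤ j), val m hm p =
      (FormalCoproduct.incl D).map k' ≫ g.g (dim p) hd (res (sec p) p) ≫ L.map (deg p).op := by
    intro m hm p hd
    by_cases h : ∃ v, W F x m p v
    · obtain ⟨v, hv⟩ := h
      have e : v ≫ L.map (deg p ≫ sec p).op = v := by
        have h' := W_res F x (deg p ≫ sec p) p hv
        rw [res_deg_sec] at h'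
        exact W_unique F x hx p h' hv
      rw [F₂ m hm p v hv, hg (dim p) hd _ _ (W_res F x (sec p) p hv)]
      conv_lhs => rw [← e]
      simp only [Functor.map_comp, op_comp, Category.assoc]
    · simp only [val, dif_neg h, dif_pos hd]
  have F₁ : ∀ m (hm : m ≤ j + 1) (hm' : m ≤ j) p, val m hm p =
      (FormalCoproduct.incl D).map k' ≫ g.g m hm' p := by
    intro m hm hm' p
    rw [F₃ m hm p (le_trans (dim_le_self p) hm'), ← g.canon hm' p (𝟙 _) p (res_id p) _, op_id, L.map_id,
      Category.comp_id]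
  refine ⟨⟨val, fun m m' hm hm' θ p => ?_⟩, fun m hm p v hv => F₂ m hm p v hv⟩
  by_cases h : ∃ v, W F x m p v
  · obtain ⟨v, hv⟩ := h
    rw [F₂ m hm p v hv, F₂ m' hm' _ _ (W_res F x θ p hv), Category.assoc]
  by_cases hd : dim p ≤ j
  · have hd' : dim (res θ p) ≤ j := le_trans (dim_res_le θ p) hd
    rw [F₃ m hm p hd, F₃ m' hm' _ hd', Category.assoc, Category.assoc, ← L.map_comp, ← op_comp]
    refine congrArg (_ ≫ ·) (g.canon hd (res (sec p) p) (θ ≫ deg p) (res θ p) ?_ hd')
    rw [← res_res, res_res (deg p), res_deg_sec]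
  have hval : val m hm p = (hA m (hge m hm p hd) p).choose := by
    simp only [val, dif_neg h, dif_neg hd]
  have hα := (hA m (hge m hm p hd) p).choose_spec
  by_cases hm'j : m' ≤ j
  · rw [hval, hα m' hm'j θ, F₁ m' hm' hm'j]
  have em : m = j + 1 := hge m hm p hd
  have em' : m' = j + 1 := by omega
  subst em em'
  by_cases hmono : Mono θ
  · obtain rfl : θ = 𝟙 _ := SimplexCategory.eq_id_of_mono θ
    rw [op_id, L.map_id, Category.comp_id, res_id]
  let i := image.ι θ
  let e := factorThruImage θ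
  let l := (image θ).len
  have hl : l ≤ j := by
    have h₁ : l ≤ j + 1 := SimplexCategory.len_le_of_mono i
    by_contra hl'
    have h₂ : SimplexCategory.mk (j + 1) = image θ := SimplexCategory.ext (by
      change j + 1 = l
      omega)
    apply hmono
    haveI : Mono e := by
      rw [show e = (e ≫ eqToHom h₂.symm) ≫ eqToHom h₂ by simp]
      haveI : Mono (e ≫ eqToHom h₂.symm) := by
        rw [SimplexCategory.eq_id_of_epi (e ≫ eqToHom h₂.symm)]
        infer_instance
      infer_instance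
    rw [← image.fac θ]
    infer_instance
  have hd' : dim (res θ p) ≤ j := by
    have e₁ : res θ p = res e (res (q := n + 1) (m' := l) i p) := by
      rw [res_res]
      exact congrArg (fun t => res t p) (image.fac θ).symm
    rw [e₁]
    exact le_trans (dim_res_le _ _) (le_trans (dim_le_self _) hl)
  rw [hval, F₃ _ hm' _ hd', ← g.canon hl (res i p) e (res θ p) (by
    rw [res_res]
    exact congrArg (fun t => res t p) (image.fac θ)) hd', ← Category.assoc ((FormalCoproduct.incl D).map k'),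
    ← hα l hl i, Category.assoc, ← L.map_comp, ← op_comp]
  exact congrArg (fun t => _ ≫ L.map t) (congrArg Quiver.Hom.op (image.fac θ).symm)

include hL in
theorem goodSieve_mem (hx : ∀ (m : ℕ) (hm : m ≤ n) (θ : SimplexCategory.mk m ⟶ SimplexCategory.mk (n + 1)),
      x ≫ K.map θ.op = F.g m hm θ ≫ (univ a b m).x) (j : ℕ) : goodSieve F x j ∈ J Z := by
  induction j with
  | zero => exact J.superset_covering (fun Z' k _ => good_zero F x hx Z' k) (J.top_mem _)
  | succ j ih => exact J.transitive ih _ fun Z' k hk => good_succ F x hL hx j k hk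

include hL in
theorem cov_eqz (hK : ∀ q : ℕ, Cov J (((SimplicialObject.coskAdj q).unit.app K).app (op (SimplexCategory.mk (q + 1)))))
    (n : ℕ) :
    Cov J (((SimplicialObject.coskAdj n).unit.app (eqz a b)).app (op (SimplexCategory.mk (n + 1)))) := by
  refine cov_unit J n (n + 1) fun Y F₀ => ?_
  let G : Family K n (n + 1) Y :=
    { g := fun m hm θ => F₀.g m hm θ ≫ (proj a b).app _
      compat := fun m m' hm hm' φ θ => by
        rw [Category.assoc, ← (proj a b).naturality, ← Category.assoc, F₀.compat m m' hm hm'] }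
  obtain ⟨S, hS, hfill⟩ := fill_of_cov J (hK n) G
  let F : ∀ {Z : D} (k : Z ⟶ Y), Family (eqz a b) n (n + 1) Z := fun {Z} k =>
    { g := fun m hm θ => (FormalCoproduct.incl D).map k ≫ F₀.g m hm θ
      compat := fun m m' hm hm' φ θ => by rw [Category.assoc, F₀.compat m m' hm hm'] }
  have hx : ∀ {Z : D} (k : Z ⟶ Y) (hk : S k) (m : ℕ) (hm : m ≤ n)
      (θ : SimplexCategory.mk m ⟶ SimplexCategory.mk (n + 1)),
      (hfill k hk).choose ≫ K.map θ.op = (F k).g m hm θ ≫ (univ a b m).x := fun {Z} k hk m hm θ =>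
    ((hfill k hk).choose_spec m hm θ).trans (Category.assoc _ _ _).symm
  refine ⟨_, J.bind_covering hS (R := fun {Z} k hk => goodSieve (F k) (hfill k hk).choose (n + 1 + 1))
    (fun {Z} k hk => goodSieve_mem (F k) _ hL (hx k hk) _), ?_⟩
  rintro Z' _ ⟨Z, k', k, hk, ⟨g, hg⟩, rfl⟩
  let T : Pt a b ((FormalCoproduct.incl D).obj Z') (n + 1) :=
    { x := (FormalCoproduct.incl D).map k' ≫ (hfill k hk).choose
      P := g
      hend := fun m hm φ i => by
        rw [hg m hm (φ, _) _ (Or.inl ⟨i, rfl, rfl⟩), Category.assoc] }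
  refine ⟨T.lift, fun m hm θ => ?_⟩
  refine lvl_hom_ext ?_ fun l hl r => ?_
  · change (T.lift ≫ lvlMap a b θ) ≫ _ = _
    rw [Category.assoc, lvlMap_x, ← Category.assoc, T.lift_x, Category.assoc, hx k hk m hm θ,
      ← Category.assoc, ← Category.assoc]
    rw [Functor.map_comp]
  · change (T.lift ≫ lvlMap a b θ) ≫ _ = _
    change l ≤ m + 1 at hl
    have hl' : l ≤ n + 1 + 1 := by omega
    rw [← Part.all_eq _ l hl, Category.assoc, lvlMap_all, T.lift_all, Part.all_eq _ l hl',
      hg l hl' _ _ (Or.inr ⟨m, hm, θ, r.1, rfl, rfl⟩), Part.all_eq _ l hl]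
    simp only [F, Functor.map_comp, Category.assoc]

theorem exists_vertex (hL : Cov J (((SimplicialObject.coskAdj 0).unit.app L).app (op (SimplexCategory.mk (0 + 1)))))
    {Y : D} (x : (FormalCoproduct.incl D).obj Y ⟶ K.obj (op (SimplexCategory.mk 0))) :
    ∃ S ∈ J Y, ∀ {Z : D} (k : Z ⟶ Y), S k →
      Nonempty ((FormalCoproduct.incl D).obj Z ⟶ (eqz a b).obj (op (SimplexCategory.mk 0))) := by
  obtain ⟨S, hS, hfill⟩ := fill_pair hL (x ≫ a.app _) (x ≫ b.app _)
  refine ⟨S, hS, fun {Z} k hk => ?_⟩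
  obtain ⟨h, h₁, h₀⟩ := hfill k hk
  let x' := (FormalCoproduct.incl D).map k ≫ x
  have hh : ∀ i : Fin 2, h ≫ L.map (SimplexCategory.const (SimplexCategory.mk 0) (SimplexCategory.mk 1) i).op =
      x' ≫ (side a b i).app _ := by
    intro i
    fin_cases i
    · have e : SimplexCategory.const (SimplexCategory.mk 0) (SimplexCategory.mk 1) (0 : Fin 2) =
          SimplexCategory.δ 1 := SimplexCategory.Hom.ext _ _ (OrderHom.ext _ _ (funext fun i => by
            fin_cases i; rfl))
      refine (congrArg (fun t => h ≫ L.map t) (congrArg Quiver.Hom.op e)).trans (h₁.trans ?_)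
      exact (Category.assoc _ _ _).symm
    · have e : SimplexCategory.const (SimplexCategory.mk 0) (SimplexCategory.mk 1) (1 : Fin 2) =
          SimplexCategory.δ 0 := SimplexCategory.Hom.ext _ _ (OrderHom.ext _ _ (funext fun i => by
            fin_cases i; rfl))
      refine (congrArg (fun t => h ≫ L.map t) (congrArg Quiver.Hom.op e)).trans (h₀.trans ?_)
      exact (Category.assoc _ _ _).symm
  refine ⟨Pt.lift (a := a) (b := b) (q := 0)
    { x := x'
      P := { g := fun m _ p => h ≫ L.map p.2.op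
             compat := fun m m' _ _ θ p => by rw [Category.assoc, ← L.map_comp]; rfl }
      hend := fun m hm φ i => ?_ }⟩
  have e : SimplexCategory.const (SimplexCategory.mk m) (SimplexCategory.mk 1) i =
      φ ≫ SimplexCategory.const (SimplexCategory.mk 0) (SimplexCategory.mk 1) i :=
    SimplexCategory.Hom.ext _ _ (OrderHom.ext _ _ rfl)
  change h ≫ L.map (SimplexCategory.const _ _ i).op = _
  rw [e, op_comp, L.map_comp, ← Category.assoc, hh i, Category.assoc, ← (side a b i).naturality]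

end Groth.Agent.HyperLib.Prism
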