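import Groth.Agent.HyperLib.Free

/-!
# Verdier hypercoverings from the covering criteria
-/

set_option autoImplicit false
set_option backward.isDefEq.respectTransparency false

universe u

open CategoryTheory CategoryTheory.Limits Opposite

namespace Groth.Agent.HyperLib

variable {D : Type u} [SmallCategory D] {J : GrothendieckTopology D}

/-- The maps to `U` from objects having a map to `K₀`. -/
def vertexSieve (K : SimplicialObject (FormalCoproduct.{u} D)) (U : D) : Sieve U where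
  arrows Z _ := Nonempty ((FormalCoproduct.incl D).obj Z ⟶ K.obj (op (SimplexCategory.mk 0)))
  downward_closed := by
    rintro Z W h ⟨a⟩ e
    exact ⟨(FormalCoproduct.incl D).map e ≫ a⟩

/-- The two vertices as a compatible family. -/
def pairFamily (K : SimplicialObject (FormalCoproduct.{u} D)) {Y : D}
    (t₀ t₁ : (FormalCoproduct.incl D).obj Y ⟶ K.obj (op (SimplexCategory.mk 0))) : Family K 0 1 Y where
  g m hm θ := (if θ.toOrderHom 0 = 0 then t₀ else t₁) ≫
    K.map (SimplexCategory.const (SimplexCategory.mk m) (SimplexCategory.mk 0) 0).op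
  compat m m' hm hm' φ θ := by
    obtain rfl : m = 0 := Nat.le_zero.1 hm
    obtain rfl : m' = 0 := Nat.le_zero.1 hm'
    have hφ : φ = 𝟙 _ := SimplexCategory.Hom.ext _ _ (OrderHom.ext _ _ (funext fun i => Subsingleton.elim (α := Fin 1) _ _))
    subst hφ
    simp

variable [∀ (n : ℕ) (F : (SimplexCategory.Truncated n)ᵒᵖ ⥤ FormalCoproduct.{u} D),
      (SimplexCategory.Truncated.inclusion n).op.HasRightKanExtension F]

theorem fill_pair {K : SimplicialObject (FormalCoproduct.{u} D)}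
    (h : Cov J (((SimplicialObject.coskAdj 0).unit.app K).app (op (SimplexCategory.mk (0 + 1)))))
    {Y : D} (t₀ t₁ : (FormalCoproduct.incl D).obj Y ⟶ K.obj (op (SimplexCategory.mk 0))) :
    ∃ S ∈ J Y, ∀ {Z : D} (k : Z ⟶ Y), S k →
      ∃ a : (FormalCoproduct.incl D).obj Z ⟶ K.obj (op (SimplexCategory.mk 1)),
        a ≫ K.δ (1 : Fin 2) = (FormalCoproduct.incl D).map k ≫ t₀ ∧
        a ≫ K.δ (0 : Fin 2) = (FormalCoproduct.incl D).map k ≫ t₁ := by
  obtain ⟨S, hS, hfill⟩ := fill_of_cov J h (pairFamily K t₀ t₁)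
  refine ⟨S, hS, fun {Z} k hk => ?_⟩
  obtain ⟨a, ha⟩ := hfill k hk
  have hc : SimplexCategory.const (SimplexCategory.mk 0) (SimplexCategory.mk 0) 0 = 𝟙 _ :=
    SimplexCategory.Hom.ext _ _ (OrderHom.ext _ _ (funext fun i => Subsingleton.elim (α := Fin 1) _ _))
  refine ⟨a, (ha 0 le_rfl (SimplexCategory.δ 1)).trans ?_, (ha 0 le_rfl (SimplexCategory.δ 0)).trans ?_⟩
  · have e : (SimplexCategory.δ (1 : Fin 2)).toOrderHom 0 = 0 := rfl
    simp [pairFamily, e, hc]
  · have e : ¬ (SimplexCategory.δ (0 : Fin 2)).toOrderHom 0 = 0 := by decide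
    simp [pairFamily, e, hc]

theorem isHypercoveringSite {K : SimplicialObject (FormalCoproduct.{u} D)}
    (h0 : ∀ U : D, vertexSieve K U ∈ J U)
    (h : ∀ n : ℕ, Cov J (((SimplicialObject.coskAdj n).unit.app K).app (op (SimplexCategory.mk (n + 1))))) :
    Hyper.IsHypercoveringSite J K := by
  refine ⟨⟨fun {U} s => ?_⟩, ⟨fun {U} s => ?_⟩, fun n _ => (h n).isLocallySurjective J⟩
  · refine J.superset_covering ?_ (h0 U)
    rintro Z k ⟨a⟩
    refine ⟨elt a, ?_⟩
    exact @Subsingleton.elim _ (Types.isTerminalEquivUnique _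
      (IsTerminal.isTerminalObj ((evaluation _ _).obj (op Z)) _ terminalIsTerminal)).instSubsingleton _ _
  · obtain ⟨t₀, ht₀⟩ := elt_surjective ((prod.fst : _ ⟶ FormalCoproduct.yoneda.obj (K.obj (op (SimplexCategory.mk 0)))).app (op U) s)
    obtain ⟨t₁, ht₁⟩ := elt_surjective ((prod.snd : _ ⟶ FormalCoproduct.yoneda.obj (K.obj (op (SimplexCategory.mk 0)))).app (op U) s)
    obtain ⟨S, hS, hfill⟩ := fill_pair (h 0) t₀ t₁
    refine J.superset_covering ?_ hS
    intro Z k hk
    obtain ⟨a, ha₀, ha₁⟩ := hfill k hk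
    refine ⟨elt a, ?_⟩
    refine Concrete.isLimit_ext _ (isLimitOfPreserves ((evaluation _ _).obj (op Z))
      (prodIsProd (FormalCoproduct.yoneda.obj (K.obj (op (SimplexCategory.mk 0))))
        (FormalCoproduct.yoneda.obj (K.obj (op (SimplexCategory.mk 0)))))) _ _ ?_
    rintro ⟨_ | _⟩
    · change (prod.fst : (FormalCoproduct.yoneda.obj (K.obj (op (SimplexCategory.mk 0)))) ⨯ (FormalCoproduct.yoneda.obj (K.obj (op (SimplexCategory.mk 0)))) ⟶ _).app (op Z) _ = (prod.fst : (FormalCoproduct.yoneda.obj (K.obj (op (SimplexCategory.mk 0)))) ⨯ (FormalCoproduct.yoneda.obj (K.obj (op (SimplexCategory.mk 0)))) ⟶ _).app (op Z) _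
      rw [← ConcreteCategory.comp_apply, ← NatTrans.comp_app, prod.lift_fst, elt_comp, ha₀, ← map_elt, ht₀]
      exact (NatTrans.naturality_apply (prod.fst : _ ⟶ FormalCoproduct.yoneda.obj _) k.op s).symm
    · change (prod.snd : (FormalCoproduct.yoneda.obj (K.obj (op (SimplexCategory.mk 0)))) ⨯ (FormalCoproduct.yoneda.obj (K.obj (op (SimplexCategory.mk 0)))) ⟶ _).app (op Z) _ = (prod.snd : (FormalCoproduct.yoneda.obj (K.obj (op (SimplexCategory.mk 0)))) ⨯ (FormalCoproduct.yoneda.obj (K.obj (op (SimplexCategory.mk 0)))) ⟶ _).app (op Z) _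
      rw [← ConcreteCategory.comp_apply, ← NatTrans.comp_app, prod.lift_snd, elt_comp, ha₁, ← map_elt, ht₁]
      exact (NatTrans.naturality_apply (prod.snd : _ ⟶ FormalCoproduct.yoneda.obj _) k.op s).symm

end Groth.Agent.HyperLib
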